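import Groth.Agent.CurvLib.Divisor
import Groth.Agent.AmpleThLib.Locus

/-!
The canonical section of `O(D)`: an inverse of an ideal sheaf has a section generating exactly off the support.
-/

set_option autoImplicit false

universe u

open CategoryTheory CategoryTheory.Limits AlgebraicGeometry TopologicalSpace DevissLib CurvLib
open AmpleLib
open TwistLib (genSet)

noncomputable section

namespace AVAmpleLib

variable {X : Scheme.{u}}

theorem support_quotMod (I : X.IdealSheafData) :
    CohB1.support (ClSub.quotMod I) = (I.support : Set X) := by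
  refine (support_quotMod_subset I).antisymm fun x hx => ?_
  obtain ⟨z, rfl⟩ := (I.range_subschemeι.symm.le hx : x ∈ Set.range I.subschemeι)
  refine (mem_support_iff_nonzero _ _).mpr
    ⟨gm (ClSub.quotMod I) (U := ⊤) (I.subschemeι z) trivial (1 : Γ(I.subscheme, I.subschemeι ⁻¹ᵁ ⊤)), fun h => ?_⟩
  rw [← gm_zero (ClSub.quotMod I) (U := ⊤) (I.subschemeι z) trivial] at h
  obtain ⟨W, hxW, i₁, i₂, hW⟩ := TopCat.Presheaf.germ_eq _ _ _ _ _ _ h
  have h10 : (1 : Γ(I.subscheme, I.subschemeι ⁻¹ᵁ W)) = 0 := by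
    have e : ((ClSub.quotMod I).presheaf.map i₁.op (1 : Γ(I.subscheme, I.subschemeι ⁻¹ᵁ ⊤)) :) =
        (1 : Γ(I.subscheme, I.subschemeι ⁻¹ᵁ W)) :=
      map_one (I.subscheme.presheaf.map ((Opens.map I.subschemeι.base).map i₁).op).hom
    exact e.symm.trans (hW.trans (map_zero _))
  have := congrArg (I.subscheme.presheaf.germ (I.subschemeι ⁻¹ᵁ W) z hxW) h10
  rw [map_one, map_zero] at this
  exact one_ne_zero this

theorem bijective_stalk_iff {S : ShortComplex X.Modules} (hS : S.ShortExact) (x : X) :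
    Function.Bijective ((St x).map S.f).hom ↔ x ∉ CohB1.support S.X₃ := by
  have hx := hS.map_of_exact (St x)
  have hinj := (ModuleCat.mono_iff_injective _).mp hx.mono_f
  have hsur := (ModuleCat.epi_iff_surjective _).mp hx.epi_g
  have hex := (ShortComplex.moduleCat_exact_iff _).mp hx.exact
  constructor
  · intro h hc
    obtain ⟨a, ha⟩ := (mem_support_iff_nonzero _ x).mp hc
    obtain ⟨b, rfl⟩ := hsur a
    obtain ⟨c, rfl⟩ := h.2 b
    refine ha ?_
    exact congr($((S.map (St x)).zero).hom c)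
  · intro h
    haveI : Subsingleton ((St x).obj S.X₃) := not_not.mp h
    exact ⟨hinj, fun b => hex b (Subsingleton.elim (α := (St x).obj S.X₃) _ _)⟩

theorem genAt_unit_hom {M : X.Modules} (f : Coh.structureModule X ⟶ M) (x : X) :
    GenAt M (f.app ⊤ (1 : Γ(X, ⊤))) (show x ∈ (⊤ : X.Opens) from trivial) ↔
      Function.Bijective ((St x).map f).hom := by
  have h1 := (one_genOn (X := X) ⊤).genAt (x := x) (trivial : x ∈ (⊤ : X.Opens))
  let g := ((DerSch.stalkFunctor X x).map f).hom
  have e : (fun c : X.presheaf.stalk x => c • M.presheaf.germ ⊤ x trivial (f.app ⊤ (1 : Γ(X, ⊤)))) =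
      ⇑g ∘ fun c : X.presheaf.stalk x =>
        c • (Coh.structureModule X).presheaf.germ ⊤ x trivial (1 : Γ(X, ⊤)) :=
    funext fun c => ((g.map_smul c _).trans
      (congrArg (c • ·) (DerSch.stalkFunctor_map_germ x f ⊤ trivial (1 : Γ(X, ⊤))))).symm
  rw [GenAt, e]
  exact Function.Bijective.of_comp_iff _ h1

theorem exists_section {L : X.Modules} (hL : PicF.IsInvertible L) {I : X.IdealSheafData}
    (hLI : ClSub.IsInverseOf L (ClSub.idealMod I)) :
    ∃ σ : Γ(L, ⊤), (genSet hL σ : Set X) = (I.support : Set X)ᶜ := by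
  have hL1 := locFree_of_isInvertible hL
  have hT := shortExact_tensor_locFree hL1 (idealSeq_shortExact I)
  obtain ⟨φ⟩ := hLI
  let w : CohB1.tensorMod L (Coh.structureModule X) ≅ L :=
    KFlatLib.tensSwap (Coh.structureModule X) L ≪≫ KFlatLib.tensUnitIso L
  let f : Coh.structureModule X ⟶ L := φ.inv ≫ ((idealSeq I).map (tensorLeft' L)).f ≫ w.hom
  refine ⟨f.app ⊤ (1 : Γ(X, ⊤)), Set.ext fun x => ?_⟩
  change GenAt L (f.app ⊤ (1 : Γ(X, ⊤))) (show x ∈ (⊤ : X.Opens) from trivial) ↔ x ∉ (I.support : Set X)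
  rw [genAt_unit_hom, ← support_quotMod]
  have b1 : Function.Bijective ((St x).map φ.inv).hom :=
    ConcreteCategory.bijective_of_isIso ((St x).map φ.inv)
  have b2 : Function.Bijective ((St x).map w.hom).hom :=
    ConcreteCategory.bijective_of_isIso ((St x).map w.hom)
  have e : ⇑((St x).map f).hom = ⇑((St x).map w.hom).hom ∘
      ⇑((St x).map ((idealSeq I).map (tensorLeft' L)).f).hom ∘ ⇑((St x).map φ.inv).hom := by
    funext c
    simp only [f, Functor.map_comp]
    rfl
  rw [e]
  refine ((Function.Bijective.of_comp_iff' b2 _).trans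
    ((Function.Bijective.of_comp_iff _ b1).trans (bijective_stalk_iff hT x))).trans ?_
  obtain ⟨eQ⟩ := nonempty_stalk_tensor_locFree hL1 (ClSub.quotMod I) x
  let sw : ((idealSeq I).map (tensorLeft' L)).X₃ ≅ CohB1.tensorMod (ClSub.quotMod I) L :=
    KFlatLib.tensSwap (ClSub.quotMod I) L
  let e' := ((St x).mapIso sw).toLinearEquiv.toEquiv.trans
    (eQ.toEquiv.trans (Equiv.funUnique (Fin 1) ((St x).obj (ClSub.quotMod I))))
  refine not_congr ?_
  change ¬ Subsingleton _ ↔ ¬ Subsingleton _
  exact not_congr e'.subsingleton_congr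

end AVAmpleLib
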