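import Groth.Agent.AVAmpleLib.AmpleClosed
import Groth.Agent.AVAmpleLib.CartierSection
import Groth.Agent.S2491
import Mathlib.FieldTheory.IsAlgClosed.AlgebraicClosure

/-!
An effective divisor with affine complement is ample (any field).
-/

set_option autoImplicit false
set_option maxRecDepth 8000
set_option maxHeartbeats 1000000
set_option linter.unusedSectionVars false
set_option linter.style.haveILetI false

noncomputable section

universe u

open CategoryTheory MonoidalCategory CartesianMonoidalCategory MonObj AlgebraicGeometry TopologicalSpace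
open TwistLib (genSet)

namespace AVAmpleLib

variable {K : Type u} [Field K] {A : Over (Spec (CommRingCat.of K))} [GrpObj A]
  [IsProper A.hom] [GeometricallyIntegral A.hom] {L : A.left.Modules} (hL : PicF.IsInvertible L)

theorem isAmple_of_affine_locus' {U : A.left.Opens} (hU : IsAffineOpen U) (hne : (U : Set A.left).Nonempty)
    (σ : Γ(L, ⊤)) (hσ : genSet hL σ = U) : CohB1.IsAmple L := by
  let g : Spec (CommRingCat.of (AlgebraicClosure K)) ⟶ Spec (CommRingCat.of K) :=
    Spec.map (CommRingCat.ofHom (algebraMap K (AlgebraicClosure K)))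
  haveI : Surjective g := ⟨fun x => ⟨default, Subsingleton.elim (α := PrimeSpectrum K) _ _⟩⟩
  haveI : Flat g := by
    rw [HasRingHomProperty.Spec_iff (P := @Flat), CommRingCat.hom_ofHom, RingHom.flat_algebraMap_iff]
    infer_instance
  haveI : IsAffineHom g := isAffineHom_of_isAffine g
  refine Groth.Agent.S2491.result A.hom g L hL ?_
  let A' := (Over.pullback g).obj A
  letI : GrpObj A' := Functor.grpObjObj
  haveI : IsProper A'.hom := inferInstanceAs (IsProper (Limits.pullback.snd A.hom g))
  haveI : GeometricallyIntegral A'.hom :=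
    inferInstanceAs (GeometricallyIntegral (Limits.pullback.snd A.hom g))
  let p : A'.left ⟶ A.left := Limits.pullback.fst A.hom g
  haveI : IsAffineHom p := MorphismProperty.pullback_fst (P := @IsAffineHom) A.hom g ‹_›
  haveI : Surjective p := inferInstanceAs (Surjective (Limits.pullback.fst A.hom g))
  obtain ⟨u, hu⟩ := hne
  obtain ⟨u', rfl⟩ := p.surjective u
  exact isAmple_of_affine_locus (A := A') (AmpleDevLib.isInvertible_pb p hL) (hU.preimage p) ⟨u', hu⟩
    (KFlatLib.puSec p σ) ((AmpleDevLib.genSet_puSec p hL σ).trans (congrArg (p ⁻¹ᵁ ·) hσ))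

include hL in
theorem isAmple_of_effCartier {U : A.left.Opens} (hU : IsAffineOpen U) (hne : (U : Set A.left).Nonempty)
    {I : A.left.IdealSheafData} (hsupp : (I.support : Set A.left) = (U : Set A.left)ᶜ)
    (hLI : ClSub.IsInverseOf L (ClSub.idealMod I)) : CohB1.IsAmple L := by
  obtain ⟨σ, hσ⟩ := exists_section hL hLI
  exact isAmple_of_affine_locus' hL hU hne σ (Opens.ext (by rw [hσ, hsupp, compl_compl]))

end AVAmpleLib
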