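import Groth.Agent.AVAmpleLib.Translate
import Groth.Agent.MiscFlat6.AmpleTensor
import Groth.Agent.AmpleThLib.Ample
import Groth.Agent.MiscFlat6.AmpleGen

/-!
An effective divisor with affine complement is ample (algebraically closed field).
-/

set_option autoImplicit false
set_option maxRecDepth 8000
set_option maxHeartbeats 1000000
set_option linter.unusedSectionVars false
set_option linter.style.haveILetI false

noncomputable section

universe u

open CategoryTheory MonoidalCategory CartesianMonoidalCategory MonObj AlgebraicGeometry TopologicalSpace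
open AmpleThLib
open TwistLib (genSet)
open CubeConsLib

namespace AVAmpleLib

variable {K : Type u} [Field K] {A : Over (Spec (CommRingCat.of K))} [GrpObj A]
  [IsProper A.hom] [GeometricallyIntegral A.hom] {L : A.left.Modules} (hL : PicF.IsInvertible L)

/-- The theorem of the square on opposite translates. -/
theorem square (a : 𝟙_ (Over (Spec (CommRingCat.of K))) ⟶ A) :
    P hL (tR a) + P hL (tR a⁻¹) = clA hL + clA hL := by
  have h := cube_field hL (𝟙 A) (toUnit A ≫ a) (toUnit A ≫ a⁻¹)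
  rw [P_const, P_const, add_zero, add_zero, ← MonObj.comp_mul, mul_inv_cancel, MonObj.comp_one,
    _root_.mul_assoc, ← MonObj.comp_mul, mul_inv_cancel, MonObj.comp_one, _root_.mul_one, P_zero hL,
    add_zero, P_id] at h
  exact h.symm

theorem irreducibleSpace_left : IrreducibleSpace A.left :=
  haveI : IsIntegral A.left := GeometricallyIntegral.isIntegral_of_subsingleton A.hom
  inferInstance

variable [IsAlgClosed K]

/-- every point lies in a translated locus of `L ⊗ L` -/
theorem exists_translated_locus {U : A.left.Opens} (hU : (U : Set A.left).Nonempty)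
    (σ : Γ(L, ⊤)) (hσ : genSet hL σ = U) (y : A.left) :
    ∃ a : 𝟙_ (Over (Spec (CommRingCat.of K))) ⟶ A,
      y ∈ (tR a).left ⁻¹ᵁ U ⊓ (tR a⁻¹).left ⁻¹ᵁ U ∧
      ∃ τ : Γ(CohB1.tensorMod L L, ⊤),
        genSet (shT_isInvertible hL hL) τ = (tR a).left ⁻¹ᵁ U ⊓ (tR a⁻¹).left ⁻¹ᵁ U := by
  haveI := irreducibleSpace_left (A := A)
  obtain ⟨a, ha⟩ := exists_translates hU y
  refine ⟨a, ha, ?_⟩
  let L₁ := (Scheme.Modules.pullback (tR a).left).obj L
  let L₂ := (Scheme.Modules.pullback (tR a⁻¹).left).obj L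
  have h₁ : PicF.IsInvertible L₁ := AmpleDevLib.isInvertible_pb _ hL
  have h₂ : PicF.IsInvertible L₂ := AmpleDevLib.isInvertible_pb _ hL
  obtain ⟨φ⟩ : Nonempty (CohB1.tensorMod L₁ L₂ ≅ CohB1.tensorMod L L) := by
    rw [← clA_eq_iff (HilbPolyLib.isInvertible_tensor h₁ h₂) (HilbPolyLib.isInvertible_tensor hL hL),
      clA_tensor h₁ h₂, clA_tensor hL hL, ← square hL a, P_eq, P_eq]
  refine ⟨φ.hom.app ⊤ (AmpleLib.shT (M := L₁) (N := L₂) (KFlatLib.puSec (tR a).left σ)
    (KFlatLib.puSec (tR a⁻¹).left σ)), ?_⟩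
  refine (genSet_iso (shT_isInvertible h₁ h₂) (shT_isInvertible hL hL) φ _).trans ?_
  refine (genSet_shT h₁ h₂ _ _).trans ?_
  rw [← hσ]
  congr 1
  · exact AmpleDevLib.genSet_puSec (tR a).left hL σ
  · exact AmpleDevLib.genSet_puSec (tR a⁻¹).left hL σ

theorem isAmple_of_affine_locus {U : A.left.Opens} (hU : IsAffineOpen U) (hne : (U : Set A.left).Nonempty)
    (σ : Γ(L, ⊤)) (hσ : genSet hL σ = U) : CohB1.IsAmple L := by
  haveI : CompactSpace A.left := QuasiCompact.compactSpace_of_compactSpace A.hom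
  haveI : A.left.IsSeparated := ⟨by rw [← Limits.terminal.comp_from A.hom]; infer_instance⟩
  haveI : QuasiSeparatedSpace A.left := inferInstance
  refine (isAmple_tensorPow_iff hL (n := 2) two_pos).mpr ((isAmple_iff
    (hL := tensorPow_isInvertible hL 2)).mpr ⟨inferInstance, fun y => ?_⟩)
  obtain ⟨a, hy, τ, hτ⟩ := exists_translated_locus hL hne σ hσ y
  haveI (b : 𝟙_ (Over (Spec (CommRingCat.of K))) ⟶ A) : IsIso (tR b).left :=
    inferInstanceAs (IsIso ((Over.forget _).map (tR b)))
  have h1 : IsAffineOpen ((tR a).left ⁻¹ᵁ U) := hU.preimage_of_isIso _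
  have h2 : IsAffineOpen ((tR a⁻¹).left ⁻¹ᵁ U) := hU.preimage_of_isIso _
  obtain ⟨φ⟩ : Nonempty (CohB1.tensorMod L L ≅ CohB1.tensorPow (CohB1.tensorPow L 2) 1) := by
    rw [← clA_eq_iff (HilbPolyLib.isInvertible_tensor hL hL) (tensorPow_isInvertible (tensorPow_isInvertible hL 2) 1),
      clA_pow (tensorPow_isInvertible hL 2), clA_pow hL, one_nsmul, two_nsmul, clA_tensor hL hL]
  exact ⟨1, _, one_pos, ⟨φ.hom.app ⊤ τ, (genSet_iso _ _ φ τ).trans hτ⟩, hy, h1.inf h2⟩

theorem isGloballyGenerated_square {U : A.left.Opens} (hne : (U : Set A.left).Nonempty)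
    (σ : Γ(L, ⊤)) (hσ : genSet hL σ = U) : Curv2.IsGloballyGenerated (CohB1.tensorMod L L) :=
  MiscFlat6.isGloballyGenerated_of_genSections (shT_isInvertible hL hL) fun y =>
    let ⟨_, hy, τ, hτ⟩ := exists_translated_locus hL hne σ hσ y
    ⟨τ, hτ ▸ hy⟩

end AVAmpleLib
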