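import Groth.Agent.AVAmpleLib.CharPolyApp
import Groth.Agent.MiscFlat6.FpqcDesc

/-!
Degrees and Tate representations under extension of the ground field.
-/

set_option autoImplicit false
set_option linter.style.haveILetI false
set_option linter.unusedSectionVars false
set_option backward.isDefEq.respectTransparency false
set_option maxHeartbeats 1000000

noncomputable section

universe u

open CategoryTheory CategoryTheory.Limits MonoidalCategory CartesianMonoidalCategory MonObj AlgebraicGeometry TopologicalSpace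

namespace AVAmpleLib

variable {k : Type u} [Field k] (Ω : Type u) [Field Ω] [Algebra k Ω]

theorem surjective_flat_qc_bc : Surjective (Spec.map (CommRingCat.ofHom (algebraMap k Ω))) ∧
    Flat (Spec.map (CommRingCat.ofHom (algebraMap k Ω))) := by
  refine ⟨⟨fun y => ⟨Classical.arbitrary (PrimeSpectrum Ω), Subsingleton.elim (α := PrimeSpectrum k) _ _⟩⟩, ?_⟩
  rw [HasRingHomProperty.Spec_iff (P := @Flat)]
  show RingHom.Flat (algebraMap k Ω)
  rw [RingHom.flat_algebraMap_iff]
  infer_instance

/-- The square of a morphism and its extension of scalars. -/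
theorem isPullback_bc {X Y : Over (Spec (CommRingCat.of k))} (f : X ⟶ Y) :
    IsPullback (pullback.fst X.hom (Spec.map (CommRingCat.ofHom (algebraMap k Ω)))) ((bcF Ω).map f).left f.left
      (pullback.fst Y.hom (Spec.map (CommRingCat.ofHom (algebraMap k Ω)))) := by
  refine IsPullback.of_bot (v₂₁ := pullback.snd Y.hom _) (v₂₂ := Y.hom)
    (h₃₁ := Spec.map (CommRingCat.ofHom (algebraMap k Ω))) ?_ ?_ (IsPullback.of_hasPullback _ _)
  · have h1 : ((bcF Ω).map f).left ≫ pullback.snd Y.hom (Spec.map (CommRingCat.ofHom (algebraMap k Ω))) =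
        pullback.snd X.hom _ := Over.w ((bcF Ω).map f)
    rw [h1, Over.w f]
    exact IsPullback.of_hasPullback _ _
  · show _ = pullback.lift _ _ _ ≫ pullback.fst _ _
    rw [pullback.lift_fst]

theorem isFinite_bc_iff {X Y : Over (Spec (CommRingCat.of k))} (f : X ⟶ Y) :
    IsFinite ((bcF Ω).map f).left ↔ IsFinite f.left := by
  refine ⟨fun h => ?_, fun h => MorphismProperty.of_isPullback (isPullback_bc Ω f) h⟩
  obtain ⟨h1, h2⟩ := surjective_flat_qc_bc (k := k) Ω
  haveI := AlgSpLib.descendsAlong_isFinite.{u}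
  exact MorphismProperty.of_isPullback_of_descendsAlong (P := @IsFinite)
    (Q := (@Surjective ⊓ @Flat ⊓ @QuasiCompact : MorphismProperty Scheme.{u})) (isPullback_bc Ω f).flip
    ⟨⟨MorphismProperty.pullback_fst _ _ h1, MorphismProperty.pullback_fst _ _ h2⟩,
      MorphismProperty.pullback_fst _ _ inferInstance⟩ h

theorem finrank_bc {X Y : Over (Spec (CommRingCat.of k))} (f : X ⟶ Y) [IsFinite f.left] [Flat f.left] (y : Y.left) :
    ∃ y' : ((bcF Ω).obj Y).left, ((bcF Ω).map f).left.finrank y' = f.left.finrank y := by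
  haveI := (surjective_flat_qc_bc (k := k) Ω).1
  haveI : Surjective (pullback.fst Y.hom (Spec.map (CommRingCat.ofHom (algebraMap k Ω)))) :=
    MorphismProperty.pullback_fst _ _ inferInstance
  obtain ⟨y', hy⟩ := (pullback.fst Y.hom (Spec.map (CommRingCat.ofHom (algebraMap k Ω)))).surjective y
  exact ⟨y', by rw [← hy]; exact Scheme.Hom.finrank_of_isPullback _ _ _ _ (isPullback_bc Ω f) y'⟩

section AV

variable (A B : Over (Spec (CommRingCat.of k))) [GrpObj A] [IsCommMonObj A] [GrpObj B] [IsCommMonObj B]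
  [IsProper A.hom] [GeometricallyIntegral A.hom] [IsProper B.hom] [GeometricallyIntegral B.hom]

attribute [local instance] grpBc commBc isIntegral_left lofp_hom flat_hom

theorem proper_bc : IsProper ((bcF Ω).obj A).hom := inferInstanceAs (IsProper (pullback.snd A.hom _))

theorem gi_bc : GeometricallyIntegral ((bcF Ω).obj A).hom :=
  inferInstanceAs (GeometricallyIntegral (pullback.snd A.hom _))

attribute [local instance] proper_bc gi_bc

/-- The extension of endomorphisms, as a ring map. -/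
def endBc : EndAV.End A →+* EndAV.End ((bcF Ω).obj A) where
  toFun := homBc Ω A A
  map_one' := EndAV.End.ext ((bcF Ω).map_id A)
  map_mul' f h := EndAV.End.ext ((bcF Ω).map_comp _ _)
  map_zero' := map_zero (homBc Ω A A)
  map_add' := map_add (homBc Ω A A)

theorem dim_bc {g : ℕ} (hg : topologicalKrullDim A.left = (g : ℕ)) :
    topologicalKrullDim ((bcF Ω).obj A).left = (g : ℕ) := (dim_pullback_eq A).trans hg

variable [IsAlgClosed Ω] {g : ℕ} (hA : topologicalKrullDim A.left = (g : ℕ))

include hA in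
/-- The degree over the ground field is the degree of the extension. -/
theorem finite_cases_bc (φ : EndAV.End A) {f : A ⟶ A} (hf : EndAV.Hom.toHom φ = f) :
    (IsFinite f.left → ∀ a : A.left, (f.left.finrank a : ℚ) = ndeg g (endBc Ω A φ)) ∧
      (¬ IsFinite f.left → ndeg g (endBc Ω A φ) = 0) := by
  subst hf
  obtain ⟨h1, h2⟩ := finite_cases (dim_bc Ω A hA) (endBc Ω A φ)
    (f := (bcF Ω).map (EndAV.Hom.toHom φ)) rfl
  refine ⟨fun h a => ?_, fun h => h2 fun h' => h ((isFinite_bc_iff Ω _).1 h')⟩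
  haveI := h
  haveI := (flat_of_isFinite (EndAV.Hom.toHom φ) hA hA).1
  obtain ⟨y', hy⟩ := finrank_bc Ω (EndAV.Hom.toHom φ) a
  rw [← hy]
  exact h1 ((isFinite_bc_iff Ω _).2 h) y'

theorem tateRep_bc (l : ℕ) [Fact l.Prime] (φ : EndAV.End A) :
    (tateBc Ω A l).conj (EndAV.End.tateRep (A := A) l (SGA7.pt Ω) φ) =
      EndAV.End.tateRep l (𝟙_ (Over (Spec (CommRingCat.of Ω)))) (endBc Ω A φ) := by
  refine LinearMap.ext fun y => ?_
  obtain ⟨x, rfl⟩ := (tateBc Ω A l).surjective y
  rw [LinearEquiv.conj_apply, LinearMap.comp_apply, LinearMap.comp_apply, LinearEquiv.coe_coe, LinearEquiv.coe_coe,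
    LinearEquiv.symm_apply_apply]
  exact tateBc_natural Ω A A l φ x

include hA in
/-- The integral characteristic polynomial over any ground field. -/
theorem exists_charpoly_bc (φ : EndAV.End A) :
    ∃ P : Polynomial ℤ, P.Monic ∧ P.natDegree = 2 * g ∧
      IsCharPoly g (endBc Ω A φ) (P.map (Int.castRingHom ℚ)) ∧
      ∀ (l : ℕ) [Fact l.Prime], (l : Ω) ≠ 0 → ∀ [Module.Free ℤ_[l] (AbDual.TateMod A l (SGA7.pt (K := k) Ω))]
        [Module.Finite ℤ_[l] (AbDual.TateMod A l (SGA7.pt (K := k) Ω))],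
        (EndAV.End.tateRep (A := A) l (SGA7.pt Ω) φ).charpoly = P.map (Int.castRingHom ℤ_[l]) := by
  obtain ⟨Q, hQ⟩ := exists_isCharPoly (dim_bc Ω A hA) (endBc Ω A φ)
  obtain ⟨P, hm, hd, hP⟩ := exists_int (dim_bc Ω A hA) hQ
  refine ⟨P, hm, hd, hP ▸ hQ, fun l _ hl _ _ => ?_⟩
  haveI := Module.Free.of_equiv (tateBc Ω A l)
  haveI := Module.Finite.equiv (tateBc Ω A l)
  rw [← LinearEquiv.charpoly_conj (tateBc Ω A l), tateRep_bc]
  apply Polynomial.map_injective (algebraMap ℤ_[l] ℚ_[l]) (IsFractionRing.injective _ _)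
  rw [Polynomial.map_map, Subsingleton.elim ((algebraMap ℤ_[l] ℚ_[l]).comp (Int.castRingHom ℤ_[l]))
    ((algebraMap ℚ ℚ_[l]).comp (Int.castRingHom ℚ)), ← Polynomial.map_map, hP]
  exact charpoly_eq (dim_bc Ω A hA) hQ l hl

end AV

end AVAmpleLib

end
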