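import Groth.Agent.AVAmpleLib.HomRank
import Groth.Prelude.Def_SGA7a

/-!
Homomorphisms and Tate modules of abelian varieties under extension to an algebraically closed field.
-/

set_option autoImplicit false
set_option linter.style.haveILetI false
set_option backward.isDefEq.respectTransparency false
set_option maxHeartbeats 1000000

noncomputable section

universe u

open CategoryTheory CategoryTheory.Limits MonoidalCategory CartesianMonoidalCategory MonObj AlgebraicGeometry TopologicalSpace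

namespace AVAmpleLib

/-- An isomorphism of groups of points gives an isomorphism of Tate modules. -/
def tateCongr {S S' : Scheme.{u}} {A T : Over S} [GrpObj A] [IsCommMonObj A] {A' T' : Over S'} [GrpObj A']
    [IsCommMonObj A'] (l : ℕ) [Fact l.Prime] (e : Additive (T ⟶ A) ≃+ Additive (T' ⟶ A')) :
    AbDual.TateMod A l T ≃ₗ[ℤ_[l]] AbDual.TateMod A' l T' where
  toFun x := ⟨fun n => e ((x : ℕ → Additive (T ⟶ A)) n),
    ⟨fun n => by rw [← map_nsmul, x.torsion, map_zero], fun n => by rw [← map_nsmul, x.compat]⟩⟩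
  invFun y := ⟨fun n => e.symm ((y : ℕ → Additive (T' ⟶ A')) n),
    ⟨fun n => by rw [← map_nsmul, y.torsion, map_zero], fun n => by rw [← map_nsmul, y.compat]⟩⟩
  left_inv x := AbDual.TateMod.ext fun _ => e.symm_apply_apply _
  right_inv y := AbDual.TateMod.ext fun _ => e.apply_symm_apply _
  map_add' x y := AbDual.TateMod.ext fun _ => map_add e _ _
  map_smul' c x := AbDual.TateMod.ext fun n => by
    show e ((c.appr n) • (x : ℕ → Additive (T ⟶ A)) n) = (c.appr n) • e ((x : ℕ → Additive (T ⟶ A)) n)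
    rw [map_nsmul]

variable {k : Type u} [Field k] (Ω : Type u) [Field Ω] [Algebra k Ω]

/-- The extension of scalars. -/
abbrev bcF : Over (Spec (CommRingCat.of k)) ⥤ Over (Spec (CommRingCat.of Ω)) :=
  Over.pullback (Spec.map (CommRingCat.ofHom (algebraMap k Ω)))

variable {X Y : Over (Spec (CommRingCat.of k))}

/-- The tautological point. -/
def diagPt : 𝟙_ (Over (Spec (CommRingCat.of Ω))) ⟶ (bcF Ω).obj (SGA7.pt (K := k) Ω) :=
  Over.homMk (pullback.lift (𝟙 _) (𝟙 _) rfl) (pullback.lift_snd _ _ _)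

/-- The points of the extension. -/
def bcPt (a : SGA7.pt (K := k) Ω ⟶ X) : 𝟙_ (Over (Spec (CommRingCat.of Ω))) ⟶ (bcF Ω).obj X :=
  diagPt Ω ≫ (bcF Ω).map a

theorem bcPt_left (a : SGA7.pt (K := k) Ω ⟶ X) :
    (bcPt Ω a).left = pullback.lift a.left (𝟙 _) (by rw [Category.id_comp]; exact Over.w a) := by
  apply pullback.hom_ext
  · simp [bcPt, diagPt]
    exact Category.id_comp _
  · rw [pullback.lift_snd]
    exact Over.w (bcPt Ω a)

theorem bcPt_comp (a : SGA7.pt (K := k) Ω ⟶ X) (f : X ⟶ Y) : bcPt Ω (a ≫ f) = bcPt Ω a ≫ (bcF Ω).map f := by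
  rw [bcPt, bcPt, Functor.map_comp, Category.assoc]

theorem bcPt_bijective : Function.Bijective (bcPt Ω : (SGA7.pt (K := k) Ω ⟶ X) → _) := by
  constructor
  · intro a b h
    have h1 := congrArg (fun c : 𝟙_ (Over (Spec (CommRingCat.of Ω))) ⟶ (bcF Ω).obj X =>
      c.left ≫ pullback.fst X.hom (Spec.map (CommRingCat.ofHom (algebraMap k Ω)))) h
    refine Over.OverMorphism.ext ?_
    simpa [bcPt_left] using h1
  · intro c
    have hw : c.left ≫ pullback.snd X.hom (Spec.map (CommRingCat.ofHom (algebraMap k Ω))) = 𝟙 _ := Over.w c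
    refine ⟨Over.homMk (c.left ≫ pullback.fst X.hom (Spec.map (CommRingCat.ofHom (algebraMap k Ω)))) ?_,
      Over.OverMorphism.ext ?_⟩
    · show (c.left ≫ _) ≫ X.hom = Spec.map (CommRingCat.ofHom (algebraMap k Ω))
      rw [Category.assoc, pullback.condition, ← Category.assoc, hw]
      exact Category.id_comp _
    · rw [bcPt_left]
      exact pullback.hom_ext (by simp) (by rw [pullback.lift_snd]; exact hw.symm)

variable [GrpObj X]

theorem bcPt_mul (a b : SGA7.pt (K := k) Ω ⟶ X) :
    letI : GrpObj ((bcF Ω).obj X) := Functor.grpObjObj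
    bcPt Ω (a * b) = bcPt Ω a * bcPt Ω b := by
  letI : GrpObj ((bcF Ω).obj X) := Functor.grpObjObj
  rw [bcPt, Functor.map_mul, MonObj.comp_mul]
  rfl

/-- Points of the extension, as a group. -/
def ptsEquiv [GrpObj ((bcF Ω).obj X)] (h : ∀ a b : SGA7.pt (K := k) Ω ⟶ X, bcPt Ω (a * b) = bcPt Ω a * bcPt Ω b) :
    Additive (SGA7.pt (K := k) Ω ⟶ X) ≃+ Additive (𝟙_ (Over (Spec (CommRingCat.of Ω))) ⟶ (bcF Ω).obj X) :=
  MulEquiv.toAdditive (MulEquiv.mk' (Equiv.ofBijective _ (bcPt_bijective Ω)) h)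

omit [GrpObj X] in
theorem map_injective {f g : X ⟶ Y} (h : (bcF Ω).map f = (bcF Ω).map g) : f = g := by
  let ξ := Spec.map (CommRingCat.ofHom (algebraMap k Ω))
  have e : ∀ m : X ⟶ Y, ((bcF Ω).map m).left ≫ pullback.fst Y.hom ξ = pullback.fst X.hom ξ ≫ m.left := fun m =>
    pullback.lift_fst _ _ _
  have h2 := congrArg (fun m => CommaMorphism.left m ≫ pullback.fst Y.hom ξ) h
  simp only [e] at h2
  haveI : Surjective ξ := ⟨fun y => ⟨Classical.arbitrary (PrimeSpectrum Ω), Subsingleton.elim (α := PrimeSpectrum k) _ _⟩⟩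
  haveI : Flat ξ := by
    rw [HasRingHomProperty.Spec_iff (P := @Flat)]
    show RingHom.Flat (algebraMap k Ω)
    rw [RingHom.flat_algebraMap_iff]
    infer_instance
  exact Over.OverMorphism.ext ((cancel_epi (pullback.fst X.hom ξ)).1 h2)

section AV

variable (A B : Over (Spec (CommRingCat.of k))) [GrpObj A] [IsCommMonObj A] [GrpObj B] [IsCommMonObj B]

local instance grpBc (Z : Over (Spec (CommRingCat.of k))) [GrpObj Z] : GrpObj ((bcF Ω).obj Z) := Functor.grpObjObj

local instance commBc (Z : Over (Spec (CommRingCat.of k))) [GrpObj Z] [IsCommMonObj Z] :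
    IsCommMonObj ((bcF Ω).obj Z) := Functor.isCommMonObj_obj (F := bcF Ω)

/-- The extension of homomorphisms. -/
def homBc : EndAV.Hom A B →+ EndAV.Hom ((bcF Ω).obj A) ((bcF Ω).obj B) :=
  AddMonoidHom.mk' (fun φ => EndAV.Hom.of ((bcF Ω).map φ.toHom)) fun φ ψ =>
    EndAV.Hom.ext (Functor.map_mul (F := bcF Ω) φ.toHom ψ.toHom)

theorem homBc_injective : Function.Injective (homBc Ω A B) := fun _ _ h =>
  EndAV.Hom.ext (map_injective Ω (congrArg EndAV.Hom.toHom h))

variable (l : ℕ) [Fact l.Prime]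

/-- The Tate module of the extension. -/
def tateBc : AbDual.TateMod A l (SGA7.pt (K := k) Ω) ≃ₗ[ℤ_[l]]
    AbDual.TateMod ((bcF Ω).obj A) l (𝟙_ (Over (Spec (CommRingCat.of Ω)))) :=
  tateCongr l (ptsEquiv Ω (X := A) (bcPt_mul Ω))

theorem tateBc_natural (φ : EndAV.Hom A B) (x : AbDual.TateMod A l (SGA7.pt (K := k) Ω)) :
    tateBc Ω B l (EndAV.Hom.tateMap (A := A) (B := B) l (SGA7.pt Ω) φ x) =
      EndAV.Hom.tateMap (A := (bcF Ω).obj A) (B := (bcF Ω).obj B) l _ (homBc Ω A B φ) (tateBc Ω A l x) :=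
  AbDual.TateMod.ext fun _ => congrArg Additive.ofMul (bcPt_comp Ω _ _)

variable [IsProper A.hom] [GeometricallyIntegral A.hom] [IsProper B.hom] [GeometricallyIntegral B.hom]
  [IsAlgClosed Ω]

include Ω in
theorem fg_hom_of_ext : Module.Finite ℤ (EndAV.Hom A B) := by
  haveI : IsProper ((bcF Ω).obj A).hom := inferInstanceAs (IsProper (pullback.snd A.hom _))
  haveI : IsProper ((bcF Ω).obj B).hom := inferInstanceAs (IsProper (pullback.snd B.hom _))
  haveI : GeometricallyIntegral ((bcF Ω).obj A).hom := inferInstanceAs (GeometricallyIntegral (pullback.snd A.hom _))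
  haveI : GeometricallyIntegral ((bcF Ω).obj B).hom := inferInstanceAs (GeometricallyIntegral (pullback.snd B.hom _))
  haveI := fg_hom ((bcF Ω).obj A) ((bcF Ω).obj B)
  exact Module.Finite.of_injective (homBc Ω A B).toIntLinearMap (homBc_injective Ω A B)

theorem linearIndependent_tateMap_ext (hl : (l : Ω) ≠ 0) {n : ℕ} (e : Fin n → EndAV.Hom A B)
    (he : LinearIndependent ℤ e) :
    LinearIndependent ℤ_[l] (fun i => EndAV.Hom.tateMap (A := A) (B := B) l (SGA7.pt Ω) (e i)) := by
  haveI : IsProper ((bcF Ω).obj A).hom := inferInstanceAs (IsProper (pullback.snd A.hom _))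
  haveI : IsProper ((bcF Ω).obj B).hom := inferInstanceAs (IsProper (pullback.snd B.hom _))
  haveI : GeometricallyIntegral ((bcF Ω).obj A).hom := inferInstanceAs (GeometricallyIntegral (pullback.snd A.hom _))
  haveI : GeometricallyIntegral ((bcF Ω).obj B).hom := inferInstanceAs (GeometricallyIntegral (pullback.snd B.hom _))
  have h := linearIndependent_tateMap l hl (fun i => homBc Ω A B (e i))
    (he.map' (homBc Ω A B).toIntLinearMap (LinearMap.ker_eq_bot.2 (homBc_injective Ω A B)))
  refine LinearIndependent.of_comp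
    ((LinearEquiv.arrowCongr (tateBc Ω A l) (tateBc Ω B l)).toLinearMap) ?_
  convert! h using 1
  funext i
  refine LinearMap.ext fun y => ?_
  obtain ⟨x, rfl⟩ := (tateBc Ω A l).surjective y
  simp only [Function.comp_apply, LinearEquiv.coe_coe, LinearEquiv.arrowCongr_apply, LinearEquiv.symm_apply_apply]
  exact tateBc_natural Ω A B l (e i) x

theorem tateMap_injective_ext (hl : (l : Ω) ≠ 0) :
    Function.Injective (EndAV.Hom.tateMap (A := A) (B := B) l (SGA7.pt Ω)) := by
  haveI : IsProper ((bcF Ω).obj A).hom := inferInstanceAs (IsProper (pullback.snd A.hom _))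
  haveI : IsProper ((bcF Ω).obj B).hom := inferInstanceAs (IsProper (pullback.snd B.hom _))
  haveI : GeometricallyIntegral ((bcF Ω).obj A).hom := inferInstanceAs (GeometricallyIntegral (pullback.snd A.hom _))
  haveI : GeometricallyIntegral ((bcF Ω).obj B).hom := inferInstanceAs (GeometricallyIntegral (pullback.snd B.hom _))
  refine (injective_iff_map_eq_zero _).2 fun φ hφ => homBc_injective Ω A B ?_
  rw [map_zero]
  refine EndAV.Hom.ext (eq_one_of_tateMap (k := Ω) (homBc Ω A B φ).toHom l hl fun y => ?_)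
  obtain ⟨x, rfl⟩ := (tateBc Ω A l).surjective y
  refine (tateBc_natural Ω A B l φ x).symm.trans ?_
  rw [hφ, LinearMap.zero_apply, map_zero]

end AV

end AVAmpleLib

end
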