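import Groth.Agent.AVAmpleLib.ExtDiv
import Groth.Prelude.Def_EndRing
import Mathlib.RingTheory.Polynomial.GaussLemma
import Mathlib.RingTheory.Flat.Basic
import Mathlib.RingTheory.IntegralClosure.IsIntegralClosure.Basic
import Mathlib.FieldTheory.Minpoly.Field
import Mathlib.RingTheory.TensorProduct.Finite

/-!
The endomorphism ring of an abelian variety is a lattice.
-/

set_option autoImplicit false
set_option linter.style.haveILetI false
set_option backward.isDefEq.respectTransparency false
set_option maxHeartbeats 1000000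

noncomputable section

universe u

open CategoryTheory CategoryTheory.Limits MonoidalCategory CartesianMonoidalCategory MonObj AlgebraicGeometry TopologicalSpace
open Polynomial

namespace AVAmpleLib

variable {k : Type u} [Field k] {A B : Over (Spec (CommRingCat.of k))}
  [GrpObj A] [IsCommMonObj A] [IsProper A.hom] [GeometricallyIntegral A.hom]
  [GrpObj B] [IsCommMonObj B] [IsProper B.hom] [GeometricallyIntegral B.hom]

attribute [local instance] grpBc commBc

variable (A B) in
theorem isTorsionFree_hom : Module.IsTorsionFree ℤ (EndAV.Hom A B) := by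
  let Ω := AlgebraicClosure k
  haveI : IsProper ((bcF Ω).obj A).hom := inferInstanceAs (IsProper (pullback.snd A.hom _))
  haveI : IsProper ((bcF Ω).obj B).hom := inferInstanceAs (IsProper (pullback.snd B.hom _))
  haveI : GeometricallyIntegral ((bcF Ω).obj A).hom := inferInstanceAs (GeometricallyIntegral (pullback.snd A.hom _))
  haveI : GeometricallyIntegral ((bcF Ω).obj B).hom := inferInstanceAs (GeometricallyIntegral (pullback.snd B.hom _))
  rw [Module.isTorsionFree_iff_smul_eq_zero]
  intro m φ h
  by_cases hm : m = 0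
  · exact Or.inl hm
  · refine Or.inr (homBc_injective Ω A B ?_)
    rw [map_zero]
    exact smul_eq_zero_hom (k := Ω) hm (by rw [← map_zsmul, h, map_zero])

variable (A) in
theorem fg_end : Module.Finite ℤ (EndAV.End A) :=
  fg_hom_of_ext (AlgebraicClosure k) A A

variable (A) in
theorem flat_end : Module.Flat ℤ (EndAV.End A) := by
  haveI : Module.Finite ℤ (EndAV.Hom A A) := fg_hom_of_ext (AlgebraicClosure k) A A
  haveI := isTorsionFree_hom A A
  haveI : Module.Free ℤ (EndAV.Hom A A) := Module.free_of_finite_type_torsion_free'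
  exact (inferInstance : Module.Flat ℤ (EndAV.Hom A A))

theorem toEnd0_injective : Function.Injective (EndAV.toEnd0 (A := A)) := by
  haveI := flat_end A
  exact Algebra.TensorProduct.includeRight_injective (RingHom.injective_int _)

/-- An endomorphism is killed by a monic integral polynomial which is its minimal polynomial over `ℚ`. -/
theorem exists_int_minpoly (φ : EndAV.End A) :
    ∃ Q : ℤ[X], Q.Monic ∧ Q.map (Int.castRingHom ℚ) = minpoly ℚ (EndAV.toEnd0 φ) ∧
      Q.eval₂ (Int.castRingHom (EndAV.End A)) φ = 0 := by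
  haveI := fg_end A
  have hint : IsIntegral ℤ φ := .of_finite ℤ φ
  obtain ⟨P₀, hP₀, hP₀e⟩ := hint
  have hz : ∀ Q : ℤ[X], EndAV.toEnd0 (Q.eval₂ (Int.castRingHom (EndAV.End A)) φ) =
      aeval (EndAV.toEnd0 φ) (Q.map (Int.castRingHom ℚ)) := fun Q => by
    show EndAV.toEnd0.toRingHom (Q.eval₂ (Int.castRingHom (EndAV.End A)) φ) = _
    rw [hom_eval₂, aeval_def, eval₂_map]
    congr 1
    exact Subsingleton.elim _ _
  have hd : minpoly ℚ (EndAV.toEnd0 φ) ∣ P₀.map (algebraMap ℤ ℚ) := by
    refine minpoly.dvd ℚ _ ?_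
    rw [algebraMap_int_eq, ← hz, ← map_zero (EndAV.toEnd0 (A := A))]
    congr 1
    exact (congrArg (fun f => P₀.eval₂ f φ) (Subsingleton.elim _ _)).trans hP₀e
  obtain ⟨Q, hQ⟩ := IsIntegrallyClosed.eq_map_mul_C_of_dvd ℚ hP₀ hd
  have hint0 : IsIntegral ℚ (EndAV.toEnd0 φ) := by
    refine ⟨P₀.map (Int.castRingHom ℚ), hP₀.map _, ?_⟩
    rw [← aeval_def, ← hz, ← map_zero (EndAV.toEnd0 (A := A))]
    congr 1
    exact (congrArg (fun f => P₀.eval₂ f φ) (Subsingleton.elim _ _)).trans hP₀e
  rw [(minpoly.monic hint0).leadingCoeff, C_1, _root_.mul_one, algebraMap_int_eq] at hQ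
  refine ⟨Q, Polynomial.monic_of_injective (RingHom.injective_int (Int.castRingHom ℚ))
    (hQ ▸ minpoly.monic hint0), hQ, toEnd0_injective ?_⟩
  rw [hz, hQ, minpoly.aeval, map_zero]

end AVAmpleLib

end
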