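import Mathlib

/-!
Polynomials determined by absolute values of resultants, and the resultant as a polynomial in the coefficients.
-/

set_option autoImplicit false

noncomputable section

open Polynomial

namespace AVAmpleLib

section Gen

variable {R S : Type*} [CommRing R] [CommRing S]

/-- The polynomial with coefficients `c`. -/
def polyOf {n : ℕ} (c : Fin (n + 1) → R) : R[X] := ∑ i : Fin (n + 1), monomial (i : ℕ) (c i)

theorem coeff_polyOf {n : ℕ} (c : Fin (n + 1) → R) (i : Fin (n + 1)) : (polyOf c).coeff i = c i := by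
  simp [polyOf, coeff_monomial, Fin.val_inj]

theorem natDegree_polyOf_le {n : ℕ} (c : Fin (n + 1) → R) : (polyOf c).natDegree ≤ n :=
  natDegree_sum_le_of_forall_le _ _ fun i _ => (natDegree_monomial_le _).trans (Nat.le_of_lt_succ i.2)

theorem map_polyOf (φ : R →+* S) {n : ℕ} (c : Fin (n + 1) → R) : (polyOf c).map φ = polyOf fun i => φ (c i) := by
  simp [polyOf, Polynomial.map_sum, Polynomial.map_monomial]

theorem polyOf_coeff {n : ℕ} {F : R[X]} (hF : F.natDegree ≤ n) : polyOf (fun i : Fin (n + 1) => F.coeff i) = F := by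
  rw [polyOf, Fin.sum_univ_eq_sum_range fun i => monomial i (F.coeff i)]
  exact (F.as_sum_range' (n + 1) (Nat.lt_succ_of_le hF)).symm

/-- `Res(P, c)` as a polynomial in the coefficients `c`. -/
def resPoly (P : R[X]) (d n : ℕ) : MvPolynomial (Fin (n + 1)) R :=
  resultant (P.map MvPolynomial.C) (polyOf MvPolynomial.X) d n

theorem eval_resPoly (P : R[X]) (d n : ℕ) (c : Fin (n + 1) → R) :
    MvPolynomial.eval c (resPoly P d n) = resultant P (polyOf c) d n := by
  rw [resPoly, ← resultant_map_map, map_polyOf, Polynomial.map_map,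
    show (MvPolynomial.eval c).comp MvPolynomial.C = RingHom.id R from RingHom.ext fun r => by simp, Polynomial.map_id]
  congr 2
  funext i
  exact MvPolynomial.eval_X i

theorem map_resPoly (φ : R →+* S) (P : R[X]) (d n : ℕ) :
    MvPolynomial.map φ (resPoly P d n) = resPoly (P.map φ) d n := by
  rw [resPoly, resPoly, ← resultant_map_map, map_polyOf, Polynomial.map_map, Polynomial.map_map]
  congr 2
  · exact RingHom.ext fun r => by simp
  · funext i; simp

/-- `Res(P, F) = det F(M)` for `P` the characteristic polynomial of `M`. -/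
theorem resultant_charpoly [IsDomain R] {ι : Type*} [Fintype ι] [DecidableEq ι] (M : Matrix ι ι R) (F : R[X])
    (n : ℕ) (hn : F.natDegree ≤ n) :
    resultant M.charpoly F (Fintype.card ι) n = (aeval M F).det := by
  let K := AlgebraicClosure (FractionRing R)
  let φ : R →+* K := (algebraMap (FractionRing R) K).comp (algebraMap R (FractionRing R))
  have hφ : Function.Injective φ :=
    (algebraMap (FractionRing R) K).injective.comp (IsFractionRing.injective R _)
  apply hφ
  rw [← resultant_map_map, RingHom.map_det, ← Matrix.charpoly_map]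
  have hN : φ.mapMatrix (aeval M F) = aeval (φ.mapMatrix M) (F.map φ) := by
    rw [aeval_def, aeval_def, eval₂_map, hom_eval₂]
    congr 1
    ext r i j
    by_cases h : i = j
    · subst h; simp [Matrix.algebraMap_matrix_apply]
    · simp [Matrix.algebraMap_matrix_apply, h]
  rw [hN]
  have hG : (F.map φ).natDegree ≤ n := natDegree_map_le.trans hn
  generalize F.map φ = G at hG ⊢
  generalize hN' : φ.mapMatrix M = N
  rw [show M.map φ = N from hN']
  obtain ⟨c, rfl⟩ := Nat.exists_eq_add_of_le hG
  have hd := N.charpoly_natDegree_eq_dim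
  rw [resultant_add_right_deg _ _ _ _ _ le_rfl, ← hd, Polynomial.coeff_natDegree, N.charpoly_monic, one_pow, one_mul]
  have hs : G.Splits := IsAlgClosed.splits G
  rw [resultant_comm, resultant_eq_prod_eval _ _ _ le_rfl hs, hd]
  conv_rhs => rw [hs.eq_prod_roots]
  rw [map_mul, aeval_C, Algebra.algebraMap_eq_smul_one, smul_mul_assoc,
    Matrix.det_smul, _root_.one_mul]
  have key : ∀ s : Multiset K, (aeval N (s.map fun a => X - C a).prod).det =
      (-1) ^ (Fintype.card ι * Multiset.card s) * (s.map N.charpoly.eval).prod := by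
    intro s
    induction s using Multiset.induction_on with
    | empty => simp
    | cons a s ih =>
      have h1 : (aeval N (X - C a)).det = (-1) ^ Fintype.card ι * N.charpoly.eval a := by
        rw [Matrix.eval_charpoly, ← Matrix.det_neg, neg_sub, map_sub, aeval_X, aeval_C]
        rfl
      simp only [Multiset.map_cons, Multiset.prod_cons, Multiset.card_cons]
      rw [map_mul, Matrix.det_mul, h1, ih, Nat.mul_succ, pow_add]
      ring
  rw [key, hs.natDegree_eq_card_roots]
  ring

/-- Polynomial identities in the coefficients checked on products of linear factors with integer roots. -/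
theorem eq_of_eval_split {K : Type*} [Field K] [CharZero K] [IsAlgClosed K] {n : ℕ}
    (D N : MvPolynomial (Fin (n + 1)) K)
    (h : ∀ (a : ℤ) (t : Fin n → ℤ),
      MvPolynomial.eval (fun i : Fin (n + 1) => (((C a * ∏ j, (X - C (t j)) : ℤ[X]).coeff (i : ℕ) : ℤ) : K)) D =
      MvPolynomial.eval (fun i : Fin (n + 1) => (((C a * ∏ j, (X - C (t j)) : ℤ[X]).coeff (i : ℕ) : ℤ) : K)) N) : D = N := by
  let U : (MvPolynomial (Option (Fin n)) K)[X] :=
    C (MvPolynomial.X none) * ∏ j, (X - C (MvPolynomial.X (some j)))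
  let G : (Option (Fin n) → K) → K[X] := fun v => C (v none) * ∏ j, (X - C (v (some j)))
  have hU : ∀ v, U.map (MvPolynomial.eval v) = G v := fun v => by simp [U, G, Polynomial.map_prod]
  let φ : MvPolynomial (Fin (n + 1)) K →ₐ[K] MvPolynomial (Option (Fin n)) K :=
    MvPolynomial.bind₁ fun i => U.coeff i
  have hφ : ∀ v p, MvPolynomial.eval v (φ p) = MvPolynomial.eval (fun i : Fin (n + 1) => (G v).coeff i) p := by
    intro v p
    simp only [← hU, Polynomial.coeff_map]
    change MvPolynomial.eval₂Hom (RingHom.id K) v (φ p) = _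
    rw [MvPolynomial.eval₂Hom_bind₁]
    rfl
  have he : φ D = φ N := by
    refine MvPolynomial.funext_set (fun _ => Set.range ((↑) : ℤ → K))
      (fun _ => Set.infinite_range_of_injective Int.cast_injective) fun v hv => ?_
    choose w hw using fun o => hv o (Set.mem_univ o)
    have hG : G v = (C (w none) * ∏ j, (X - C (w (some j))) : ℤ[X]).map (Int.castRingHom K) := by
      simp [G, Polynomial.map_prod, ← hw]
    rw [hφ, hφ, hG]
    simpa only [Polynomial.coeff_map, Int.coe_castRingHom] using h (w none) fun j => w (some j)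
  have hX : (MvPolynomial.X (Fin.last n) : MvPolynomial (Fin (n + 1)) K) ≠ 0 := MvPolynomial.X_ne_zero _
  refine sub_eq_zero.1 ((mul_eq_zero.1 (?_ : (D - N) * MvPolynomial.X (Fin.last n) = 0)).resolve_right hX)
  refine MvPolynomial.funext fun c => ?_
  rw [map_zero, map_mul, MvPolynomial.eval_X]
  by_cases hc : c (Fin.last n) = 0
  · rw [hc, mul_zero]
  have hdeg : (polyOf c).natDegree = n := le_antisymm (natDegree_polyOf_le c)
    (le_natDegree_of_ne_zero (show (polyOf c).coeff ((Fin.last n : Fin (n + 1)) : ℕ) ≠ 0 by rwa [coeff_polyOf]))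
  have hs : (polyOf c).Splits := IsAlgClosed.splits _
  have hcard : (polyOf c).roots.toList.length = n := by
    rw [Multiset.length_toList, ← hs.natDegree_eq_card_roots, hdeg]
  let v : Option (Fin n) → K := fun o =>
    o.elim (polyOf c).leadingCoeff fun j => (polyOf c).roots.toList.get (Fin.cast hcard.symm j)
  have hG : G v = polyOf c := by
    conv_rhs => rw [hs.eq_prod_roots, ← Multiset.coe_toList (polyOf c).roots, Multiset.map_coe, Multiset.prod_coe]
    simp only [G, v, Option.elim_none, Option.elim_some]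
    congr 1
    rw [← List.prod_ofFn]
    congr 1
    refine List.ext_getElem (by simp [hcard]) fun i h1 h2 => by simp
  have := hφ v (D - N)
  rw [map_sub φ, he, sub_self, map_zero] at this
  simp only [hG, coeff_polyOf] at this
  rw [← this, zero_mul]

end Gen

variable {l : ℕ} [Fact l.Prime]

theorem norm_resultant_eq {P Q : ℚ_[l][X]} {d n : ℕ}
    (h : ∀ c : Fin (n + 1) → ℚ, ‖resultant P (polyOf fun i => (c i : ℚ_[l])) d n‖ =
      ‖resultant Q (polyOf fun i => (c i : ℚ_[l])) d n‖)
    (F : ℚ_[l][X]) (hF : F.natDegree ≤ n) : ‖resultant P F d n‖ = ‖resultant Q F d n‖ := by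
  rw [← polyOf_coeff hF, ← eval_resPoly, ← eval_resPoly]
  generalize (fun i : Fin (n + 1) => F.coeff i) = x
  have hd : DenseRange (fun c : Fin (n + 1) → ℚ => fun i => ((c i : ℚ_[l]))) :=
    DenseRange.piMap fun _ => Padic.denseRange_ratCast l
  refine congrFun (Continuous.ext_on (f := fun y => ‖MvPolynomial.eval y (resPoly P d n)‖)
    (g := fun y => ‖MvPolynomial.eval y (resPoly Q d n)‖) hd ?_ ?_ ?_) x
  · exact continuous_norm.comp (MvPolynomial.continuous_eval _)
  · exact continuous_norm.comp (MvPolynomial.continuous_eval _)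
  rintro _ ⟨c, rfl⟩
  simp only [eval_resPoly]
  exact h c

open UniqueFactorizationMonoid

/-- For `P = g ^ m * R`, small perturbations of `g` see `m`. -/
theorem exists_norm_resultant_perturb {P g : ℚ_[l][X]} (hP : P.Monic) (hg : Irreducible g) (hgm : g.Monic) :
    ∃ (s : ℕ) (a : ℝ), 0 < a ∧ ∃ N : ℕ, ∀ j : ℕ, N ≤ j →
      ‖resultant P (g + C ((l : ℚ_[l]) ^ j)) P.natDegree g.natDegree‖ = ‖(l : ℚ_[l]) ^ j‖ ^ (g.natDegree * s) * a ∧
        s = multiplicity g P := by
  obtain ⟨R, hR, hgR⟩ := (FiniteMultiplicity.of_not_isUnit hg.not_isUnit hP.ne_zero).exists_eq_pow_mul_and_not_dvd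
  set m := multiplicity g P
  have hRm : R.Monic := (hgm.pow m).of_mul_monic_left (hR ▸ hP)
  have hcop : IsCoprime R g := ((hg.coprime_iff_not_dvd).2 hgR).symm
  set n := g.natDegree
  let f : ℚ_[l][X] := resultant (R.map C) (g.map C + C X) R.natDegree n
  have hf : ∀ c, f.eval c = resultant R (g + C c) R.natDegree n := fun c => by
    show evalRingHom c _ = _
    rw [← resultant_map_map]
    have hc : (evalRingHom c).comp (C : ℚ_[l] →+* ℚ_[l][X]) = RingHom.id _ := RingHom.ext fun r => by simp
    rw [Polynomial.map_add, Polynomial.map_map, Polynomial.map_map, hc, Polynomial.map_id, Polynomial.map_id,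
      Polynomial.map_C]
    rw [Polynomial.coe_evalRingHom, Polynomial.eval_X]
  have hf0 : f.eval 0 ≠ 0 := by
    rw [hf, map_zero, add_zero, ne_eq, resultant_eq_zero_iff, not_and, not_not]
    exact fun _ => hcop
  have hl : Filter.Tendsto (fun j : ℕ => (l : ℚ_[l]) ^ j) Filter.atTop (nhds 0) := by
    apply tendsto_pow_atTop_nhds_zero_of_norm_lt_one
    rw [Padic.norm_p]
    exact inv_lt_one_of_one_lt₀ (by exact_mod_cast (Fact.out : l.Prime).one_lt)
  have hev : ∀ᶠ j : ℕ in Filter.atTop, ‖f.eval ((l : ℚ_[l]) ^ j) - f.eval 0‖ < ‖f.eval 0‖ := by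
    have := (f.continuous.tendsto 0).comp hl
    exact (Metric.tendsto_nhds.1 this ‖f.eval 0‖ (norm_pos_iff.2 hf0)).mono fun j hj => by
      rwa [Function.comp_apply, dist_eq_norm] at hj
  obtain ⟨N, hN⟩ := Filter.eventually_atTop.1 hev
  refine ⟨m, ‖f.eval 0‖, norm_pos_iff.2 hf0, N, fun j hj => ⟨?_, rfl⟩⟩
  have hgj : (g + C ((l : ℚ_[l]) ^ j)).natDegree ≤ n := (natDegree_add_C).le
  have hself : resultant g (g + C ((l : ℚ_[l]) ^ j)) n n = ((l : ℚ_[l]) ^ j) ^ n := by
    rw [show g + C ((l : ℚ_[l]) ^ j) = C ((l : ℚ_[l]) ^ j) + g * 1 by rw [mul_one, add_comm],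
      resultant_add_mul_right _ _ _ _ _ (by simp [n]) le_rfl, resultant_C_right, Polynomial.coeff_natDegree, hgm,
      one_pow, one_mul]
  rw [hR, Polynomial.Monic.natDegree_mul (hgm.pow m) hRm, resultant_mul_left _ _ _ _ hgj, norm_mul]
  congr 1
  · rw [resultant_pow_left _ _ _ _ (by rw [hgm]; simp) hgj, hself, norm_pow, norm_pow, pow_mul, norm_pow]
  · rw [← hf]
    have := hN j hj
    rw [← sub_add_cancel (f.eval ((l : ℚ_[l]) ^ j)) (f.eval 0),
      IsUltrametricDist.norm_add_eq_max_of_norm_ne_norm this.ne, max_eq_right this.le]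

/-- A monic polynomial is determined by the absolute values of its resultants. -/
theorem eq_of_norm_resultant {P Q : ℚ_[l][X]} {d : ℕ} (hP : P.Monic) (hQ : Q.Monic) (hPd : P.natDegree = d)
    (hQd : Q.natDegree = d)
    (h : ∀ (n : ℕ) (c : Fin (n + 1) → ℚ), ‖resultant P (polyOf fun i => (c i : ℚ_[l])) d n‖ =
      ‖resultant Q (polyOf fun i => (c i : ℚ_[l])) d n‖) : P = Q := by
  classical
  refine eq_of_monic_of_associated hP hQ ((associated_iff_normalizedFactors_eq_normalizedFactors hP.ne_zero hQ.ne_zero).2 ?_)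
  refine Multiset.ext.2 fun g => ?_
  by_cases hg : Irreducible g ∧ g.Monic
  · obtain ⟨hg, hgm⟩ := hg
    obtain ⟨s, a, ha, N, hs⟩ := exists_norm_resultant_perturb hP hg hgm
    obtain ⟨s', a', ha', N', hs'⟩ := exists_norm_resultant_perturb hQ hg hgm
    have hl : (l : ℚ_[l]) ≠ 0 := Nat.cast_ne_zero.2 (Fact.out : l.Prime).ne_zero
    have key : ∀ j, N ≤ j → N' ≤ j →
        ‖(l : ℚ_[l]) ^ j‖ ^ (g.natDegree * s) * a = ‖(l : ℚ_[l]) ^ j‖ ^ (g.natDegree * s') * a' := fun j h1 h2 => by
      rw [← (hs j h1).1, ← (hs' j h2).1, hPd, hQd]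
      exact norm_resultant_eq (h g.natDegree) _ natDegree_add_C.le
    have e1 := key (max N N') (le_max_left _ _) (le_max_right _ _)
    have e2 := key (max N N' + 1) (by omega) (by omega)
    set x := ‖(l : ℚ_[l]) ^ (max N N')‖
    set y := ‖(l : ℚ_[l])‖
    have hx : 0 < x := norm_pos_iff.2 (pow_ne_zero _ hl)
    have hy0 : 0 < y := norm_pos_iff.2 hl
    have hy1 : y < 1 := Padic.norm_p_lt_one
    rw [pow_succ, norm_mul, mul_pow, mul_pow, mul_right_comm, e1, mul_right_comm] at e2
    have he : g.natDegree * s = g.natDegree * s' :=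
      pow_right_injective₀ hy0 hy1.ne (mul_left_cancel₀ (pow_ne_zero _ hx.ne') (mul_right_cancel₀ ha'.ne' e2))
    have hss : s = s' := Nat.eq_of_mul_eq_mul_left hg.natDegree_pos he
    have hm : multiplicity g P = multiplicity g Q := (hs _ le_rfl).2.symm.trans (hss.trans (hs' _ le_rfl).2)
    have e := fun (R : ℚ_[l][X]) (hR : R ≠ 0) => emultiplicity_eq_count_normalizedFactors hg hR
    have h1 := e P hP.ne_zero
    have h2 := e Q hQ.ne_zero
    rw [(FiniteMultiplicity.of_not_isUnit hg.not_isUnit hP.ne_zero).emultiplicity_eq_multiplicity,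
      hgm.normalize_eq_self] at h1
    rw [(FiniteMultiplicity.of_not_isUnit hg.not_isUnit hQ.ne_zero).emultiplicity_eq_multiplicity,
      hgm.normalize_eq_self, ← hm, h1] at h2
    exact_mod_cast h2
  · rw [Multiset.count_eq_zero.2, Multiset.count_eq_zero.2] <;>
      exact fun hm => hg ⟨irreducible_of_normalized_factor _ hm,
        (normalize_eq_self_iff_monic (irreducible_of_normalized_factor _ hm).ne_zero).1 (normalize_normalized_factor _ hm)⟩

end AVAmpleLib

end
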