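import Groth.Agent.AVAmpleLib.DegForm
import Groth.Agent.AVAmpleLib.PolyNorm
import Groth.Agent.AVAmpleLib.EndInt
import Groth.Prelude.Def_EndTate

/-!
The characteristic polynomial of an endomorphism of an abelian variety.
-/

set_option autoImplicit false
set_option linter.style.haveILetI false
set_option linter.unusedSectionVars false
set_option backward.isDefEq.respectTransparency false
set_option maxHeartbeats 1000000

noncomputable section

universe u

open CategoryTheory CategoryTheory.Limits MonoidalCategory CartesianMonoidalCategory MonObj AlgebraicGeometry TopologicalSpace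
open Polynomial

namespace AVAmpleLib

theorem eval_smul_of_isHomogeneous {m d : ℕ} {R : MvPolynomial (Fin m) ℚ} (hR : R.IsHomogeneous d) (c : ℚ)
    (v : Fin m → ℚ) : MvPolynomial.eval (fun i => c * v i) R = c ^ d * MvPolynomial.eval v R := by
  simp only [MvPolynomial.eval_eq, Finset.mul_sum]
  refine Finset.sum_congr rfl fun u hu => ?_
  simp only [mul_pow, Finset.prod_mul_distrib, Finset.prod_pow_eq_pow_sum]
  rw [show ∑ i ∈ u.support, u i = d from (Finsupp.degree_apply u).symm.trans
    ((Finsupp.degree_eq_weight_one (R := ℕ)) ▸ hR (MvPolynomial.mem_support_iff.1 hu))]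
  ring

theorem aeval_one_X {d : ℕ} {R : MvPolynomial (Fin 2) ℚ} (hR : R.IsHomogeneous d) (c : ℚ) :
    (MvPolynomial.aeval ![(1 : ℚ[X]), C c * X] R).natDegree ≤ d ∧
      (MvPolynomial.aeval ![(1 : ℚ[X]), C c * X] R).coeff d = MvPolynomial.eval ![(0 : ℚ), c] R := by
  have hu : ∀ u ∈ R.support, u 0 + u 1 = d := fun u hu => by
    have := ((Finsupp.degree_eq_weight_one (R := ℕ)) ▸ hR (MvPolynomial.mem_support_iff.1 hu) : Finsupp.degree u = d)
    rwa [Finsupp.degree_eq_sum, Fin.sum_univ_two] at this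
  have hterm : ∀ u : Fin 2 →₀ ℕ, algebraMap ℚ ℚ[X] (MvPolynomial.coeff u R) * ∏ i, (![(1 : ℚ[X]), C c * X] i) ^ u i =
      C (MvPolynomial.coeff u R * c ^ u 1) * X ^ u 1 := fun u => by
    simp only [Fin.prod_univ_two, Matrix.cons_val_zero, Matrix.cons_val_one, one_pow, mul_pow, map_mul, map_pow,
      Polynomial.algebraMap_eq]
    ring
  rw [MvPolynomial.aeval_def, MvPolynomial.eval₂_eq', MvPolynomial.eval_eq', Finset.sum_congr rfl fun u _ => hterm u,
    finsetSum_coeff]
  refine ⟨natDegree_sum_le_of_forall_le _ _ fun u h => (natDegree_C_mul_X_pow_le _ _).trans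
    ((Nat.le_add_left _ _).trans (hu u h).le), Finset.sum_congr rfl fun u h => ?_⟩
  rw [coeff_C_mul_X_pow, Fin.prod_univ_two, Matrix.cons_val_zero, Matrix.cons_val_one]
  by_cases h0 : u 0 = 0
  · have := hu u h
    rw [h0, zero_add] at this
    rw [if_pos this.symm, h0, pow_zero, _root_.one_mul, Matrix.cons_val_fin_one]
  · rw [if_neg (by have := hu u h; omega), zero_pow h0]
    ring

theorem resultant_split (P : ℚ[X]) {d : ℕ} (hd : P.natDegree = d) (he : Even d) {n : ℕ} (a : ℚ) (t : Fin n → ℚ) :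
    resultant P (C a * ∏ j, (X - C (t j))) d n = a ^ d * ∏ j, P.eval (t j) := by
  classical
  rw [resultant_C_mul_right, resultant_comm, Even.neg_one_pow (he.mul_right n), _root_.one_mul]
  congr 1
  have hsplit : (∏ j, (X - C (t j))).Splits := Polynomial.Splits.prod fun j _ => Splits.X_sub_C _
  have hn : (∏ j, (X - C (t j))).natDegree = n := by
    rw [natDegree_prod _ _ fun j _ => X_sub_C_ne_zero _]
    simp
  have hres := resultant_eq_prod_eval _ _ d hd.le hsplit
  rw [hn] at hres
  rw [hres, (monic_prod_X_sub_C _ _).leadingCoeff, one_pow, _root_.one_mul,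
    Polynomial.roots_prod _ _ (Finset.prod_ne_zero_iff.2 fun j _ => X_sub_C_ne_zero _)]
  simp [roots_X_sub_C, Multiset.bind_singleton, Multiset.map_map, Function.comp_def, List.prod_ofFn]

variable {k : Type u} [Field k] [IsAlgClosed k] {A : Over (Spec (CommRingCat.of k))}
  [GrpObj A] [IsCommMonObj A] [IsProper A.hom] [GeometricallyIntegral A.hom]

attribute [local instance] isIntegral_left lofp_hom flat_hom

variable {g : ℕ} (hA : topologicalKrullDim A.left = (g : ℕ))

theorem isFinite_one : IsFinite (EndAV.Hom.toHom (1 : EndAV.End A)).left := by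
  show IsFinite (𝟙 A.left)
  infer_instance

include hA in
theorem ndeg_one : ndeg g (1 : EndAV.End A) = 1 := by
  haveI := isFinite_one (A := A)
  rw [ndeg_eq_finrank hA hA (1 : EndAV.End A) (genericPoint A.left)]
  have : (EndAV.Hom.toHom (1 : EndAV.End A)).left.finrank (genericPoint A.left) = 1 :=
    congrFun (Scheme.Hom.finrank_eq_one_of_isIso (𝟙 A.left)) _
  exact_mod_cast this

include hA in
theorem ndeg_of_not_isFinite {φ : EndAV.End A} (h : ¬ IsFinite (EndAV.Hom.toHom φ).left) : ndeg g φ = 0 := by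
  haveI := isFinite_one (A := A)
  exact ndeg_eq_zero hA hA (1 : EndAV.End A) φ h

include hA in
theorem ndeg_smul_one (a : ℤ) : ndeg g (a • (1 : EndAV.End A)) = (a : ℚ) ^ (2 * g) := by
  obtain ⟨R, hR, hR'⟩ := exists_ndegPoly hA ![(1 : EndAV.End A)]
  have h1 := hR' ![1]
  have h2 := hR' ![a]
  simp only [Fin.sum_univ_one, Matrix.cons_val_zero] at h1 h2
  rw [one_zsmul, ndeg_one hA] at h1
  rw [h2, show (fun i => ((![a] : Fin 1 → ℤ) i : ℚ)) = fun i => (a : ℚ) * (((![1] : Fin 1 → ℤ) i : ℤ) : ℚ) from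
    funext fun i => by fin_cases i; simp, eval_smul_of_isHomogeneous hR, ← h1, _root_.mul_one]

theorem intCast_eq_smul_one (a : ℤ) : ((a : EndAV.End A) : EndAV.Hom A A) = a • (1 : EndAV.End A) :=
  EndAV.End.ext (by rw [EndAV.End.toHom_intCast, EndAV.End.toHom_zsmul]; rfl)

include hA in
theorem ndeg_intCast (a : ℤ) : ndeg g (a : EndAV.End A) = (a : ℚ) ^ (2 * g) := by
  rw [← ndeg_smul_one hA a]
  exact congrArg (ndeg g) (intCast_eq_smul_one a)

include hA in
theorem ndeg_mul (f h : EndAV.End A) : ndeg g (f * h) = ndeg g f * ndeg g h := by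
  by_cases hf : IsFinite (EndAV.Hom.toHom h).left
  · rw [mul_comm (ndeg g f), CategoryTheory.End.mul_def, ndeg_comp hA hA h f]
  · obtain ⟨l, _, hl⟩ := exists_prime_ne_zero k
    have hne : ¬ IsFinite (EndAV.Hom.toHom (f * h : EndAV.End A)).left := fun h' => hf (by
      rw [isFinite_iff_injective l hl] at h' ⊢
      have e := (EndAV.End.tateRep l (𝟙_ (Over (Spec (CommRingCat.of k)))) (A := A)).map_mul f h
      intro x y hxy
      refine h' ?_
      have hx := LinearMap.congr_fun e x
      have hy := LinearMap.congr_fun e y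
      exact (hx.trans (congrArg (fun v => EndAV.End.tateRep l (𝟙_ (Over (Spec (CommRingCat.of k)))) f v) hxy)).trans hy.symm)
    rw [ndeg_of_not_isFinite hA hne, ndeg_of_not_isFinite hA hf, mul_zero]

include hA in
theorem ndeg_prod {n : ℕ} (f : Fin n → ℤ[X]) (φ : EndAV.End A) :
    ndeg g (aeval φ (∏ j, f j)) = ∏ j, ndeg g (aeval φ (f j)) := by
  induction n with
  | zero => simp only [Finset.univ_eq_empty, Finset.prod_empty, map_one, ndeg_one hA]
  | succ n ih => rw [Fin.prod_univ_succ, Fin.prod_univ_succ, map_mul, ndeg_mul hA, ih fun j => f j.succ]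

/-- The characteristic polynomial condition. -/
def IsCharPoly (g : ℕ) (φ : EndAV.End A) (P : ℚ[X]) : Prop :=
  P.Monic ∧ P.natDegree = 2 * g ∧ ∀ n : ℤ, P.eval (n : ℚ) = ndeg g (φ - (n : EndAV.End A))

include hA in
theorem exists_isCharPoly (φ : EndAV.End A) : ∃ P : ℚ[X], IsCharPoly g φ P := by
  obtain ⟨R, hR, hR'⟩ := exists_ndegPoly hA ![φ, (1 : EndAV.End A)]
  obtain ⟨h1, h2⟩ := aeval_one_X hR (-1)
  set P := MvPolynomial.aeval ![(1 : ℚ[X]), C (-1 : ℚ) * X] R
  have hc : MvPolynomial.eval ![(0 : ℚ), -1] R = 1 := by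
    have := hR' ![0, -1]
    simp only [Fin.sum_univ_two, Matrix.cons_val_zero, Matrix.cons_val_one, zero_zsmul, zero_add] at this
    rw [ndeg_smul_one hA, Int.cast_neg, Int.cast_one, Even.neg_one_pow (even_two_mul g)] at this
    refine Eq.trans ?_ this.symm
    refine congrArg (fun v => MvPolynomial.eval v R) (funext fun i => ?_)
    fin_cases i <;> simp
  rw [hc] at h2
  have hdeg : P.natDegree = 2 * g := le_antisymm h1 (le_natDegree_of_ne_zero (by rw [h2]; exact one_ne_zero))
  refine ⟨P, by rw [Monic, leadingCoeff, hdeg, h2], hdeg, fun n => ?_⟩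
  have := hR' ![1, -n]
  simp only [Fin.sum_univ_two, Matrix.cons_val_zero, Matrix.cons_val_one, one_zsmul, neg_zsmul] at this
  rw [← sub_eq_add_neg] at this
  refine Eq.trans ?_ (this.symm.trans (congrArg (fun x => ndeg g (φ - x)) (intCast_eq_smul_one n)).symm)
  rw [← Polynomial.coe_evalRingHom]
  show Polynomial.evalRingHom (n : ℚ) (MvPolynomial.aeval _ R) = _
  rw [MvPolynomial.aeval_def, MvPolynomial.eval₂_comp_left,
    show (Polynomial.evalRingHom (n : ℚ)).comp (algebraMap ℚ (Polynomial ℚ)) = RingHom.id ℚ from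
      RingHom.ext fun q => by simp, MvPolynomial.eval₂_id]
  congr 2
  funext i
  fin_cases i <;> simp

theorem IsCharPoly.unique {φ : EndAV.End A} {P Q : ℚ[X]} (hP : IsCharPoly g φ P) (hQ : IsCharPoly g φ Q) : P = Q :=
  HilbPolyLib.eq_of_eval_nat fun m => by
    have h1 := hP.2.2 (m : ℤ)
    rw [← hQ.2.2 (m : ℤ)] at h1
    simpa using h1

include hA in
/-- The degree of `F(φ)` is the resultant. -/
theorem ndeg_aeval {φ : EndAV.End A} {P : ℚ[X]} (hP : IsCharPoly g φ P) (F : ℤ[X]) {n : ℕ} (hn : F.natDegree ≤ n) :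
    ndeg g (aeval φ F) = resultant P (F.map (Int.castRingHom ℚ)) (2 * g) n := by
  obtain ⟨R, -, hR⟩ := exists_ndegPoly hA fun i : Fin (n + 1) => (φ ^ (i : ℕ) : EndAV.End A)
  have hval : ∀ G : ℤ[X], G.natDegree ≤ n →
      ndeg g (aeval φ G) = MvPolynomial.eval (fun i : Fin (n + 1) => (G.coeff i : ℚ)) R := fun G hG => by
    rw [← hR, aeval_eq_sum_range' (Nat.lt_succ_of_le hG), Fin.sum_univ_eq_sum_range fun i => G.coeff i • φ ^ i]
  suffices h : R = resPoly P (2 * g) n by
    rw [hval F hn, h, eval_resPoly, show (fun i : Fin (n + 1) => (F.coeff i : ℚ)) =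
      fun i : Fin (n + 1) => (F.map (Int.castRingHom ℚ)).coeff i from funext fun i => by simp,
      polyOf_coeff (natDegree_map_le.trans hn)]
  let K := AlgebraicClosure ℚ
  refine MvPolynomial.map_injective _ (algebraMap ℚ K).injective (eq_of_eval_split _ _ fun a t => ?_)
  set G : ℤ[X] := C a * ∏ j, (X - C (t j))
  have hG : G.natDegree ≤ n := (natDegree_C_mul_le _ _).trans ((natDegree_prod_le _ _).trans ((Finset.sum_le_sum fun j _ => (natDegree_X_sub_C _).le).trans (by simp)))
  have hcast : (fun i : Fin (n + 1) => ((G.coeff i : ℤ) : K)) =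
      fun i : Fin (n + 1) => algebraMap ℚ K ((G.coeff (i : ℕ) : ℚ)) := funext fun i => by simp
  rw [hcast, MvPolynomial.eval_map, MvPolynomial.eval_map, ← Function.comp_def (algebraMap ℚ K),
    ← MvPolynomial.eval₂_comp, ← MvPolynomial.eval₂_comp]
  congr 1
  rw [← hval G hG, eval_resPoly, show (fun i : Fin (n + 1) => (G.coeff i : ℚ)) =
    fun i : Fin (n + 1) => (G.map (Int.castRingHom ℚ)).coeff i from funext fun i => by simp,
    polyOf_coeff (natDegree_map_le.trans hG)]
  rw [show G.map (Int.castRingHom ℚ) = C (a : ℚ) * ∏ j, (X - C ((t j : ℤ) : ℚ)) by simp [G, Polynomial.map_prod]]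
  rw [resultant_split P hP.2.1 (even_two_mul g), map_mul, ndeg_mul hA, aeval_C, eq_intCast,
    ndeg_intCast hA, ndeg_prod hA]
  congr 1
  refine Finset.prod_congr rfl fun j _ => ?_
  rw [hP.2.2, map_sub, aeval_X, aeval_C, eq_intCast]

include hA in
/-- Roots of the characteristic polynomial are roots of any annihilating polynomial. -/
theorem eval_root_eq_zero {φ : EndAV.End A} {P : ℚ[X]} (hP : IsCharPoly g φ P) {mu : ℤ[X]} (hmu : aeval φ mu = 0)
    {K : Type*} [Field K] [CharZero K] [IsAlgClosed K] {a : K} (ha : a ∈ (P.map (algebraMap ℚ K)).roots) :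
    (mu.map (Int.castRingHom K)).eval a = 0 := by
  set M := mu.map (Int.castRingHom K)
  set PK := P.map (algebraMap ℚ K)
  have hs : PK.Splits := IsAlgClosed.splits _
  have hmon : PK.Monic := hP.1.map _
  have hd : PK.natDegree = 2 * g := by rw [natDegree_map, hP.2.1]
  have key : (PK.roots.map fun b => X + C (M.eval b)).prod = X ^ (2 * g) := by
    refine eq_of_infinite_eval_eq _ _ ((Set.infinite_range_of_injective (Int.cast_injective (α := K))).mono ?_)
    rintro _ ⟨t, rfl⟩
    show _ = _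
    have h := congrArg (algebraMap ℚ K) (ndeg_aeval hA hP (mu + C t) (n := mu.natDegree) (natDegree_add_C).le)
    rw [map_add, hmu, zero_add, aeval_C, eq_intCast, ndeg_intCast hA, ← resultant_map_map,
      Polynomial.map_map, ← hd, resultant_eq_prod_eval _ _ _ (natDegree_map_le.trans natDegree_add_C.le) hs,
      hmon.leadingCoeff, one_pow, _root_.one_mul] at h
    rw [eval_multiset_prod, Multiset.map_map, eval_pow, eval_X]
    refine Eq.trans ?_ (h.symm.trans (by simp [hd]))
    congr 1
    refine Multiset.map_congr rfl fun b _ => ?_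
    rw [Function.comp_apply, eval_add, eval_X, eval_C, show (algebraMap ℚ K).comp (Int.castRingHom ℚ) = Int.castRingHom K from
      Subsingleton.elim _ _, Polynomial.map_add, map_C, eval_add, eval_C, add_comm, eq_intCast]
  by_contra hne
  have h0 := congrArg (Polynomial.eval (-M.eval a)) key
  rw [eval_multiset_prod, Multiset.map_map, eval_pow, eval_X, Multiset.prod_eq_zero] at h0
  · exact pow_ne_zero _ (neg_ne_zero.2 hne) h0.symm
  · exact Multiset.mem_map.2 ⟨a, ha, by simp⟩

include hA in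
/-- The characteristic polynomial has integer coefficients. -/
theorem exists_int {φ : EndAV.End A} {P : ℚ[X]} (hP : IsCharPoly g φ P) :
    ∃ P₀ : ℤ[X], P₀.Monic ∧ P₀.natDegree = 2 * g ∧ P₀.map (Int.castRingHom ℚ) = P := by
  obtain ⟨mu, hmum, -, hmu⟩ := exists_int_minpoly φ
  let K := AlgebraicClosure ℚ
  let S := integralClosure ℤ K
  have hlift : P.map (algebraMap ℚ K) ∈ Polynomial.lifts (algebraMap S K) := by
    rw [(IsAlgClosed.splits (P.map (algebraMap ℚ K))).eq_prod_roots_of_monic (hP.1.map _)]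
    refine multiset_prod_mem _ fun q hq => ?_
    obtain ⟨a, ha, rfl⟩ := Multiset.mem_map.1 hq
    refine (Polynomial.mem_lifts _).2 ⟨X - C (⟨a, mu, hmum, ?_⟩ : S), by rw [Polynomial.map_sub, map_X, map_C]; rfl⟩
    rw [← Polynomial.eval_map, algebraMap_int_eq]
    refine eval_root_eq_zero hA hP ?_ ha
    rw [aeval_def]
    exact (congrArg (fun f => eval₂ f φ mu) (Subsingleton.elim _ _)).trans hmu
  have hcoef : ∀ i, IsIntegral ℤ (P.coeff i) := fun i => by
    obtain ⟨s, hs⟩ := (lifts_iff_coeff_lifts _).1 hlift i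
    rw [coeff_map] at hs
    rw [← isIntegral_algebraMap_iff (B := K) (algebraMap ℚ K).injective, ← hs]
    exact s.2
  choose c hc using fun i => IsIntegrallyClosed.isIntegral_iff.1 (hcoef i)
  have hl : P ∈ Polynomial.lifts (Int.castRingHom ℚ) := (lifts_iff_coeff_lifts _).2 fun i => ⟨c i, by simpa using hc i⟩
  obtain ⟨P₀, hP₀, hd, hm⟩ := lifts_and_natDegree_eq_and_monic hl hP.1
  exact ⟨P₀, hm, hd.trans hP.2.1, hP₀⟩

include hA in
/-- The characteristic polynomial is that of the Tate representation. -/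
theorem charpoly_eq {φ : EndAV.End A} {P : ℚ[X]} (hP : IsCharPoly g φ P) (l : ℕ) [Fact l.Prime] (hl : (l : k) ≠ 0)
    [Module.Free ℤ_[l] (Tate A l)] [Module.Finite ℤ_[l] (Tate A l)] :
    (EndAV.End.tateRep l (𝟙_ (Over (Spec (CommRingCat.of k)))) φ).charpoly.map (algebraMap ℤ_[l] ℚ_[l]) =
      P.map (algebraMap ℚ ℚ_[l]) := by
  obtain ⟨-, -, hrk⟩ := tate_free_finite_finrank A hA l hl
  let bA := Module.finBasisOfFinrankEq ℤ_[l] (Tate A l) hrk
  let ρ := EndAV.End.tateRep l (𝟙_ (Over (Spec (CommRingCat.of k)))) (A := A)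
  let M : Matrix (Fin (2 * g)) (Fin (2 * g)) ℤ_[l] := LinearMap.toMatrix bA bA (ρ φ)
  rw [show (EndAV.End.tateRep l (𝟙_ (Over (Spec (CommRingCat.of k)))) φ).charpoly = M.charpoly from
    (LinearMap.charpoly_toMatrix _ bA).symm]
  refine eq_of_norm_resultant (d := 2 * g) (M.charpoly_monic.map _) (hP.1.map _)
    (by rw [M.charpoly_monic.natDegree_map, M.charpoly_natDegree_eq_dim, Fintype.card_fin]) (by rw [natDegree_map, hP.2.1])
    fun n c => ?_
  -- clear denominators
  obtain ⟨⟨D, hD⟩, hD'⟩ := IsLocalization.exist_integer_multiples_of_finite (nonZeroDivisors ℤ) c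
  choose z hz using hD'
  have hz' : ∀ i, ((z i : ℤ) : ℚ) = (D : ℚ) * c i := fun i => by
    have := hz i
    rwa [algebraMap_int_eq, zsmul_eq_mul] at this
  set F : ℤ[X] := polyOf z
  have hDne : (D : ℚ) ≠ 0 := by exact_mod_cast nonZeroDivisors.ne_zero hD
  have hF : (F.map (Int.castRingHom ℚ_[l])) = C (D : ℚ_[l]) * polyOf fun i => (c i : ℚ_[l]) := by
    rw [map_polyOf, polyOf, polyOf, Finset.mul_sum]
    refine Finset.sum_congr rfl fun i _ => ?_
    rw [C_mul_monomial]
    congr 1
    show ((z i : ℤ) : ℚ_[l]) = _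
    exact_mod_cast congrArg (fun q : ℚ => (q : ℚ_[l])) (hz' i)
  suffices h : ‖resultant (M.charpoly.map (algebraMap ℤ_[l] ℚ_[l])) (F.map (Int.castRingHom ℚ_[l])) (2 * g) n‖ =
      ‖resultant (P.map (algebraMap ℚ ℚ_[l])) (F.map (Int.castRingHom ℚ_[l])) (2 * g) n‖ by
    rw [hF, resultant_C_mul_right, resultant_C_mul_right, norm_mul, norm_mul] at h
    exact mul_left_cancel₀ (norm_ne_zero_iff.2 (pow_ne_zero _ (by exact_mod_cast hDne))) h
  have hn : F.natDegree ≤ n := natDegree_polyOf_le z
  -- the Tate side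
  have hT : resultant (M.charpoly.map (algebraMap ℤ_[l] ℚ_[l])) (F.map (Int.castRingHom ℚ_[l])) (2 * g) n =
      algebraMap ℤ_[l] ℚ_[l] (LinearMap.toMatrix bA bA (ρ (aeval φ F))).det := by
    rw [show F.map (Int.castRingHom ℚ_[l]) = (F.map (Int.castRingHom ℤ_[l])).map (algebraMap ℤ_[l] ℚ_[l]) by
      rw [Polynomial.map_map]; congr 1, resultant_map_map]
    congr 1
    have := resultant_charpoly M (F.map (Int.castRingHom ℤ_[l])) n (natDegree_map_le.trans hn)
    rw [Fintype.card_fin] at this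
    rw [this]
    congr 1
    rw [aeval_def, eval₂_map]
    let Θ : EndAV.End A →+* Matrix (Fin (2 * g)) (Fin (2 * g)) ℤ_[l] :=
      ((LinearMap.toMatrixAlgEquiv bA).toAlgHom.toRingHom).comp ρ
    show _ = Θ (aeval φ F)
    rw [aeval_def, hom_eval₂]
    congr 1
    exact Subsingleton.elim _ _
  have hP' : resultant (P.map (algebraMap ℚ ℚ_[l])) (F.map (Int.castRingHom ℚ_[l])) (2 * g) n =
      algebraMap ℚ ℚ_[l] (ndeg g (aeval φ F)) := by
    rw [ndeg_aeval hA hP F hn, ← resultant_map_map, Polynomial.map_map]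
    congr 2
  rw [hT, hP']
  by_cases hfin : IsFinite (EndAV.Hom.toHom (aeval φ F : EndAV.End A)).left
  · haveI := hfin
    haveI := (flat_of_isFinite (EndAV.Hom.toHom (aeval φ F : EndAV.End A)) hA hA).1
    set b := genericPoint A.left
    have hdet : (LinearMap.toMatrix bA bA (ρ (aeval φ F))).det ≠ 0 :=
      (isFinite_iff_det_ne_zero l hl bA bA (aeval φ F : EndAV.End A)).1 hfin
    have hv := padicValNat_finrank l hl hA hA (EndAV.Hom.toHom (aeval φ F : EndAV.End A)) b bA bA
    rw [ndeg_eq_finrank hA hA (aeval φ F : EndAV.End A) b]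
    have hne : (EndAV.Hom.toHom (aeval φ F : EndAV.End A)).left.finrank b ≠ 0 := by
      have hs := (flat_of_isFinite (EndAV.Hom.toHom (aeval φ F : EndAV.End A)) hA hA).2
      exact ((Scheme.Hom.one_le_finrank_iff_surjective _).2 hs b).trans_lt' Nat.zero_lt_one |>.ne'
    rw [map_natCast, Padic.norm_eq_zpow_neg_valuation (Nat.cast_ne_zero.2 hne), Padic.valuation_natCast, hv,
      PadicInt.algebraMap_apply, ← PadicInt.norm_def, PadicInt.norm_eq_zpow_neg_valuation hdet]
    rfl
  · have hdet : (LinearMap.toMatrix bA bA (ρ (aeval φ F))).det = 0 :=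
      not_not.1 fun h => hfin ((isFinite_iff_det_ne_zero l hl bA bA (aeval φ F : EndAV.End A)).2 h)
    rw [hdet, ndeg_of_not_isFinite hA hfin, map_zero, map_zero]

end AVAmpleLib

end
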