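import Groth.Agent.AVAmpleLib.CharPoly

/-!
Degrees of endomorphisms read off the characteristic polynomial.
-/

set_option autoImplicit false
set_option linter.style.haveILetI false
set_option linter.unusedSectionVars false
set_option backward.isDefEq.respectTransparency false

noncomputable section

universe u

open CategoryTheory CategoryTheory.Limits MonoidalCategory CartesianMonoidalCategory MonObj AlgebraicGeometry TopologicalSpace

namespace AVAmpleLib

variable {k : Type u} [Field k] [IsAlgClosed k] {A : Over (Spec (CommRingCat.of k))}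
  [GrpObj A] [IsCommMonObj A] [IsProper A.hom] [GeometricallyIntegral A.hom]
  {g : ℕ} (hA : topologicalKrullDim A.left = (g : ℕ))

include hA in
/-- The two cases of the degree. -/
theorem finite_cases (φ : EndAV.End A) {f : A ⟶ A} (hf : EndAV.Hom.toHom φ = f) :
    (IsFinite f.left → ∀ a : A.left, (f.left.finrank a : ℚ) = ndeg g φ) ∧ (¬ IsFinite f.left → ndeg g φ = 0) := by
  subst hf
  refine ⟨fun h a => ?_, fun h => ndeg_of_not_isFinite hA h⟩
  haveI := h
  exact (ndeg_eq_finrank hA hA φ a).symm

theorem toHom_of_sub (α : A ⟶ A) [IsMonHom α] (n : ℤ) :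
    EndAV.Hom.toHom (EndAV.End.of α - (n : EndAV.End A)) = α * 𝟙 A ^ (-n) := by
  show EndAV.End.toHom _ = _
  rw [EndAV.End.toHom_sub, EndAV.End.toHom_of, EndAV.End.toHom_intCast, div_eq_mul_inv, zpow_neg]

end AVAmpleLib

end
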