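import Groth.Agent.AVAmpleLib.ProdRigid
import Groth.Agent.UOpenLib.Criterion

/-!
# Rigidity over a base with constant fibrewise functions
-/

set_option autoImplicit false
set_option linter.style.haveILetI false

universe u

open CategoryTheory CategoryTheory.Limits AlgebraicGeometry

namespace AVAmpleLib

variable {X S Y : Scheme.{u}}

theorem h0Fib_of_bijective (f : X ⟶ S) [QuasiCompact f] [QuasiSeparated f]
    (h0 : ∀ s : S, Function.Bijective (Limits.pullback.snd f (S.fromSpecResidueField s)).appTop) :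
    H0Lib.H0Fib f :=
  H0Lib.H0Fib.of_fiber f fun s =>
    (h0 s).comp (ConcreteCategory.bijective_of_isIso (Scheme.ΓSpecIso (S.residueField s)).inv)

/-- If `f` collapses one fibre of `g` and the base is connected then `f` factors through the base. -/
theorem exists_factor_of_collapse {T : Scheme.{u}} (g : X ⟶ T) [IsProper g] [Flat g]
    [LocallyOfFinitePresentation g] (h0 : H0Lib.H0Fib g) [ConnectedSpace T] (p : T ⟶ S) (q : Y ⟶ S)
    [IsSeparated q] (f : X ⟶ Y) (hf : f ≫ q = g ≫ p) {t : T} (ht : t ∈ H0Lib.collapse g f) :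
    ∃ k : T ⟶ Y, k ≫ q = p ∧ f = g ≫ k := by
  have hb := H0Lib.bijective_app g h0
  haveI : Surjective g := H0Lib.surjective_of_h0Fib g h0
  have hu := IsClopen.eq_univ ⟨H0Lib.isClosed_collapse g f p q hf hb, H0Lib.isOpen_collapse g f hb⟩ ⟨t, ht⟩
  obtain ⟨k, hk⟩ := H0Lib.exists_factor_on g f hb ⊤ (fun x _ => by rw [hu]; trivial)
  have hk' : f = g ≫ (Scheme.topIso T).inv ≫ k := by
    haveI : IsIso (g ⁻¹ᵁ ⊤).ι := inferInstanceAs (IsIso (Scheme.topIso _).hom)
    have e : (⊤ : T.Opens).ι ≫ (Scheme.topIso T).inv = 𝟙 _ := (Scheme.topIso T).hom_inv_id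
    rw [← cancel_epi (g ⁻¹ᵁ ⊤).ι, hk, ← morphismRestrict_ι_assoc, reassoc_of% e]
  refine ⟨_, ?_, hk'⟩
  refine H0Lib.hom_ext_of_bijective g hb _ _ ?_
  rw [← Category.assoc, ← hk']
  exact hf

end AVAmpleLib
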