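import Groth.Agent.S4662
import Groth.Agent.CubeConsLib.Defect2
import Mathlib.CategoryTheory.Monoidal.Grp
import Groth.Agent.CubeConsLib.FieldHom

/-!
Finite products of abelian varieties.
-/

set_option autoImplicit false
set_option linter.style.haveILetI false
set_option backward.isDefEq.respectTransparency false
set_option maxHeartbeats 1000000

noncomputable section

universe u

open CategoryTheory CategoryTheory.Limits MonoidalCategory CartesianMonoidalCategory MonObj AlgebraicGeometry TopologicalSpace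

namespace AVAmpleLib

variable {k : Type u} [Field k]

/-- The dimension of a product of two varieties. -/
theorem dim_tensor (X Y : Over (Spec (CommRingCat.of k))) [LocallyOfFiniteType X.hom] [LocallyOfFiniteType Y.hom]
    [GeometricallyIntegral X.hom] [GeometricallyIntegral Y.hom] :
    topologicalKrullDim (X ⊗ Y).left = topologicalKrullDim X.left + topologicalKrullDim Y.left := by
  haveI : IsIntegral X.left := GeometricallyIntegral.isIntegral_of_subsingleton X.hom
  haveI : IsIntegral Y.left := GeometricallyIntegral.isIntegral_of_subsingleton Y.hom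
  haveI : GeometricallyIntegral (X ⊗ Y).hom := CubeConsLib.geometricallyIntegral_prod X.hom Y.hom
  haveI : IsIntegral (X ⊗ Y).left := GeometricallyIntegral.isIntegral_of_subsingleton (X ⊗ Y).hom
  have h := Groth.Agent.S4662.result X.hom Y.hom (Set.univ : Set ↥(X ⊗ Y).left)
    ((irreducibleComponents_eq_singleton (X := ↥(X ⊗ Y).left)).symm ▸ rfl)
  rwa [IsHomeomorph.topologicalKrullDim_eq _ (Homeomorph.Set.univ ↥(X ⊗ Y).left).isHomeomorph] at h

/-- Finite products of abelian varieties, with their projections and injections. -/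
theorem exists_prod_family : ∀ (n : ℕ) (B : Fin n → Over (Spec (CommRingCat.of k))) [∀ t, GrpObj (B t)]
    [∀ t, IsCommMonObj (B t)] [∀ t, IsProper (B t).hom] [∀ t, GeometricallyIntegral (B t).hom] (d : Fin n → ℕ),
    (∀ t, topologicalKrullDim (B t).left = (d t : ℕ)) →
    ∃ (P : Over (Spec (CommRingCat.of k))) (_ : GrpObj P) (_ : IsCommMonObj P) (p : ∀ t, P ⟶ B t) (q : ∀ t, B t ⟶ P),
      IsProper P.hom ∧ GeometricallyIntegral P.hom ∧ topologicalKrullDim P.left = ((∑ t, d t : ℕ) : WithBot ℕ∞) ∧
      (∀ t, IsMonHom (p t)) ∧ (∀ t, IsMonHom (q t)) ∧ (∀ t, q t ≫ p t = 𝟙 (B t)) ∧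
      (∀ s t, s ≠ t → q s ≫ p t = 1) ∧ (∏ t, (p t ≫ q t)) = 𝟙 P := by
  intro n
  induction n with
  | zero =>
    intro B _ _ _ _ d _
    haveI : IsProper (𝟙_ (Over (Spec (CommRingCat.of k)))).hom := inferInstanceAs (IsProper (𝟙 _))
    haveI : GeometricallyIntegral (𝟙_ (Over (Spec (CommRingCat.of k)))).hom :=
      show GeometricallyIntegral (𝟙 (Spec (CommRingCat.of k))) from
        ⟨fun K _ y Z f g h => by
          haveI : IsIso g := h.isIso_snd_of_isIso
          haveI : Nonempty Z := ⟨(inv g) (Classical.arbitrary ↥(Spec (CommRingCat.of K)))⟩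
          exact isIntegral_of_isOpenImmersion g⟩
    haveI : IsCommMonObj (𝟙_ (Over (Spec (CommRingCat.of k)))) := ⟨toUnit_unique _ _⟩
    refine ⟨𝟙_ _, inferInstance, inferInstance, fun t => t.elim0, fun t => t.elim0, inferInstance, inferInstance,
      ?_, fun t => t.elim0, fun t => t.elim0, fun t => t.elim0, fun s => s.elim0, toUnit_unique _ _⟩
    rw [Finset.univ_eq_empty, Finset.sum_empty, Nat.cast_zero]
    show topologicalKrullDim (PrimeSpectrum k) = 0
    rw [PrimeSpectrum.topologicalKrullDim_eq_ringKrullDim, ringKrullDim_eq_zero_of_field]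
  | succ n ih =>
    intro B _ _ _ _ d hd
    obtain ⟨P, _, _, p, q, hP, hPg, hPd, hp, hq, hqp, hqp', hpq⟩ := ih (fun t => B t.succ) (fun t => d t.succ) fun t => hd _
    haveI : IsProper (B 0 ⊗ P).hom := inferInstanceAs (IsProper (pullback.fst (B 0).hom P.hom ≫ (B 0).hom))
    haveI : GeometricallyIntegral (B 0 ⊗ P).hom := CubeConsLib.geometricallyIntegral_prod (B 0).hom P.hom
    haveI : IsCommMonObj (B 0 ⊗ P) := CubeConsLib.isCommMonObj_field
    let p' : ∀ t, B 0 ⊗ P ⟶ B t := Fin.cases (fst (B 0) P) fun t => snd (B 0) P ≫ p t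
    let q' : ∀ t, B t ⟶ B 0 ⊗ P := Fin.cases (lift (𝟙 (B 0)) 1) fun t => lift 1 (q t)
    haveI hf : IsMonHom (fst (B 0) P) := inferInstance
    haveI hs : IsMonHom (snd (B 0) P) := inferInstance
    have hp' : ∀ t, IsMonHom (p' t) := Fin.cases hf fun t => by
      haveI := hp t
      exact inferInstanceAs (IsMonHom (snd (B 0) P ≫ p t))
    have hone : ∀ {X Y : Over (Spec (CommRingCat.of k))} [GrpObj X] [GrpObj Y], IsMonHom (1 : X ⟶ Y) := by
      intro X Y _ _
      refine ⟨?_, ?_⟩
      · rw [MonObj.comp_one, Hom.one_def, toUnit_unique (toUnit _) (𝟙 _), Category.id_comp]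
      · rw [MonObj.comp_one, MonObj.mul_eq_mul, MonObj.comp_mul, tensorHom_fst, tensorHom_snd, MonObj.comp_one,
          MonObj.comp_one, _root_.mul_one]
    have hlift : ∀ {X : Over (Spec (CommRingCat.of k))} [GrpObj X] (f : X ⟶ B 0) (g : X ⟶ P) [IsMonHom f]
        [IsMonHom g], IsMonHom (lift f g) := by
      intro X _ f g _ _
      infer_instance
    have hq' : ∀ t, IsMonHom (q' t) := by
      refine Fin.cases ?_ fun t => ?_
      · haveI : IsMonHom (1 : B 0 ⟶ P) := hone
        exact hlift (𝟙 (B 0)) 1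
      · haveI := hq t
        haveI : IsMonHom (1 : B t.succ ⟶ B 0) := hone
        exact hlift 1 (q t)
    refine ⟨B 0 ⊗ P, inferInstance, inferInstance, p', q', inferInstance, inferInstance, ?_, hp', hq', ?_, ?_, ?_⟩
    · rw [dim_tensor, hd 0, hPd, Fin.sum_univ_succ]
      push_cast
      rfl
    · refine Fin.cases ?_ fun t => ?_
      · simp [p', q']
      · simp [p', q', hqp t]
    · refine Fin.cases (Fin.cases (fun h => absurd rfl h) fun t _ => ?_) fun s => Fin.cases (fun _ => ?_) fun t h => ?_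
      · simp [p', q', MonObj.one_comp]
      · simp [p', q']
      · simp [p', q', hqp' s t (fun e => h (congrArg Fin.succ e))]
    · rw [Fin.prod_univ_succ]
      have e1 : p' 0 ≫ q' 0 = lift (fst (B 0) P) 1 := by simp [p', q', MonObj.comp_one]
      have e2 : ∀ t : Fin n, p' t.succ ≫ q' t.succ = lift 1 (snd (B 0) P ≫ p t ≫ q t) := fun t => by
        simp [p', q', MonObj.comp_one]
      refine CartesianMonoidalCategory.hom_ext _ _ ?_ ?_
      · rw [MonObj.mul_comp, e1, lift_fst]
        let f : ((B 0 ⊗ P) ⟶ (B 0 ⊗ P)) →* ((B 0 ⊗ P) ⟶ B 0) :=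
          MonoidHom.mk' (fun a => a ≫ fst (B 0) P) fun a b => MonObj.mul_comp a b _
        show _ * f (∏ t, _) = _
        rw [map_prod]
        simp [f, e2]
      · rw [MonObj.mul_comp, e1, lift_snd]
        let f : ((B 0 ⊗ P) ⟶ (B 0 ⊗ P)) →* ((B 0 ⊗ P) ⟶ P) :=
          MonoidHom.mk' (fun a => a ≫ snd (B 0) P) fun a b => MonObj.mul_comp a b _
        let g : (P ⟶ P) →* ((B 0 ⊗ P) ⟶ P) :=
          MonoidHom.mk' (fun a => snd (B 0) P ≫ a) fun a b => MonObj.comp_mul _ a b
        show _ * f (∏ t, _) = _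
        rw [map_prod, _root_.one_mul, Category.id_comp]
        have hg := congrArg g hpq
        rw [map_prod] at hg
        refine Eq.trans ?_ (hg.trans (Category.comp_id (snd (B 0) P)))
        exact Finset.prod_congr rfl fun t _ => by simp [f, g, e2]

end AVAmpleLib

end
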