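import Mathlib

/-!
Disjoint closed subschemes of a finite scheme over a field.
-/

set_option autoImplicit false
set_option linter.style.haveILetI false

noncomputable section

universe u

open CategoryTheory CategoryTheory.Limits AlgebraicGeometry

namespace AVAmpleLib

theorem card_mul_finrank_le {K : Type u} [Field K] {G : Scheme.{u}} (q : G ⟶ Spec (CommRingCat.of K))
    [IsFinite q] {Q : Type u} [CommRing Q] [Algebra K Q] {ι : Type u} [Fintype ι]
    (l : ι → (Spec (CommRingCat.of Q) ⟶ G)) (hcl : ∀ i, IsClosedImmersion (l i))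
    (hl : ∀ i, l i ≫ q = Spec.map (CommRingCat.ofHom (algebraMap K Q)))
    (hdis : ∀ i j, i ≠ j → Disjoint (Set.range (l i).base) (Set.range (l j).base)) :
    Fintype.card ι * Module.finrank K Q ≤ q.finrank (IsLocalRing.closedPoint K) := by
  haveI : IsAffine G := isAffine_of_isAffineHom q
  obtain ⟨σ, hσ⟩ := Spec.map_surjective (G.isoSpec.inv ≫ q)
  haveI : IsFinite (G.isoSpec.inv ≫ q) := inferInstance
  have hfin : σ.hom.Finite := (IsFinite.SpecMap_iff σ).mp (hσ ▸ (inferInstance : IsFinite (G.isoSpec.inv ≫ q)))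
  haveI : Flat q := by
    have : Flat (Spec.map σ) := Flat.SpecMap_iff.mpr (by
      letI := σ.hom.toAlgebra
      exact RingHom.flat_algebraMap_iff.mpr inferInstance)
    rw [hσ] at this
    exact (MorphismProperty.cancel_left_of_respectsIso @Flat G.isoSpec.inv q).mp this
  let B := Γ(G, ⊤)
  letI : Algebra K B := σ.hom.toAlgebra
  haveI : Module.Finite K B := hfin
  have hdeg : q.finrank (IsLocalRing.closedPoint K) = Module.finrank K B := by
    rw [← Scheme.Hom.finrank_comp_left_of_isIso G.isoSpec.inv q, ← hσ,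
      show Spec.map σ = Spec.map (CommRingCat.ofHom (algebraMap K B)) from rfl,
      Scheme.Hom.finrank_SpecMap_algebraMap, Module.rankAtStalk_eq_finrank_of_free]
    rfl
  have hex : ∀ i, ∃ f : B →ₐ[K] Q, Function.Surjective f ∧
      Spec.map (CommRingCat.ofHom f.toRingHom) = l i ≫ G.isoSpec.hom := fun i => by
    obtain ⟨χ, hχ⟩ := Spec.map_surjective (l i ≫ G.isoSpec.hom)
    haveI := hcl i
    haveI : IsClosedImmersion (Spec.map χ) := hχ ▸ inferInstance
    have hsurj : Function.Surjective χ.hom := by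
      obtain ⟨-, h2⟩ := IsClosedImmersion.isAffine_surjective_of_isAffine (Spec.map χ)
      have h3 := (ConcreteCategory.bijective_of_isIso (Scheme.ΓSpecIso (CommRingCat.of Q)).hom).2.comp h2
      have e : ((Scheme.ΓSpecIso Γ(G, ⊤)).hom ≫ χ : _ ⟶ CommRingCat.of Q) =
          (Spec.map χ).appTop ≫ (Scheme.ΓSpecIso (CommRingCat.of Q)).hom :=
        (Scheme.ΓSpecIso_naturality χ).symm
      intro z
      obtain ⟨w, hw⟩ := h3 z
      exact ⟨(Scheme.ΓSpecIso Γ(G, ⊤)).hom w, (congrArg (fun t : _ ⟶ CommRingCat.of Q => t.hom w) e).trans hw⟩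
    have hc : σ ≫ χ = CommRingCat.ofHom (algebraMap K Q) := by
      apply Spec.map_injective
      rw [Spec.map_comp, hσ, hχ, Category.assoc, Iso.hom_inv_id_assoc]
      exact hl i
    exact ⟨{ χ.hom with commutes' := fun r => congrArg (fun t : CommRingCat.of K ⟶ _ => t.hom r) hc }, hsurj, hχ⟩
  choose f hf hfs using hex
  let I : ι → Ideal B := fun i => RingHom.ker (f i).toRingHom
  have hcop : Pairwise fun i j => IsCoprime (I i) (I j) := fun i j hij => by
    show IsCoprime (I i) (I j)
    rw [Ideal.isCoprime_iff_sup_eq]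
    by_contra h
    obtain ⟨m, hm, hle⟩ := Ideal.exists_le_maximal _ h
    have hz : ∀ k, I k ≤ m → ∃ z, Spec.map (CommRingCat.ofHom (f k).toRingHom) z = (⟨m, hm.isPrime⟩ : PrimeSpectrum B) :=
      fun k hk => by
        have : (⟨m, hm.isPrime⟩ : PrimeSpectrum B) ∈ Set.range (PrimeSpectrum.comap (f k).toRingHom) := by
          rw [_root_.range_comap_of_surjective _ _ (hf k)]
          exact (PrimeSpectrum.mem_zeroLocus _ _).mpr hk
        exact this
    obtain ⟨a, ha⟩ := hz i (le_sup_left.trans hle)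
    obtain ⟨b, hb⟩ := hz j (le_sup_right.trans hle)
    rw [hfs i] at ha
    rw [hfs j] at hb
    exact Set.disjoint_left.mp (hdis i j hij) ⟨a, rfl⟩
      ⟨b, G.isoSpec.hom.isOpenEmbedding.injective (hb.trans ha.symm)⟩
  let Φ : B →ₗ[K] (ι → Q) := LinearMap.pi fun i => (f i).toLinearMap
  have hΦ : Function.Surjective Φ := fun v => by
    choose w hw using fun i => hf i (v i)
    obtain ⟨b, hb⟩ := Ideal.exists_forall_sub_mem_ideal hcop w
    refine ⟨b, funext fun i => ?_⟩
    have : b - w i ∈ I i := hb i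
    change f i b = v i
    rw [← hw i, ← sub_eq_zero, ← map_sub]
    exact this
  rcases isEmpty_or_nonempty ι with hι | ⟨⟨i₀⟩⟩
  · simp [Fintype.card_eq_zero]
  haveI : Module.Finite K Q := Module.Finite.of_surjective (f i₀).toLinearMap (hf i₀)
  have := LinearMap.finrank_le_finrank_of_injective (f := Φ.dualMap) (LinearMap.dualMap_injective_of_surjective hΦ)
  rw [Subspace.dual_finrank_eq, Subspace.dual_finrank_eq, Module.finrank_pi_fintype, Finset.sum_const,
    Finset.card_univ, smul_eq_mul] at this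
  exact this.trans hdeg.ge

end AVAmpleLib

end
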