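import Groth.Agent.HilbPolyLib.Pos
import Groth.Agent.DevissLib.Induction
import Groth.Agent.DevissLib.Finite
import Groth.Agent.CurvLib.EulerTensor
import Groth.Agent.PushLinLib.HH
import Groth.Agent.ProjFormLib.Proj
import Groth.Agent.FlatLib.QStalk
import Groth.Agent.AmpleDevLib.Devissage
import Groth.Agent.CubeConsLib.Hom

/-!
# The degree of a finite flat endomorphism from the pullback of an ample class
-/

set_option autoImplicit false
set_option linter.style.haveILetI false
set_option maxHeartbeats 1000000
universe u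

open CategoryTheory CategoryTheory.Limits AlgebraicGeometry TopologicalSpace Opposite

noncomputable section

namespace AVAmpleLib

theorem nonempty_stalk_structureModule (X : Scheme.{u}) (x : X) :
    Nonempty (X.presheaf.stalk x ≃ₗ[X.presheaf.stalk x] (Coh.structureModule X).presheaf.stalk x) := by
  obtain ⟨U, g, hU, hg⟩ := TwistLib.exists_genOn (CubeConsLib.isInvertible_one X) x
  exact ⟨LinearEquiv.ofBijective (LinearMap.toSpanSingleton (X.presheaf.stalk x) _
    ((Coh.structureModule X).presheaf.germ U x hU g)) (hg.genAt hU)⟩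

theorem genRank_structureModule (X : Scheme.{u}) [IsIntegral X] :
    CurvLib.genRank (Coh.structureModule X) = 1 := by
  obtain ⟨e⟩ := nonempty_stalk_structureModule X (genericPoint X)
  exact e.finrank_eq.symm.trans (Module.finrank_self _)

theorem support_structureModule (X : Scheme.{u}) : CohB1.support (Coh.structureModule X) = Set.univ := by
  refine Set.eq_univ_of_forall fun x => ?_
  intro h
  obtain ⟨e⟩ := nonempty_stalk_structureModule X x
  have h' : Subsingleton ((Coh.structureModule X).presheaf.stalk x) := h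
  have : Subsingleton (X.presheaf.stalk x) := e.toEquiv.subsingleton
  exact not_nontrivial (X.presheaf.stalk x) inferInstance

theorem dim_support_structureModule (X : Scheme.{u}) :
    topologicalKrullDim (CohB1.support (Coh.structureModule X)) = topologicalKrullDim X := by
  rw [support_structureModule]
  exact IsHomeomorph.topologicalKrullDim_eq _ (Homeomorph.Set.univ X).isHomeomorph

variable {X : Scheme.{u}} [IsIntegral X] {k : Type u} [Field k] [X.Over (Spec (CommRingCat.of k))]
  [IsProper (X ↘ Spec (CommRingCat.of k))] {L : X.Modules}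

/-- The multiplicity is the generic rank times the multiplicity of the space. -/
theorem alpha_eq_genRank_mul' (hL : PicF.IsInvertible L) {g : ℕ} (hg : topologicalKrullDim X = (g : ℕ))
    {M : X.Modules} (hM : Coh.IsCoh M) {P Q : Polynomial ℚ} (hP : ShStab.IsHilbPoly k X L M P)
    (hQ : ShStab.IsHilbPoly k X L (Coh.structureModule X) Q) :
    StabCat.alpha g P = (CurvLib.genRank M : ℚ) * StabCat.alpha g Q := by
  haveI := CurvLib.isNoetherian k (X := X)
  let Pr : X.Modules → Prop := fun N => ∀ p : Polynomial ℚ, ShStab.IsHilbPoly k X L N p →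
    StabCat.alpha g p = (CurvLib.genRank N : ℚ) * StabCat.alpha g Q
  suffices Pr M from this P hP
  refine DevissLib.devissage Pr ?_ Set.univ ?_ ⟨genericPoint X, trivial⟩ ?_ isClosed_univ M hM (Set.subset_univ _)
  · rintro N N' ⟨e⟩ h p hp
    rw [h p (HilbPolyLib.isHilbPoly_congr e.symm hp)]
    congr 2
    exact ((DevissLib.St (genericPoint X)).mapIso e).toLinearEquiv.finrank_eq
  · intro S hS h₁ h₂ h₃ _
    obtain ⟨p₁, hp₁⟩ := HilbPolyLib.exists_isHilbPoly' (k := k) hL h₁
    obtain ⟨p₃, hp₃⟩ := HilbPolyLib.exists_isHilbPoly' (k := k) hL h₃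
    have hp₂ := HilbPolyLib.isHilbPoly_add hL hS h₁ h₂ h₃ hp₁ hp₃
    have hadd : StabCat.alpha g (p₁ + p₃) = StabCat.alpha g p₁ + StabCat.alpha g p₃ := by simp [StabCat.alpha, mul_add]
    have hr : (CurvLib.genRank S.X₂ : ℚ) = CurvLib.genRank S.X₁ + CurvLib.genRank S.X₃ := by
      exact_mod_cast CurvLib.genRank_add hS h₁ h₂ h₃
    refine ⟨fun a b p hp => ?_, fun a b p hp => ?_, fun a b p hp => ?_⟩
    · rw [HilbPolyLib.isHilbPoly_unique hp hp₃]
      have := b _ hp₂
      rw [hadd, hr, add_mul, a _ hp₁] at this
      linarith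
    · rw [HilbPolyLib.isHilbPoly_unique hp hp₂, hadd, hr, add_mul, a _ hp₁, b _ hp₃]
    · rw [HilbPolyLib.isHilbPoly_unique hp hp₁]
      have := a _ hp₂
      rw [hadd, hr, add_mul, b _ hp₃] at this
      linarith
  · intro η _ _
    by_cases hη : η = genericPoint X
    · subst hη
      refine ⟨Coh.structureModule X, DevissLib.isCoh_structureModule X, ?_, ?_, fun p hp => ?_⟩
      · rw [support_structureModule, (genericPoint_spec X).def]
      · obtain ⟨e⟩ := nonempty_stalk_structureModule X (genericPoint X)
        have hb : Function.Bijective (Algebra.linearMap (X.presheaf.stalk (genericPoint X))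
            (IsLocalRing.ResidueField (X.presheaf.stalk (genericPoint X)))) := by
          refine ⟨?_, IsLocalRing.residue_surjective⟩
          show Function.Injective (IsLocalRing.residue (X.presheaf.stalk (genericPoint X)))
          rw [RingHom.injective_iff_ker_eq_bot, IsLocalRing.ker_residue]
          exact IsLocalRing.isField_iff_maximalIdeal_eq.mp ((inferInstance : Field X.functionField).toIsField)
        exact ⟨e.symm.trans (LinearEquiv.ofBijective _ hb)⟩
      · rw [HilbPolyLib.isHilbPoly_unique hp hQ,
          show CurvLib.genRank (Coh.structureModule X) = 1 from genRank_structureModule X, Nat.cast_one, one_mul]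
    · obtain ⟨Z, j, hj, hZ, hr⟩ := DevissLib.exists_integral_closed isClosed_closure (isIrreducible_singleton (x := η)).closure
      have hξ : j (genericPoint Z) = η := by
        refine ((genericPoint_spec Z).image j.continuous).eq ?_
        change closure {η} = closure (⇑j '' Set.univ)
        rw [Set.image_univ, hr, closure_closure]
      obtain ⟨hG, hGs, he⟩ := DevissLib.push_generic j _ (DevissLib.isCoh_structureModule Z) ⊤
        ⟨genericPoint Z, trivial⟩ fun U _ => DevissLib.exists_gen_structureModule U
      rw [hξ] at he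
      rw [hr] at hGs
      refine ⟨_, hG, hGs, he, fun p hp => ?_⟩
      have hn : genericPoint X ∉ CohB1.support ((Coh.push j).obj (Coh.structureModule Z)) := fun h => by
        rw [hGs] at h
        exact hη ((specializes_iff_mem_closure.mpr h).antisymm ((genericPoint_spec X).specializes trivial)).eq
      have hd1 : topologicalKrullDim (closure ({genericPoint X} : Set X)) < ((g + 1 : ℕ) : WithBot ℕ∞) := by
        rw [(genericPoint_spec X).def, IsHomeomorph.topologicalKrullDim_eq _ (Homeomorph.Set.univ X).isHomeomorph, hg]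
        exact_mod_cast Nat.lt_succ_self g
      obtain ⟨p', hp', hp''⟩ := HilbPolyLib.exists_isHilbPoly (k := k) hL hG
        (HilbPolyLib.dim_lt_of_notMem (QCohLib.isClosed_support _ hG.2)
          (fun y _ => by rw [(genericPoint_spec X).def]; trivial) hn subset_rfl hd1)
      rw [HilbPolyLib.isHilbPoly_unique hp hp'', StabCat.alpha, Polynomial.coeff_eq_zero_of_degree_lt hp', mul_zero]
      have h0 : Subsingleton (((Coh.push j).obj (Coh.structureModule Z)).presheaf.stalk (genericPoint X)) := not_not.mp hn
      rw [CurvLib.genRank, Module.finrank_zero_of_subsingleton, Nat.cast_zero, zero_mul]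

theorem alpha_eq_genRank_mul (hA : CohB1.IsAmple L) {g : ℕ} (hg : topologicalKrullDim X = (g : ℕ))
    {M : X.Modules} (hM : Coh.IsCoh M) {P Q : Polynomial ℚ} (hP : ShStab.IsHilbPoly k X L M P)
    (hQ : ShStab.IsHilbPoly k X L (Coh.structureModule X) Q) :
    StabCat.alpha g P = (CurvLib.genRank M : ℚ) * StabCat.alpha g Q :=
  alpha_eq_genRank_mul' hA.1 hg hM hP hQ

/-- The generic rank of the direct image of the structure sheaf is the degree. -/
theorem genRank_push_structure {Y : Scheme.{u}} (f : Y ⟶ X) [IsFinite f] [Flat f] :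
    CurvLib.genRank ((Coh.push f).obj (Coh.structureModule Y)) = f.finrank (genericPoint X) := by
  let η := genericPoint X
  obtain ⟨V, hV, hηV, -⟩ := exists_isAffineOpen_mem_and_subset (U := ⊤) (x := η) trivial
  haveI : Nonempty V := ⟨⟨η, hηV⟩⟩
  set M := (Coh.push f).obj (Coh.structureModule Y)
  haveI : Coh.IsQCoh (Coh.structureModule Y) := (DevissLib.isCoh_structureModule Y).1
  haveI : Coh.IsQCoh M := QCohLib.isQCoh_pushforward f _
  let R := Γ(X, V)
  let p := hV.primeIdealOf ⟨η, hηV⟩
  letI : Algebra R (X.presheaf.stalk η) := (X.presheaf.germ V η hηV).hom.toAlgebra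
  letI : Module R (M.presheaf.stalk η) := Module.compHom _ (X.presheaf.germ V η hηV).hom
  haveI : IsScalarTower R (X.presheaf.stalk η) (M.presheaf.stalk η) := IsScalarTower.of_algebraMap_smul fun _ _ => rfl
  haveI : IsLocalization.AtPrime (X.presheaf.stalk η) p.asIdeal := hV.isLocalization_stalk ⟨η, hηV⟩
  haveI : IsLocalizedModule p.asIdeal.primeCompl (FlatLib.germLin M hηV) := FlatLib.isLocalizedModule_germLin M hV hηV
  have hle := p.asIdeal.primeCompl_le_nonZeroDivisors
  have h1 : CurvLib.genRank M = Module.finrank R Γ(M, V) :=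
    (IsLocalization.finrank_eq (S := X.presheaf.stalk η) p.asIdeal.primeCompl hle).trans
      (IsLocalizedModule.finrank_eq p.asIdeal.primeCompl (FlatLib.germLin M hηV) hle)
  have h2 : Module.rankAtStalk Γ(M, V) p = Module.finrank R Γ(M, V) :=
    (IsLocalization.finrank_eq (S := Localization.AtPrime p.asIdeal) p.asIdeal.primeCompl hle).trans
      (IsLocalizedModule.finrank_eq p.asIdeal.primeCompl (LocalizedModule.mkLinearMap p.asIdeal.primeCompl Γ(M, V)) hle)
  let U := f ⁻¹ᵁ V
  have hU : IsAffineOpen U := hV.preimage f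
  haveI : IsAffine V.toScheme := hV
  haveI : IsAffine U.toScheme := hU
  have hfin : (f.app V).hom.Finite := f.finite_app V hV
  have hflat : (f.app V).hom.Flat := by
    have := Flat.flat_appLE f hV hU le_rfl
    rwa [← Scheme.Hom.app_eq_appLE] at this
  have sq : IsPullback hU.fromSpec (Spec.map (f.app V)) f hV.fromSpec := by
    have e1 : IsPullback (hU.isoSpec.inv) (Spec.map (f.app V)) (f ∣_ V) hV.isoSpec.inv :=
      IsPullback.of_horiz_isIso ⟨by
        rw [← cancel_mono V.ι, Category.assoc, Category.assoc, morphismRestrict_ι, hV.isoSpec_inv_ι,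
          hU.isoSpec_inv_ι_assoc, Scheme.Hom.app_eq_appLE, hV.SpecMap_appLE_fromSpec f hU]⟩
    have := e1.paste_horiz (isPullback_morphismRestrict f V).flip
    rwa [hV.isoSpec_inv_ι, hU.isoSpec_inv_ι] at this
  have h3 : (Spec.map (f.app V)).finrank p = f.finrank η := by
    rw [Scheme.Hom.finrank_of_isPullback _ _ _ _ sq, hV.fromSpec_primeIdealOf]
  rw [Scheme.Hom.finrank_SpecMap_eq_finrank hfin hflat] at h3
  rw [h1, ← h2, ← h3]
  rfl

/-- A finite flat endomorphism multiplying an ample class by `N` has degree `N ^ dim`. -/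
theorem finrank_eq_pow (f : X ⟶ X) (hf : f ≫ (X ↘ Spec (CommRingCat.of k)) = X ↘ Spec (CommRingCat.of k))
    [IsFinite f] [Flat f] (hA : CohB1.IsAmple L) {g : ℕ} (hg : topologicalKrullDim X = (g : ℕ)) {N : ℕ}
    (hN : CubeConsLib.pullA f (CubeConsLib.clA hA.1) = N • CubeConsLib.clA hA.1) :
    f.finrank (genericPoint X) = N ^ g := by
  haveI := CurvLib.isNoetherian k (X := X)
  have hL := hA.1
  have hO := DevissLib.isCoh_structureModule X
  haveI : Coh.IsQCoh (Coh.structureModule X) := hO.1
  set F := (Coh.push f).obj (Coh.structureModule X)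
  have hF : Coh.IsCoh F := QCohLib.isCoh_push_finite f _ hO
  obtain ⟨Q, hQ⟩ := HilbPolyLib.exists_isHilbPoly' (k := k) hL hO
  obtain ⟨P, hP⟩ := HilbPolyLib.exists_isHilbPoly' (k := k) hL hF
  have key : ∀ m : ℕ, P.eval (m : ℚ) = Q.eval ((N * m : ℕ) : ℚ) := fun m => by
    have hm := AmpleThLib.tensorPow_isInvertible hL m
    have hNm := AmpleThLib.tensorPow_isInvertible hL (N * m)
    obtain ⟨e⟩ : Nonempty ((Scheme.Modules.pullback f).obj (CohB1.tensorPow L m) ≅ CohB1.tensorPow L (N * m)) := by
      rw [← CubeConsLib.clA_eq_iff (AmpleDevLib.isInvertible_pb f hm) hNm, ← CubeConsLib.pullA_clA f hm,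
        CubeConsLib.clA_pow hL, CubeConsLib.clA_pow hL, map_nsmul, hN, smul_smul, mul_comm]
    let e' := @asIso _ _ _ _ (ProjFormLib.projApp f (CohB1.tensorPow L m) (Coh.structureModule X))
      (ProjFormLib.isIso_projApp f (AmpleDevLib.isFinLocFree_of_isInvertible hm) _)
    haveI : Coh.IsQCoh (CohB1.tensorMod (CohB1.tensorPow L (N * m)) (Coh.structureModule X)) :=
      (HilbPolyLib.isCoh_tensor hNm hO).1
    rw [← hP m, ← hQ (N * m), HilbPolyLib.euler_twist, HilbPolyLib.euler_twist,
      (PushLinLib.euler_push k f hf (CohB1.tensorMod (CohB1.tensorPow L (N * m)) (Coh.structureModule X))).2]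
    exact congrArg Int.cast (CurvLib.euler_congr (e' ≪≫ (Coh.push f).mapIso (HilbPolyLib.congrLeft e _)))
  have hPQ : P = Q.comp (Polynomial.C (N : ℚ) * Polynomial.X) := HilbPolyLib.eq_of_eval_nat fun m => by
    rw [key m]; simp
  have ha : StabCat.alpha g P = (N : ℚ) ^ g * StabCat.alpha g Q := by
    rw [hPQ, StabCat.alpha, StabCat.alpha, Polynomial.comp_C_mul_X_coeff]; ring
  have hpos := HilbPolyLib.alpha_pos hA hO hQ ((dim_support_structureModule X).trans hg)
  have := alpha_eq_genRank_mul hA hg hF hP hQ
  rw [ha, genRank_push_structure f] at this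
  exact_mod_cast (mul_right_cancel₀ hpos.ne' this).symm

end AVAmpleLib

end
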