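import Groth.Agent.AVAmpleLib.MulFinite
import Groth.Agent.AVAmpleLib.Degree
import Groth.Agent.CubeConsLib.FieldHom

/-!
Multiplication by a nonzero integer on an abelian variety is flat of degree `n ^ (2 g)`.
-/

set_option autoImplicit false
set_option maxRecDepth 8000
set_option maxHeartbeats 1000000
set_option linter.style.haveILetI false

noncomputable section

universe u

open CategoryTheory MonoidalCategory CartesianMonoidalCategory MonObj AlgebraicGeometry TopologicalSpace
open CubeConsLib

namespace AVAmpleLib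

variable {K : Type u} [Field K] (A : Over (Spec (CommRingCat.of K))) [GrpObj A]
  [IsProper A.hom] [GeometricallyIntegral A.hom]

theorem pullA_zpow_symm {L : A.left.Modules} (hL : PicF.IsInvertible L)
    (hs : Nonempty (L ≅ (Scheme.Modules.pullback ((𝟙 A)⁻¹).left).obj L)) (n : ℤ) :
    pullA (𝟙 A ^ n).left (clA hL) = (n.natAbs * n.natAbs) • clA hL := by
  haveI : LocallyOfFinitePresentation A.hom := LocallyOfFinitePresentation.iff_locallyOfFiniteType.2 inferInstance
  have hinv : P hL (𝟙 A)⁻¹ = clA hL := by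
    rw [P_eq, clA_eq_iff]
    exact ⟨hs.some.symm⟩
  show P hL (𝟙 A ^ n) = _
  rw [zpow_formula hL (𝟙 A) n, hinv, P_id, P_zero hL, smul_zero, add_zero, ← add_smul, ← natCast_zsmul]
  congr 1
  push_cast
  rw [abs_mul_abs_self, show n * (n + 1) = n * (n - 1) + n * 2 by ring, Int.add_mul_ediv_right _ _ two_ne_zero]
  obtain ⟨t, ht⟩ : (2 : ℤ) ∣ n * (n - 1) := by
    have := Int.even_mul_succ_self (n - 1)
    rw [sub_add_cancel, mul_comm] at this
    exact this.two_dvd
  rw [ht, Int.mul_ediv_cancel_left _ two_ne_zero]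
  linear_combination -ht

theorem flat_zpow {n : ℤ} (hn : n ≠ 0) : Flat (𝟙 A ^ n).left := by
  haveI : LocallyOfFinitePresentation A.hom := LocallyOfFinitePresentation.iff_locallyOfFiniteType.2 inferInstance
  haveI : IsCommMonObj A := isCommMonObj_field
  haveI : IsMonHom (𝟙 A ^ n) := AbSchLib.isMonHom_zpow A n
  haveI := surjective_zpow A hn
  exact AbSchLib.flat_of_surjective _

theorem finrank_zpow {n : ℤ} (hn : n ≠ 0) {g : ℕ} (hg : topologicalKrullDim A.left = (g : ℕ)) (a : A.left) :
    (𝟙 A ^ n).left.finrank a = n.natAbs ^ (2 * g) := by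
  haveI : IsIntegral A.left := GeometricallyIntegral.isIntegral_of_subsingleton A.hom
  haveI : IsLocallyNoetherian A.left := LocallyOfFiniteType.isLocallyNoetherian A.hom
  letI : A.left.Over (Spec (CommRingCat.of K)) := ⟨A.hom⟩
  haveI : IsProper (A.left ↘ Spec (CommRingCat.of K)) := inferInstanceAs (IsProper A.hom)
  haveI := isFinite_zpow A hn
  haveI := flat_zpow A hn
  haveI : LocallyOfFinitePresentation (𝟙 A ^ n).left :=
    LocallyOfFinitePresentation.iff_locallyOfFiniteType.2 inferInstance
  rw [(Scheme.Hom.isLocallyConstant_finrank (𝟙 A ^ n).left).apply_eq_of_preconnectedSpace a (genericPoint A.left)]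
  obtain ⟨L, hA, hs⟩ := exists_symmetric_ample A
  rw [finrank_eq_pow (k := K) (𝟙 A ^ n).left (Over.w (𝟙 A ^ n)) hA hg (pullA_zpow_symm A hA.1 hs n),
    pow_mul, sq]

end AVAmpleLib

end
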