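import Groth.Agent.AVAmpleLib.MulFinite
import Groth.Agent.AVAmpleLib.AmpleClosed
import Groth.Agent.AVRigidLib.Core
import Groth.Agent.AmpleThLib.Embed
import Groth.Agent.ChowLib.Embed

/-!
Effective non-degenerate invertible modules on an abelian variety are ample.
-/

set_option autoImplicit false
set_option maxRecDepth 8000
set_option maxHeartbeats 1000000
set_option linter.style.haveILetI false
set_option linter.unusedSectionVars false

noncomputable section

universe u

open CategoryTheory MonoidalCategory CartesianMonoidalCategory MonObj AlgebraicGeometry TopologicalSpace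
open AmpleThLib AmpleLib
open TwistLib (genSet)
open CubeConsLib

namespace AVAmpleLib

/-- A nonzero section generates somewhere on a reduced scheme. -/
theorem genSet_nonempty {X : Scheme.{u}} [IsReduced X] {L : X.Modules} (hL : PicF.IsInvertible L)
    (s : Coh.structureModule X ⟶ L) (hs : s ≠ 0) :
    ((genSet hL (s.app ⊤ (1 : Γ(X, ⊤))) : X.Opens) : Set X).Nonempty := by
  by_contra hne
  rw [Set.not_nonempty_iff_eq_empty] at hne
  refine hs ((unitHom_eq s).trans ?_)
  have h0 : s.app ⊤ (1 : Γ(X, ⊤)) = 0 := TwistLib.mod_ext L fun x _ => by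
    obtain ⟨U, e, hxU, he⟩ := TwistLib.exists_genOn hL x
    obtain ⟨r, hr⟩ := exists_coeff (s.app ⊤ (1 : Γ(X, ⊤))) he
    have hb : X.basicOpen r = ⊥ := by
      rw [← mem_genSet_coeff hL _ he hr]
      exact eq_bot_iff.2 fun y hy => (hne.le hy.1 : y ∈ (∅ : Set X)).elim
    rw [basicOpen_eq_bot_iff] at hb
    rw [hb, zero_smul] at hr
    rw [map_zero, ← AmpleLib.germ_res L (le_top : U ≤ ⊤) _ hxU, ← hr, map_zero]
  rw [h0]
  apply Scheme.Modules.hom_ext
  intro V
  refine ConcreteCategory.hom_ext _ _ fun (r : Γ(X, V)) => ?_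
  rw [QCohLib.unitHom_app, map_zero, smul_zero]
  rfl

variable {K : Type u} [Field K] [IsAlgClosed K] {A : Over (Spec (CommRingCat.of K))} [GrpObj A]
  [IsProper A.hom] [GeometricallyIntegral A.hom] {L : A.left.Modules} (hL : PicF.IsInvertible L)

omit [GrpObj A] [GeometricallyIntegral A.hom] in
theorem pt_injective : Function.Injective (pt (A := A) (K := K)) :=
  fun _ _ h => AVRigidLib.ext_pt h

theorem sq_fixing {c : 𝟙_ (Over (Spec (CommRingCat.of K))) ⟶ A}
    (h : P hL (tR c) + P hL (tR c) = clA hL + clA hL) : P hL (tR (c * c)) = clA hL := by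
  have e := cube_field hL (𝟙 A) (toUnit A ≫ c) (toUnit A ≫ c)
  rw [P_const, add_zero, add_zero, ← MonObj.comp_mul, P_const, _root_.mul_assoc, ← MonObj.comp_mul, P_id,
    add_zero, h] at e
  exact add_right_cancel e

/-- Squaring has finite fibres on points. -/
theorem finite_sq_preimage {H : Set (𝟙_ (Over (Spec (CommRingCat.of K))) ⟶ A)} (hH : H.Finite) :
    {c : 𝟙_ (Over (Spec (CommRingCat.of K))) ⟶ A | c * c ∈ H}.Finite := by
  haveI := isFinite_zpow A (n := 2) two_ne_zero
  have h1 : ((𝟙 A ^ (2 : ℤ)).left ⁻¹' (pt '' H)).Finite :=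
    (𝟙 A ^ (2 : ℤ)).left.finite_preimage (hH.image _)
  refine Set.Finite.of_finite_image (h1.subset ?_) pt_injective.injOn
  rintro _ ⟨c, hc, rfl⟩
  refine ⟨c * c, hc, ?_⟩
  rw [← pt_comp, GrpObj.comp_zpow, Category.comp_id, zpow_two]

section Morphism

variable {Y : Scheme.{u}} (q : Y ⟶ Spec (CommRingCat.of K)) [IsSeparated q] [LocallyOfFiniteType q]
  (r : A.left ⟶ Y) (hr : r ≫ q = A.hom)

include hr in
theorem translate_comp_eq {Z : Set A.left} (hZc : IsClosed Z) (hZi : IsIrreducible Z) {y : Y}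
    (hy : ∀ w ∈ Z, r w = y) {a b : 𝟙_ (Over (Spec (CommRingCat.of K))) ⟶ A} (ha : pt a ∈ Z) (hb : pt b ∈ Z) :
    (tR (b * a⁻¹)).left ≫ r = r := by
  haveI : IsIntegral A.left := GeometricallyIntegral.isIntegral_of_subsingleton A.hom
  haveI : IsCommMonObj A := isCommMonObj_field
  letI : CommGroup (𝟙_ (Over (Spec (CommRingCat.of K))) ⟶ A) := Hom.commGroup
  haveI : LocallyOfFiniteType (((tR (b * a⁻¹)).left ≫ r) ≫ q) := by
    rw [Category.assoc, hr, Over.w]; infer_instance
  refine ext_of_apply_eq q Set.univ isOpen_univ.isLocallyClosed dense_univ (fun x _ hx => ?_)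
    (by rw [Category.assoc, hr, Over.w])
  obtain ⟨d, rfl⟩ := exists_pt_eq x hx
  rw [Scheme.Hom.comp_apply, ← pt_comp, point_tR]
  have h := AVRigidLib.rigid_irreducible q r hr hZc hZi hy a b ha hb (a⁻¹ * d)
  rw [mul_inv_cancel_left, ← _root_.mul_assoc, mul_comm (b * a⁻¹) d] at h
  exact h.symm

include hr in
theorem finite_of_fixing
    (hfix : {c : 𝟙_ (Over (Spec (CommRingCat.of K))) ⟶ A | (tR c).left ≫ r = r}.Finite) : IsFinite r := by
  haveI : IsProper (r ≫ q) := by rw [hr]; infer_instance
  haveI : IsProper r := IsProper.of_comp r q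
  haveI : IsLocallyNoetherian A.left := LocallyOfFiniteType.isLocallyNoetherian A.hom
  haveI : CompactSpace A.left := QuasiCompact.compactSpace_of_compactSpace A.hom
  haveI : IsNoetherian A.left := ⟨⟩
  haveI : JacobsonSpace A.left := LocallyOfFiniteType.jacobsonSpace A.hom
  -- irreducible closed subsets of fibres over closed points are finite
  have hirr : ∀ (y : Y) (Z : Set A.left), IsClosed Z → IsIrreducible Z → (∀ w ∈ Z, r w = y) → Z.Finite := by
    intro y Z hZc hZi hy
    obtain ⟨x₀, hx₀, hx₀c⟩ := nonempty_inter_closedPoints hZi.nonempty hZc.isLocallyClosed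
    obtain ⟨a, rfl⟩ := exists_pt_eq x₀ hx₀c
    have hS : (Z ∩ closedPoints A.left).Finite := by
      refine ((hfix.image fun c => pt (c * a))).subset ?_
      rintro x ⟨hxZ, hx⟩
      obtain ⟨b, rfl⟩ := exists_pt_eq x hx
      refine ⟨b * a⁻¹, ?_, by simp only [inv_mul_cancel_right]⟩
      exact translate_comp_eq q r hr hZc hZi hy hx₀ hxZ
    refine hS.subset ?_
    have hcl : IsClosed (Z ∩ closedPoints A.left) := by
      rw [← Set.biUnion_of_singleton (Z ∩ closedPoints A.left)]
      exact hS.isClosed_biUnion fun x hx => hx.2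
    calc Z = closure (Z ∩ closedPoints A.left) := by
          rw [JacobsonSpace.closure_inter_closedPoints_eq_closure hZc.isLocallyClosed, hZc.closure_eq]
      _ ⊆ _ := hcl.closure_eq.le
  have hfib : ∀ y : Y, IsClosed ({y} : Set Y) → (⇑r ⁻¹' {y}).Finite := by
    intro y hy
    obtain ⟨S, hS, hS', hSc, hSeq⟩ := NoetherianSpace.exists_finite_set_isClosed_irreducible
      (hy.preimage r.continuous)
    rw [hSeq]
    refine hS.sUnion fun Z hZ => hirr y Z (hS' Z hZ) (hSc Z hZ) fun w hw => ?_
    have : w ∈ ⇑r ⁻¹' {y} := hSeq.symm ▸ Set.mem_sUnion_of_mem hw hZ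
    exact this
  haveI : LocallyQuasiFinite r := by
    rw [← r.quasiFiniteLocus_eq_top_iff, eq_top_iff]
    intro x _
    by_contra hx
    obtain ⟨x', hx', hx'c⟩ := nonempty_inter_closedPoints (X := A.left)
      (Z := ((r.quasiFiniteLocus : A.left.Opens) : Set A.left)ᶜ) ⟨x, hx⟩ r.quasiFiniteLocus.2.isClosed_compl.isLocallyClosed
    refine hx' (Scheme.Hom.quasiFiniteAt_iff_isOpen_singleton_asFiber.2 ?_)
    have hy : IsClosed ({r x'} : Set Y) := by
      rw [← Set.image_singleton]; exact r.isClosedMap _ hx'c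
    haveI : Finite (r ⁻¹' {r x'} : Set A.left) := (hfib _ hy).to_subtype
    haveI : T1Space (r ⁻¹' {r x'} : Set A.left) := ⟨fun z => by
      have hd : (r ⁻¹' {r x'} : Set A.left) ⊆ closedPoints A.left := fun w hw => by
        obtain ⟨w', hw', hw'c⟩ := nonempty_inter_closedPoints (X := A.left)
          (Z := closure {w}) ⟨w, subset_closure rfl⟩ isClosed_closure.isLocallyClosed
        have hclosure : closure ({w} : Set A.left) ⊆ r ⁻¹' {r x'} :=
          closure_minimal (Set.singleton_subset_iff.2 hw) (hy.preimage r.continuous)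
        have hfin : (closure ({w} : Set A.left)).Finite := (hfib _ hy).subset hclosure
        have hcl : IsClosed (closure ({w} : Set A.left) ∩ closedPoints A.left) := by
          rw [← Set.biUnion_of_singleton (closure ({w} : Set A.left) ∩ closedPoints A.left)]
          exact (hfin.subset Set.inter_subset_left).isClosed_biUnion fun x hx => hx.2
        have : w ∈ closure (closure ({w} : Set A.left) ∩ closedPoints A.left) := by
          rw [JacobsonSpace.closure_inter_closedPoints_eq_closure isClosed_closure.isLocallyClosed, closure_closure]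
          exact subset_closure rfl
        rw [hcl.closure_eq] at this
        exact this.2
      rw [Topology.IsEmbedding.subtypeVal.isInducing.isClosed_iff]
      exact ⟨{z.1}, hd z.2, Set.preimage_image_eq {z} Subtype.val_injective ▸ by rw [Set.image_singleton]⟩⟩
    haveI : DiscreteTopology (r ⁻¹' {r x'} : Set A.left) := inferInstance
    haveI := (r.fiberHomeo (r x')).symm.discreteTopology
    exact isOpen_discrete _
  exact IsFinite.of_isProper_of_locallyQuasiFinite r

end Morphism

/-- Ampleness from finiteness of the translations fixing `L ⊗ L` and the locus of a section. -/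
theorem isAmple_of_finite (σ : Γ(L, ⊤)) (hne : ((genSet hL σ : A.left.Opens) : Set A.left).Nonempty)
    (hfin : {c : 𝟙_ (Over (Spec (CommRingCat.of K))) ⟶ A | P hL (tR c) + P hL (tR c) = clA hL + clA hL ∧
      (tR c).left ⁻¹ᵁ genSet hL σ = genSet hL σ}.Finite) :
    CohB1.IsAmple L := by
  classical
  haveI : IsIntegral A.left := GeometricallyIntegral.isIntegral_of_subsingleton A.hom
  haveI : CompactSpace A.left := QuasiCompact.compactSpace_of_compactSpace A.hom
  have hM := shT_isInvertible hL hL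
  choose a ha τ hτ using exists_translated_locus hL hne σ rfl
  obtain ⟨T, hT⟩ := isCompact_univ.elim_finite_subcover (fun y => (genSet hM (τ y) : Set A.left))
    (fun y => (genSet hM (τ y)).2) fun y _ => Set.mem_iUnion.2 ⟨y, (hτ y).ge (ha y)⟩
  let p₀ : A.left := genericPoint A.left
  let e := (insert p₀ T).equivFin
  have hcard : 0 < (insert p₀ T).card := Finset.card_pos.2 (Finset.insert_nonempty _ _)
  obtain ⟨m, hm⟩ := Nat.exists_eq_succ_of_ne_zero hcard.ne'
  let v' : Fin (m + 1) → Γ(CohB1.tensorMod L L, ⊤) := fun i => τ (e.symm (i.cast hm.symm)).1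
  let v : Fin (m + 1 + 1) → Γ(CohB1.tensorMod L L, ⊤) := Fin.cons (shT σ σ) v'
  have hgen : ∀ y : A.left, ∃ k, y ∈ genSet hM (v k) := fun y => by
    obtain ⟨z, hz, hyz⟩ := Set.mem_iUnion₂.1 (hT (Set.mem_univ y))
    refine ⟨((e ⟨z, Finset.mem_insert_of_mem hz⟩).cast hm).succ, ?_⟩
    simp only [v, v', Fin.cons_succ, Fin.cast_cast, Fin.cast_eq_self, Equiv.symm_apply_apply]
    exact hyz
  obtain ⟨r, τi, hpre, -⟩ := exists_toPZ hM v hgen
  let S := Spec (CommRingCat.of K)
  let i : A.left ⟶ CohB1.ProjSpaceOver (m + 1) S := Limits.pullback.lift r A.hom (specULiftZIsTerminal.hom_ext _ _)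
  have hfst : i ≫ ChowLib.toPZ (m + 1) S = r := Limits.pullback.lift_fst _ _ _
  haveI : IsProper (CohB1.ProjSpaceOver.toBase (m + 1) S) := ChowLib.isProper_toBase (m + 1) S
  haveI : IsFinite i := by
    refine finite_of_fixing (CohB1.ProjSpaceOver.toBase (m + 1) S) i (Limits.pullback.lift_snd _ _ _)
      (hfin.subset fun c hc => ?_)
    have hcr : (tR c).left ≫ r = r := by
      rw [← hfst, ← Category.assoc, show (tR c).left ≫ i = i from hc]
    refine ⟨?_, ?_⟩
    · have hLL := HilbPolyLib.isInvertible_tensor hL hL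
      rw [P, ← map_add, ← clA_tensor hL hL, pullA_clA _ hLL, clA_eq_iff]
      exact ⟨(Scheme.Modules.pullback (tR c).left).mapIso τi.symm ≪≫ (Scheme.Modules.pullbackComp (tR c).left r).app _ ≪≫
        (Scheme.Modules.pullbackCongr hcr).app _ ≪≫ τi⟩
    · have h0 : genSet hM (v 0) = genSet hL σ := by
        simp only [v, Fin.cons_zero]
        exact (genSet_shT hL hL σ σ).trans (inf_idem _)
      rw [← h0, ← hpre 0, ← Scheme.Hom.comp_preimage, hcr]
  refine (isAmple_tensorPow_iff hL (n := 2) two_pos).mpr ((isAmple_iff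
    (hL := tensorPow_isInvertible hL 2)).mpr ⟨inferInstance, fun y => ?_⟩)
  obtain ⟨k, hk⟩ := hgen y
  obtain ⟨φ⟩ : Nonempty (CohB1.tensorMod L L ≅ CohB1.tensorPow (CohB1.tensorPow L 2) 1) := by
    rw [← clA_eq_iff (HilbPolyLib.isInvertible_tensor hL hL) (tensorPow_isInvertible (tensorPow_isInvertible hL 2) 1),
      clA_pow (tensorPow_isInvertible hL 2), clA_pow hL, one_nsmul, two_nsmul, clA_tensor hL hL]
  refine ⟨1, _, one_pos, ⟨φ.hom.app ⊤ (v k), genSet_iso _ _ φ (v k)⟩, hk, ?_⟩
  have hP : i ⁻¹ᵁ Pk S k = genSet hM (v k) := by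
    rw [← hpre k, ← hfst]; rfl
  rw [← hP]
  exact (isAffineOpen_Pk S k).preimage i

theorem isAmple_of_nonDegenerate (s : Coh.structureModule A.left ⟶ L) (hs : s ≠ 0)
    (hnd : {a : 𝟙_ (Over (Spec (CommRingCat.of K))) ⟶ A | P hL (tR a) = clA hL}.Finite) :
    CohB1.IsAmple L :=
  haveI : IsIntegral A.left := GeometricallyIntegral.isIntegral_of_subsingleton A.hom
  isAmple_of_finite hL _ (genSet_nonempty hL s hs) ((finite_sq_preimage hnd).subset fun _ hc => sq_fixing hL hc.1)

end AVAmpleLib
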