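import Groth.Agent.AVAmpleLib.MulDegree
import Groth.Agent.CubeConsLib.GeomInt
import Groth.Agent.AbSchLib.Flat

/-!
Multiplication by a nonzero integer on an abelian scheme, from the fibrewise statements.
-/

set_option autoImplicit false
set_option maxRecDepth 8000
set_option maxHeartbeats 1000000
set_option linter.style.haveILetI false

noncomputable section

universe u

open CategoryTheory CategoryTheory.Limits MonoidalCategory CartesianMonoidalCategory MonObj AlgebraicGeometry TopologicalSpace

namespace AVAmpleLib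

variable {S : Scheme.{u}} (X : Over S) [GrpObj X] [IsProper X.hom] [GeometricallyIntegral X.hom]

theorem base_change_zpow {T : Scheme.{u}} (ξ : T ⟶ S) (n : ℤ) :
    letI : GrpObj ((Over.pullback ξ).obj X) := Functor.grpObjObj
    (Over.pullback ξ).map (𝟙 X ^ n) = 𝟙 ((Over.pullback ξ).obj X) ^ n := by
  letI : GrpObj ((Over.pullback ξ).obj X) := Functor.grpObjObj
  refine ((Over.pullback ξ).homMonoidHom.map_zpow (𝟙 X) n).trans ?_
  simp [Functor.homMonoidHom]

/-- The base change of `[n]` to a field-valued point: a finite flat surjective map of degree `n ^ (2g)`. -/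
theorem zpow_fibre {K : Type u} [Field K] (ξ : Spec (CommRingCat.of K) ⟶ S) {n : ℤ} (hn : n ≠ 0) :
    let f' := ((Over.pullback ξ).map (𝟙 X ^ n)).left
    IsFinite f' ∧ Flat f' ∧ Surjective f' ∧
      ∀ g : ℕ, topologicalKrullDim (pullback X.hom ξ : Scheme.{u}) = (g : ℕ) → ∀ a, f'.finrank a = n.natAbs ^ (2 * g) := by
  let A := (Over.pullback ξ).obj X
  letI : GrpObj A := Functor.grpObjObj
  haveI : IsProper A.hom := inferInstanceAs (IsProper (pullback.snd X.hom ξ))
  haveI : GeometricallyIntegral A.hom := inferInstanceAs (GeometricallyIntegral (pullback.snd X.hom ξ))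
  intro f'
  have hf' : f' = (𝟙 A ^ n).left := congrArg Over.Hom.left (base_change_zpow X ξ n)
  rw [hf']
  exact ⟨isFinite_zpow A hn, flat_zpow A hn, surjective_zpow A hn, fun g hg a => finrank_zpow A hn hg a⟩

theorem isPullback_fibre {T : Scheme.{u}} (ξ : T ⟶ S) (f : X ⟶ X) :
    IsPullback (pullback.fst X.hom ξ) ((Over.pullback ξ).map f).left f.left (pullback.fst X.hom ξ) := by
  refine IsPullback.of_bot ?_ (pullback.lift_fst _ _ _).symm (IsPullback.of_hasPullback X.hom ξ)
  rw [Over.w f, show ((Over.pullback ξ).map f).left ≫ pullback.snd X.hom ξ = pullback.snd X.hom ξ from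
    pullback.lift_snd _ _ _]
  exact IsPullback.of_hasPullback X.hom ξ

/-- `[n]` on an abelian scheme is finite, flat and surjective of degree `n ^ (2g)`. -/
theorem zpow_rel [Flat X.hom] [LocallyOfFinitePresentation X.hom] {n : ℤ} (hn : n ≠ 0) :
    IsFinite (𝟙 X ^ n).left ∧ Flat (𝟙 X ^ n).left ∧ Surjective (𝟙 X ^ n).left ∧
      ∀ (g : ℕ) (x : X.left), topologicalKrullDim ↥(X.hom.fiber (X.hom x)) = (g : ℕ) →
        (𝟙 X ^ n).left.finrank x = n.natAbs ^ (2 * g) := by
  set f := (𝟙 X ^ n).left with hfdef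
  haveI : IsProper (f ≫ X.hom) := by rw [Over.w]; infer_instance
  haveI : IsProper f := IsProper.of_comp f X.hom
  have hmem : ∀ y : X.left, ∃ y', pullback.fst X.hom (S.fromSpecResidueField (X.hom y)) y' = y := fun y => by
    have : y ∈ Set.range (pullback.fst X.hom (S.fromSpecResidueField (X.hom y))).base := by
      rw [Scheme.Pullback.range_fst, Scheme.range_fromSpecResidueField]
      rfl
    exact this
  haveI hflat : Flat f :=
    AbSchLib.flat_of_geometric_fibres (𝟙 X ^ n) fun K _ _ ξ => (zpow_fibre X ξ hn).2.1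
  haveI hsurj : Surjective f := ⟨fun y => by
    obtain ⟨y', hy'⟩ := hmem y
    obtain ⟨_, _, hs, -⟩ := zpow_fibre X (S.fromSpecResidueField (X.hom y)) hn
    obtain ⟨x', rfl⟩ := hs.surj y'
    refine ⟨pullback.fst X.hom _ x', ?_⟩
    exact (congrArg (fun φ : (pullback X.hom (S.fromSpecResidueField (X.hom y)) : Scheme.{u}) ⟶ X.left => φ x')
      (isPullback_fibre X _ (𝟙 X ^ n)).w).trans hy'⟩
  haveI : LocallyQuasiFinite f := by
    refine LocallyQuasiFinite.of_finite_preimage_singleton f fun y => ?_
    obtain ⟨y', hy'⟩ := hmem y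
    let ξ := S.fromSpecResidueField (X.hom y)
    obtain ⟨hfin, -, -, -⟩ := zpow_fibre X ξ hn
    let f' := ((Over.pullback ξ).map (𝟙 X ^ n)).left
    haveI : IsFinite f' := hfin
    refine ((f'.finite_preimage_singleton y').image (pullback.fst X.hom ξ)).subset fun x hx => ?_
    have hfx : f x = y := hx
    obtain ⟨x', hx'⟩ : x ∈ Set.range (pullback.fst X.hom ξ).base := by
      rw [Scheme.Pullback.range_fst, Scheme.range_fromSpecResidueField]
      show X.hom x = X.hom y
      rw [← hfx, ← Scheme.Hom.comp_apply, Over.w]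
    refine ⟨x', ?_, hx'⟩
    show f' x' = y'
    refine (pullback.fst X.hom ξ).isEmbedding.injective ?_
    exact ((congrArg (fun φ : (pullback X.hom ξ : Scheme.{u}) ⟶ X.left => φ x')
      (isPullback_fibre X ξ (𝟙 X ^ n)).w).symm.trans ((congrArg f hx').trans hfx)).trans hy'.symm
  haveI : IsFinite f := IsFinite.of_isProper_of_locallyQuasiFinite f
  refine ⟨inferInstance, hflat, hsurj, fun g x hg => ?_⟩
  obtain ⟨x', hx'⟩ := hmem x
  obtain ⟨_, _, -, hdeg⟩ := zpow_fibre X (S.fromSpecResidueField (X.hom x)) hn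
  rw [← hx', ← Scheme.Hom.finrank_of_isPullback _ _ _ _ (isPullback_fibre X _ (𝟙 X ^ n)) x']
  exact hdeg g hg x'

end AVAmpleLib

end
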