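import Groth.Agent.CubeConsLib.FieldHom

/-!
Translations of a group scheme over an algebraically closed field.
-/

set_option autoImplicit false
set_option linter.unusedSectionVars false

noncomputable section

universe u

open CategoryTheory MonoidalCategory CartesianMonoidalCategory MonObj AlgebraicGeometry TopologicalSpace

namespace AVAmpleLib

section

variable {B : Scheme.{u}} {A : Over B} [GrpObj A]

/-- `x ↦ x + a` -/
abbrev tR (a : 𝟙_ (Over B) ⟶ A) : A ⟶ A := 𝟙 A * (toUnit A ≫ a)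

/-- `x ↦ a + x` -/
abbrev tL (a : 𝟙_ (Over B) ⟶ A) : A ⟶ A := (toUnit A ≫ a) * 𝟙 A

theorem point_tR (z a : 𝟙_ (Over B) ⟶ A) : z ≫ tR a = z * a := by
  rw [MonObj.comp_mul, Category.comp_id, ← Category.assoc, toUnit_unique (z ≫ toUnit A) (𝟙 _),
    Category.id_comp]

theorem point_tL (z a : 𝟙_ (Over B) ⟶ A) : z ≫ tL a = a * z := by
  rw [MonObj.comp_mul, Category.comp_id, ← Category.assoc, toUnit_unique (z ≫ toUnit A) (𝟙 _),
    Category.id_comp]

theorem tR_comp (a b : 𝟙_ (Over B) ⟶ A) : tR a ≫ tR b = tR (a * b) := by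
  rw [MonObj.comp_mul, Category.comp_id, ← Category.assoc, toUnit_unique (tR a ≫ toUnit A) (toUnit A),
    tR, tR, MonObj.comp_mul (toUnit A) a b, _root_.mul_assoc]

theorem tR_one : tR (1 : 𝟙_ (Over B) ⟶ A) = 𝟙 A := by
  rw [tR, MonObj.comp_one, _root_.mul_one]

theorem tL_comp (a b : 𝟙_ (Over B) ⟶ A) : tL a ≫ tL b = tL (b * a) := by
  rw [MonObj.comp_mul, Category.comp_id, ← Category.assoc, toUnit_unique (tL a ≫ toUnit A) (toUnit A),
    tL, tL, MonObj.comp_mul (toUnit A) b a, _root_.mul_assoc]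

theorem tL_one : tL (1 : 𝟙_ (Over B) ⟶ A) = 𝟙 A := by
  rw [tL, MonObj.comp_one, _root_.one_mul]

instance (a : 𝟙_ (Over B) ⟶ A) : IsIso (tR a) :=
  ⟨tR a⁻¹, by rw [tR_comp, mul_inv_cancel, tR_one], by rw [tR_comp, inv_mul_cancel, tR_one]⟩

instance (a : 𝟙_ (Over B) ⟶ A) : IsIso (tL a) :=
  ⟨tL a⁻¹, by rw [tL_comp, inv_mul_cancel, tL_one], by rw [tL_comp, mul_inv_cancel, tL_one]⟩

theorem inv_inv_id : ((𝟙 A)⁻¹ : A ⟶ A) ≫ ((𝟙 A)⁻¹ : A ⟶ A) = 𝟙 A := by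
  rw [GrpObj.comp_inv, Category.comp_id, _root_.inv_inv]

instance : IsIso ((𝟙 A)⁻¹ : A ⟶ A) := ⟨_, inv_inv_id, inv_inv_id⟩

end

variable {K : Type u} [Field K] [IsAlgClosed K] {A : Over (Spec (CommRingCat.of K))} [GrpObj A]
  [LocallyOfFiniteType A.hom]

/-- The image of a `K`-point. -/
def pt (a : 𝟙_ (Over (Spec (CommRingCat.of K))) ⟶ A) : A.left :=
  a.left (IsLocalRing.closedPoint K)

theorem range_pt (a : 𝟙_ (Over (Spec (CommRingCat.of K))) ⟶ A) :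
    Set.range a.left.base = {pt a} := by
  have : Subsingleton (𝟙_ (Over (Spec (CommRingCat.of K)))).left := inferInstanceAs (Subsingleton (PrimeSpectrum K))
  refine Set.eq_singleton_iff_unique_mem.2 ⟨⟨_, rfl⟩, ?_⟩
  rintro _ ⟨q, rfl⟩
  exact congrArg a.left.base (Subsingleton.elim _ _)

theorem pt_comp (a : 𝟙_ (Over (Spec (CommRingCat.of K))) ⟶ A) (f : A ⟶ A) :
    pt (a ≫ f) = f.left (pt a) := rfl

theorem exists_pt_eq (x : A.left) (hx : IsClosed ({x} : Set A.left)) :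
    ∃ a : 𝟙_ (Over (Spec (CommRingCat.of K))) ⟶ A, pt a = x :=
  ⟨Over.homMk (pointOfClosedPoint A.hom x hx) (pointOfClosedPoint_comp _ _ _), by simp [pt]⟩

theorem exists_pt_mem {U : A.left.Opens} (hU : (U : Set A.left).Nonempty) :
    ∃ a : 𝟙_ (Over (Spec (CommRingCat.of K))) ⟶ A, pt a ∈ U := by
  haveI : JacobsonSpace A.left := LocallyOfFiniteType.jacobsonSpace A.hom
  obtain ⟨x, hxU, hx⟩ := nonempty_inter_closedPoints hU U.2.isLocallyClosed
  obtain ⟨a, rfl⟩ := exists_pt_eq x hx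
  exact ⟨a, hxU⟩

variable [IrreducibleSpace A.left]

omit [LocallyOfFiniteType A.hom] [IrreducibleSpace A.left] in
theorem preimage_nonempty (f : A ⟶ A) [IsIso f] {U : A.left.Opens} (hU : (U : Set A.left).Nonempty) :
    ((f.left ⁻¹ᵁ U : A.left.Opens) : Set A.left).Nonempty := by
  obtain ⟨u, hu⟩ := hU
  refine ⟨(inv f).left u, ?_⟩
  change f.left ((inv f).left u) ∈ U
  have e : (inv f).left ≫ f.left = 𝟙 A.left := by rw [← Over.comp_left, IsIso.inv_hom_id, Over.id_left]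
  have := congrArg (fun g : A.left ⟶ A.left => g u) e
  simp only [Scheme.Hom.comp_apply] at this
  rw [this]
  exact hu

/-- Some `a` carries `z` into `U` from both sides. -/
theorem exists_avoid {U : A.left.Opens} (hU : (U : Set A.left).Nonempty)
    (z : 𝟙_ (Over (Spec (CommRingCat.of K))) ⟶ A) :
    ∃ a : 𝟙_ (Over (Spec (CommRingCat.of K))) ⟶ A, pt (z * a) ∈ U ∧ pt (z * a⁻¹) ∈ U := by
  obtain ⟨x, hx⟩ := nonempty_preirreducible_inter ((tL z).left ⁻¹ᵁ U).2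
    (((𝟙 A)⁻¹ ≫ tL z : A ⟶ A).left ⁻¹ᵁ U).2 (preimage_nonempty (tL z) hU)
    (preimage_nonempty ((𝟙 A)⁻¹ ≫ tL z : A ⟶ A) hU)
  obtain ⟨a, ha⟩ := exists_pt_mem (U := (tL z).left ⁻¹ᵁ U ⊓ (((𝟙 A)⁻¹ ≫ tL z : A ⟶ A).left ⁻¹ᵁ U)) ⟨x, hx⟩
  refine ⟨a, ?_, ?_⟩
  · rw [← point_tL a z, pt_comp]
    exact ha.1
  · rw [← point_tL a⁻¹ z, ← Category.comp_id a, ← GrpObj.comp_inv, Category.assoc, pt_comp]
    exact ha.2

/-- A proper nonempty open set is moved off any point by two opposite translations. -/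
theorem exists_translates {U : A.left.Opens} (hU : (U : Set A.left).Nonempty) (y : A.left) :
    ∃ a : 𝟙_ (Over (Spec (CommRingCat.of K))) ⟶ A,
      y ∈ (tR a).left ⁻¹ᵁ U ⊓ (tR a⁻¹).left ⁻¹ᵁ U := by
  haveI : JacobsonSpace A.left := LocallyOfFiniteType.jacobsonSpace A.hom
  obtain ⟨x, hxy, hx⟩ := nonempty_inter_closedPoints
    (show (closure ({y} : Set A.left)).Nonempty from ⟨y, subset_closure rfl⟩) isClosed_closure.isLocallyClosed
  obtain ⟨z, rfl⟩ := exists_pt_eq x hx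
  obtain ⟨a, h1, h2⟩ := exists_avoid hU z
  refine ⟨a, (specializes_iff_mem_closure.2 hxy).mem_open ((tR a).left ⁻¹ᵁ U ⊓ (tR a⁻¹).left ⁻¹ᵁ U).2 ⟨?_, ?_⟩⟩
  · rw [← point_tR, pt_comp] at h1
    exact h1
  · rw [← point_tR, pt_comp] at h2
    exact h2

end AVAmpleLib
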