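import Groth.Agent.AVAmpleLib.TruncPoint
import Groth.Agent.AVAmpleLib.CountFinite
import Groth.Agent.AVAmpleLib.Translate
import Groth.Agent.AVAmpleLib.NonDegen
import Groth.Agent.AVAmpleLib.MulDegree
import Groth.Agent.AVAmpleLib.RelMul

/-!
An abelian variety has at most `p ^ g` points killed by `p` in characteristic `p`.
-/

set_option autoImplicit false
set_option linter.style.haveILetI false
set_option maxHeartbeats 1000000

noncomputable section

universe u

open CategoryTheory CategoryTheory.Limits MonoidalCategory CartesianMonoidalCategory MonObj AlgebraicGeometry TopologicalSpace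

namespace AVAmpleLib

variable {K : Type u} [Field K] [IsAlgClosed K] (A : Over (Spec (CommRingCat.of K))) [GrpObj A]
  [IsProper A.hom] [GeometricallyIntegral A.hom]

theorem card_torsion_le {g : ℕ} (hg : topologicalKrullDim A.left = (g : ℕ)) (p : ℕ) [Fact p.Prime] [CharP K p]
    {J : Type u} [Fintype J] (a : J → (𝟙_ (Over (Spec (CommRingCat.of K))) ⟶ A))
    (ha : ∀ i, a i ^ (p : ℤ) = 1) (hinj : Function.Injective fun i => pt (a i)) :
    Fintype.card J ≤ p ^ g := by
  haveI := smooth_hom A
  haveI : IrreducibleSpace A.left := irreducibleSpace_left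
  haveI : IsCommMonObj A := CubeConsLib.isCommMonObj_field
  have hp := (Fact.out : p.Prime)
  have hn : (p : ℤ) ≠ 0 := by exact_mod_cast hp.ne_zero
  obtain ⟨V, hV, φ, ψ, hφψ, hψ, hφp, hφr⟩ := exists_trunc_point A hg p
  let Q := Trunc.TA (Fin g) K p
  let e := η[A].left (IsLocalRing.closedPoint K)
  let f : A ⟶ A := 𝟙 A ^ (p : ℤ)
  haveI := isFinite_zpow A hn
  haveI := flat_zpow A hn
  let eta : Spec (CommRingCat.of K) ⟶ A.left := η[A].left
  let G := pullback f.left eta
  let q : G ⟶ Spec (CommRingCat.of K) := pullback.snd f.left eta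
  have he : eta ≫ A.hom = 𝟙 _ := Over.w η[A]
  haveI : IsClosedImmersion eta := by
    haveI : IsClosedImmersion (eta ≫ A.hom) := by rw [he]; infer_instance
    exact IsClosedImmersion.of_comp eta A.hom
  haveI hφc : IsClosedImmersion φ.left := by
    haveI : IsClosedImmersion (Spec.map (CommRingCat.ofHom ψ)) := IsClosedImmersion.spec_of_surjective _ hψ
    rw [← hφψ]
    have hcl : IsClosed (Set.range φ.left.base) := by
      have hsing : IsClosed ({e} : Set A.left) := by
        have := eta.isClosedEmbedding.isClosed_range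
        rwa [show Set.range eta.base = {e} from Set.eq_singleton_iff_unique_mem.2 ⟨⟨_, rfl⟩, by
          rintro _ ⟨z, rfl⟩
          exact congrArg eta (Subsingleton.elim (α := PrimeSpectrum K) _ _)⟩] at this
      rcases Set.subset_singleton_iff_eq.1 hφr with h | h
      · rw [h]; exact isClosed_empty
      · rw [h]; exact hsing
    exact IsClosedImmersion.of_isPreimmersion _ (by rw [hφψ]; exact hcl)
  let φa : J → (algSpec K Q ⟶ A) := fun i => φ ≫ tR (a i)
  have hpow : ∀ i, φa i ^ (p : ℤ) = 1 := fun i => by
    letI : CommGroup (algSpec K Q ⟶ A) := Hom.commGroup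
    have h1 : φa i = φ * (toUnit _ ≫ a i) := by
      show φ ≫ tR (a i) = _
      rw [MonObj.comp_mul, Category.comp_id, ← Category.assoc, toUnit_unique (φ ≫ toUnit A) (toUnit _)]
    rw [h1, mul_zpow, hφp, _root_.one_mul, ← GrpObj.comp_zpow, ha, MonObj.comp_one]
  have hkill : ∀ i, (φa i).left ≫ f.left = Spec.map (CommRingCat.ofHom (algebraMap K Q)) ≫ eta := fun i => by
    have h1 : φa i ≫ f = 1 := by rw [GrpObj.comp_zpow, Category.comp_id, hpow]
    exact congrArg Over.Hom.left h1
  let l : J → (Spec (CommRingCat.of Q) ⟶ G) := fun i =>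
    pullback.lift (φa i).left (Spec.map (CommRingCat.ofHom (algebraMap K Q))) (hkill i)
  have hrange : ∀ i z, (pullback.fst f.left eta) (l i z) = pt (a i) := fun i z => by
    have h1 : (pullback.fst f.left eta) (l i z) = (φa i).left z := by
      rw [← Scheme.Hom.comp_apply]
      exact congrArg (fun t : Spec (CommRingCat.of Q) ⟶ A.left => t z) (pullback.lift_fst _ _ _)
    have h2 : φ.left z = e := hφr ⟨z, rfl⟩
    have h3 : η[A] ≫ tR (a i) = a i := by rw [point_tR, MonObj.one_eq_one, _root_.one_mul]
    rw [h1]
    show (tR (a i)).left (φ.left z) = _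
    exact (congrArg (tR (a i)).left h2).trans ((pt_comp η[A] (tR (a i))).symm.trans (congrArg pt h3))
  have hcount := card_mul_finrank_le q l (fun i => ?_) (fun i => pullback.lift_snd _ _ _) (fun i j hij => ?_)
  · have hdeg : q.finrank (IsLocalRing.closedPoint K) = p ^ (2 * g) := by
      rw [Scheme.Hom.finrank_pullback_snd, finrank_zpow A hn hg, Int.natAbs_natCast]
    haveI : Module.Finite K Q := Trunc.finite hp.ne_zero
    have hQ : p ^ g ≤ Module.finrank K Q := by simpa using Trunc.le_finrank (Fin g) K p
    rw [hdeg, two_mul, pow_add] at hcount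
    exact Nat.le_of_mul_le_mul_right ((Nat.mul_le_mul_left _ hQ).trans hcount) (pow_pos hp.pos _)
  · haveI : IsClosedImmersion (φa i).left := by
      show IsClosedImmersion (φ.left ≫ (tR (a i)).left)
      haveI : IsIso (tR (a i)).left := inferInstanceAs (IsIso ((Over.forget _).map (tR (a i))))
      infer_instance
    haveI : IsClosedImmersion (l i ≫ pullback.fst f.left eta) := by rw [pullback.lift_fst]; infer_instance
    exact IsClosedImmersion.of_comp (l i) (pullback.fst f.left eta)
  · rw [Set.disjoint_left]
    rintro _ ⟨z, rfl⟩ ⟨w, hw⟩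
    exact hij (hinj ((hrange i z).symm.trans ((congrArg _ hw).symm.trans (hrange j w))))

/-- The fibre of `[p]` over the origin has at most `p ^ g` points, over an algebraically closed field. -/
theorem encard_torsion_le_algClosed {g : ℕ} (hg : topologicalKrullDim A.left = (g : ℕ)) (p : ℕ) [Fact p.Prime]
    [CharP K p] : {x : A.left | (𝟙 A ^ (p : ℤ)).left x = η[A].left (IsLocalRing.closedPoint K)}.encard ≤ (p ^ g : ℕ) := by
  set S := {x : A.left | (𝟙 A ^ (p : ℤ)).left x = η[A].left (IsLocalRing.closedPoint K)}
  have hn : (p : ℤ) ≠ 0 := by exact_mod_cast (Fact.out : p.Prime).ne_zero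
  haveI := isFinite_zpow A hn
  haveI : LocallyOfFiniteType A.hom := inferInstance
  have hfin : S.Finite := (𝟙 A ^ (p : ℤ)).left.finite_preimage_singleton _
  letI : Fintype S := hfin.fintype
  have hpts : ∀ x : S, ∃ a : 𝟙_ (Over (Spec (CommRingCat.of K))) ⟶ A, pt a = x.1 ∧ a ^ (p : ℤ) = 1 := fun x => by
    have he : IsClosed ({η[A].left (IsLocalRing.closedPoint K)} : Set A.left) := by
      haveI : IsClosedImmersion η[A].left := by
        haveI : IsClosedImmersion (η[A].left ≫ A.hom) := by
          rw [Over.w η[A]]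
          exact inferInstanceAs (IsClosedImmersion (𝟙 (Spec (CommRingCat.of K))))
        exact IsClosedImmersion.of_comp η[A].left A.hom
      have := η[A].left.isClosedEmbedding.isClosed_range
      rwa [range_pt] at this
    haveI : JacobsonSpace A.left := LocallyOfFiniteType.jacobsonSpace A.hom
    have hcl : IsClosed ({x.1} : Set A.left) := by
      haveI : DiscreteTopology S := ((𝟙 A ^ (p : ℤ)).left.isDiscrete_preimage_singleton _).to_subtype
      have hS : IsClosed S := he.preimage (𝟙 A ^ (p : ℤ)).left.continuous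
      have := hS.isClosedEmbedding_subtypeVal.isClosedMap _ (isClosed_discrete ({x} : Set S))
      simpa using this
    obtain ⟨a, ha⟩ := exists_pt_eq x.1 hcl
    refine ⟨a, ha, ?_⟩
    have h1 : pt (a ^ (p : ℤ)) = pt η[A] := by
      rw [show a ^ (p : ℤ) = a ≫ (𝟙 A ^ (p : ℤ)) by rw [GrpObj.comp_zpow, Category.comp_id], pt_comp, ha]
      exact x.2
    rw [pt_injective h1, MonObj.one_eq_one]
  choose a ha hap using hpts
  rw [hfin.encard_eq_coe_toFinset_card, Nat.cast_le, hfin.card_toFinset]
  refine le_of_eq_of_le ?_ (card_torsion_le A hg p (fun x : ULift.{u} S => a x.down) (fun x => hap _) ?_)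
  · simp
  · intro x y h
    simp only [ha] at h
    exact ULift.down_injective (Subtype.ext h)



/-- The dimension is unchanged by an extension of the ground field. -/
theorem dim_pullback_eq {K L : Type u} [Field K] [Field L] [Algebra K L] (A : Over (Spec (CommRingCat.of K)))
    [LocallyOfFiniteType A.hom] [GeometricallyIntegral A.hom] :
    topologicalKrullDim (pullback A.hom (Spec.map (CommRingCat.ofHom (algebraMap K L))) : Scheme.{u}) =
      topologicalKrullDim A.left := by
  set ξ := Spec.map (CommRingCat.ofHom (algebraMap K L))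
  haveI : IsIntegral A.left := GeometricallyIntegral.isIntegral_of_subsingleton A.hom
  haveI : IsIntegral (pullback A.hom ξ) :=
    GeometricallyIntegral.isIntegral_of_subsingleton (pullback.snd A.hom ξ)
  let P := (pullback.fst A.hom ξ).base ⁻¹' (Set.univ : Set A.left)
  haveI : IrreducibleSpace P := by
    refine Subtype.irreducibleSpace (show IsIrreducible P from ?_)
    exact IrreducibleSpace.isIrreducible_univ (pullback A.hom ξ : Scheme.{u})
  have h1 := FibDimLib.topologicalKrullDim_component_bc A.hom isClosed_univ (IrreducibleSpace.isIrreducible_univ A.left)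
    (Set.univ : Set P) (by rw [irreducibleComponents_eq_singleton]; rfl)
  rw [IsHomeomorph.topologicalKrullDim_eq _ (Homeomorph.Set.univ P).isHomeomorph,
    IsHomeomorph.topologicalKrullDim_eq _ (Homeomorph.Set.univ A.left).isHomeomorph] at h1
  rw [← h1]
  exact (IsHomeomorph.topologicalKrullDim_eq _ (Homeomorph.Set.univ (pullback A.hom ξ : Scheme.{u})).isHomeomorph).symm

/-- The fibre of `[p]` over the origin has at most `p ^ g` points. -/
theorem encard_torsion_le {K : Type u} [Field K] (A : Over (Spec (CommRingCat.of K))) [GrpObj A]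
    [IsProper A.hom] [GeometricallyIntegral A.hom] {g : ℕ} (hg : topologicalKrullDim A.left = (g : ℕ)) (p : ℕ)
    [Fact p.Prime] [CharP K p] :
    {x : A.left | (𝟙 A ^ (p : ℤ)).left x = η[A].left (IsLocalRing.closedPoint K)}.encard ≤ (p ^ g : ℕ) := by
  let L := AlgebraicClosure K
  haveI : CharP L p := charP_of_injective_algebraMap (algebraMap K L).injective p
  let ξ := Spec.map (CommRingCat.ofHom (algebraMap K L))
  let A' := (Over.pullback ξ).obj A
  letI : GrpObj A' := Functor.grpObjObj
  haveI : IsProper A'.hom := inferInstanceAs (IsProper (pullback.snd A.hom ξ))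
  haveI : GeometricallyIntegral A'.hom := inferInstanceAs (GeometricallyIntegral (pullback.snd A.hom ξ))
  haveI : LocallyOfFiniteType A.hom := inferInstance
  haveI : LocallyOfFiniteType A'.hom := inferInstance
  have hg' : topologicalKrullDim A'.left = (g : ℕ) := (dim_pullback_eq A).trans hg
  refine le_trans ?_ (encard_torsion_le_algClosed A' hg' p)
  refine le_trans (Set.encard_le_encard ?_) (Set.encard_image_le (pullback.fst A.hom ξ).base _)
  intro x hx
  let f := (𝟙 A ^ (p : ℤ)).left
  let f' := ((Over.pullback ξ).map (𝟙 A ^ (p : ℤ))).left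
  have sq := isPullback_fibre A ξ (𝟙 A ^ (p : ℤ))
  have hη : (pullback.fst A.hom ξ) (η[A'].left (IsLocalRing.closedPoint L)) = η[A].left (IsLocalRing.closedPoint K) := by
    have h : η[A'].left ≫ pullback.fst A.hom ξ = ξ ≫ η[A].left := by
      rw [show η[A'] = Functor.LaxMonoidal.ε (Over.pullback ξ) ≫ (Over.pullback ξ).map η[A] from rfl,
        Over.comp_left, Over.ε_pullback_left, Category.assoc,
        show ((Over.pullback ξ).map η[A]).left ≫ pullback.fst A.hom ξ = pullback.fst _ ξ ≫ η[A].left from
          pullback.lift_fst _ _ _, IsIso.inv_comp_eq, ← Category.assoc]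
      congr 1
      rw [← pullback.condition]
      exact (Category.comp_id _).symm
    rw [← Scheme.Hom.comp_apply, h, Scheme.Hom.comp_apply]
    exact congrArg η[A].left (Subsingleton.elim (α := PrimeSpectrum K) _ _)
  obtain ⟨z, hz1, hz2⟩ := Scheme.Pullback.exists_preimage_pullback (f := f) (g := pullback.fst A.hom ξ) x
    (η[A'].left (IsLocalRing.closedPoint L)) (hx.trans hη.symm)
  let x' := sq.isoPullback.inv z
  have hx1 : (pullback.fst A.hom ξ) x' = x := by
    rw [← hz1, ← Scheme.Hom.comp_apply]
    exact congrArg (fun t : (pullback f (pullback.fst A.hom ξ) : Scheme.{u}) ⟶ A.left => t z) sq.isoPullback_inv_fst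
  have hx2 : f' x' = η[A'].left (IsLocalRing.closedPoint L) := by
    rw [← hz2, ← Scheme.Hom.comp_apply]
    exact congrArg (fun t : (pullback f (pullback.fst A.hom ξ) : Scheme.{u}) ⟶ (pullback A.hom ξ : Scheme.{u}) => t z)
      sq.isoPullback_inv_snd
  refine ⟨x', ?_, hx1⟩
  show (𝟙 A' ^ (p : ℤ)).left x' = _
  rw [← congrArg Over.Hom.left (base_change_zpow A ξ (p : ℤ))]
  exact hx2

end AVAmpleLib

end
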