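import Groth.Agent.AVAmpleLib.Translate
import Groth.Agent.CubeConsLib.Hom
import Groth.Agent.MiscFlat6.AmpleTensor
import Groth.Agent.S4374
import Groth.Agent.S9815
import Groth.Prelude.Def_ThetaK
import Groth.Prelude.Def_LCI2

/-!
Closed subschemes on which the symmetrisation of an ample module comes from the base are finite.
-/

set_option autoImplicit false
set_option maxRecDepth 8000
set_option maxHeartbeats 1000000
set_option linter.style.haveILetI false

noncomputable section

universe u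

open CategoryTheory MonoidalCategory CartesianMonoidalCategory MonObj AlgebraicGeometry TopologicalSpace
open CubeConsLib

namespace AVAmpleLib

theorem isFinite_of_ample_one {X Y : Scheme.{u}} (p : X ⟶ Y) [IsProper p] [IsAffine Y]
    (h : CohB1.IsAmple (Coh.structureModule X)) : IsFinite p := by
  haveI : CompactSpace X := h.2.1
  haveI : X.IsQuasiAffine := Groth.Agent.S4374.result X _ _ ⟨HilbPolyLib.unitLeft _⟩ h h
  have e : X.toSpecΓ ≫ Spec.map p.appTop = p ≫ Y.toSpecΓ := (Scheme.toSpecΓ_naturality p).symm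
  haveI : IsProper (X.toSpecΓ ≫ Spec.map p.appTop) := by rw [e]; infer_instance
  haveI : IsProper X.toSpecΓ := IsProper.of_comp X.toSpecΓ (Spec.map p.appTop)
  haveI : IsClosedImmersion X.toSpecΓ :=
    IsClosedImmersion.of_isPreimmersion _ X.toSpecΓ.isClosedMap.isClosed_range
  haveI : IsAffine X := isAffine_of_isAffineHom X.toSpecΓ
  haveI : IsAffineHom p := inferInstance
  exact IsFinite.iff_isProper_and_isAffineHom.2 ⟨inferInstance, inferInstance⟩

variable {S : Scheme.{u}} {A B : Over S} [GrpObj A] {L : A.left.Modules} (hL : PicF.IsInvertible L)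

/-- On the subscheme where the Mumford bundle comes from the base, so does `L + (-1)^*L`. -/
theorem sym_eq (z : B ⟶ A) (h : ThetaGrp.IsMumfordTriv A L z) :
    P hL z + P hL z⁻¹ = pullA B.hom (pullA η[A].left (clA hL) + pullA η[A].left (clA hL)) := by
  obtain ⟨M, hM, h⟩ := h
  have hm : (A ◁ z) ≫ μ[A] = fst A B * (snd A B ≫ z) := by
    rw [Hom.mul_def]
    congr 1
  have h' : P hL (fst A B * (snd A B ≫ z)) =
      pullA (snd A B).left (clA hM) + P hL (fst A B) + P hL (snd A B ≫ z) := by
    have h1 : PicF.IsInvertible ((Scheme.Modules.pullback (fst A B).left).obj L) := AmpleDevLib.isInvertible_pb _ hL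
    have h2 : PicF.IsInvertible ((Scheme.Modules.pullback (snd A B).left).obj M) := AmpleDevLib.isInvertible_pb _ hM
    have h4 : PicF.IsInvertible ((Scheme.Modules.pullback (snd A B ≫ z).left).obj L) :=
      AmpleDevLib.isInvertible_pb _ hL
    have h3 : PicF.IsInvertible ((Scheme.Modules.pullback ((A ◁ z) ≫ μ[A]).left).obj L) :=
      AmpleDevLib.isInvertible_pb _ hL
    unfold AgPol.IsLambdaSheaf at h
    rw [← clA_eq_iff (HilbPolyLib.isInvertible_tensor (HilbPolyLib.isInvertible_tensor h2 h1) h4) h3,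
      clA_tensor (HilbPolyLib.isInvertible_tensor h2 h1) h4, clA_tensor h2 h1, ← pullA_clA (fst A B).left hL,
      ← pullA_clA (snd A B).left hM, ← pullA_clA (snd A B ≫ z).left hL, ← pullA_clA _ hL, hm] at h
    exact h.symm
  have e1 := congrArg (pullA (lift (1 : B ⟶ A) (𝟙 B)).left) h'
  rw [map_add, map_add, pullA_P, pullA_P, pullA_P, pullA_comp, ← Over.comp_left, lift_snd, Over.id_left, pullA_id,
    MonObj.comp_mul, lift_fst, lift_snd_assoc, Category.id_comp, _root_.one_mul, right_eq_add] at e1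
  have e2 := congrArg (pullA (lift z⁻¹ (𝟙 B)).left) h'
  rw [map_add, map_add, pullA_P, pullA_P, pullA_P, pullA_comp, ← Over.comp_left, lift_snd, Over.id_left, pullA_id,
    MonObj.comp_mul, lift_fst, lift_snd_assoc, Category.id_comp, inv_mul_cancel] at e2
  rw [map_add, ← P_one (V := B) hL]
  calc P hL z + P hL z⁻¹ = clA hM + P hL z⁻¹ + P hL z + P hL 1 - (clA hM + P hL 1) + 0 := by abel
    _ = P hL 1 + P hL 1 := by rw [← e2, e1, sub_zero, add_zero]

include hL in
theorem isFinite_of_mumfordTriv [IsProper A.hom] (hA : RelAmple.IsRelAmple A.hom L) (z : B ⟶ A)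
    [IsClosedImmersion z.left] (hz : ThetaGrp.IsMumfordTriv A L z) : IsFinite B.hom := by
  haveI : IsProper B.hom := by rw [← Over.w z]; infer_instance
  have hzi : IsIso ((𝟙 A)⁻¹ : A ⟶ A).left := inferInstanceAs (IsIso ((Over.forget _).map ((𝟙 A)⁻¹ : A ⟶ A)))
  let N : S.Modules := CohB1.tensorMod ((Scheme.Modules.pullback η[A].left).obj L) ((Scheme.Modules.pullback η[A].left).obj L)
  have hN : PicF.IsInvertible N := HilbPolyLib.isInvertible_tensor (AmpleDevLib.isInvertible_pb _ hL)
    (AmpleDevLib.isInvertible_pb _ hL)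
  have hloc : ∀ s : S, ∃ V : S.affineOpens, s ∈ V.1 ∧
      Nonempty (N.restrict V.1.ι ≅ Coh.structureModule V.1.toScheme) := by
    intro s
    obtain ⟨U, e, hsU, he⟩ := TwistLib.exists_genOn hN s
    obtain ⟨V, hV, hsV, hVU⟩ := exists_isAffineOpen_mem_and_subset hsU
    exact ⟨⟨V, hV⟩, hsV, TwistLib.nonempty_iso_of_genOn _ (he.res hVU)⟩
  choose V hsV heV using hloc
  have hcov : ⨆ s, ((V s : S.affineOpens) : S.Opens) = ⊤ :=
    eq_top_iff.2 fun s _ => Opens.mem_iSup.2 ⟨s, hsV s⟩
  refine (IsZariskiLocalAtTarget.iff_of_iSup_eq_top (P := @IsFinite) _ hcov).2 fun s => ?_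
  let W := B.hom ⁻¹ᵁ (V s : S.Opens)
  haveI : IsAffine (V s : S.Opens).toScheme := (V s).2
  haveI : CompactSpace W.toScheme := QuasiCompact.compactSpace_of_compactSpace (B.hom ∣_ (V s : S.Opens))
  refine isFinite_of_ample_one (B.hom ∣_ (V s : S.Opens)) ?_
  have key : ∀ w : B ⟶ A, Topology.IsEmbedding w.left →
      CohB1.IsAmple ((Scheme.Modules.pullback (W.ι ≫ w.left)).obj L) := by
    intro w hw
    let j := (A.hom ⁻¹ᵁ (V s : S.Opens)).ι
    have hr : Set.range (W.ι ≫ w.left) ⊆ Set.range j := by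
      rintro _ ⟨x, rfl⟩
      rw [Scheme.Opens.range_ι]
      show A.hom (w.left (W.ι x)) ∈ (V s : S.Opens)
      rw [← Scheme.Hom.comp_apply, Over.w w]
      exact x.2
    let l := IsOpenImmersion.lift j (W.ι ≫ w.left) hr
    have hl : l ≫ j = W.ι ≫ w.left := IsOpenImmersion.lift_fac _ _ _
    have hemb : Topology.IsEmbedding l := by
      refine Topology.IsEmbedding.of_comp l.continuous j.continuous ?_
      have := congrArg (fun g : W.toScheme ⟶ A.left => ⇑g) hl
      rw [show (⇑j ∘ ⇑l) = ⇑(l ≫ j) from rfl, this]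
      exact hw.comp W.ι.isEmbedding
    have hA' := Groth.Agent.S9815.result l hemb _ (hA.2 (V s))
    refine AmpleDevLib.isAmple_of_iso hA'.1 (AmpleDevLib.isInvertible_pb _ hL) ?_ hA'
    exact (Scheme.Modules.pullback l).mapIso ((Scheme.Modules.restrictFunctorIsoPullback j).app L) ≪≫
      (Scheme.Modules.pullbackComp l j).app L ≪≫ (Scheme.Modules.pullbackCongr hl).app L
  have h₁ := key z z.left.isEmbedding
  have h₂ := key z⁻¹ (by
    rw [← Category.id_comp z, ← GrpObj.comp_inv, Category.id_comp, ← Category.comp_id z, ← GrpObj.comp_inv,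
      Over.comp_left]
    exact ((𝟙 A)⁻¹ : A ⟶ A).left.isEmbedding.comp z.left.isEmbedding)
  refine AmpleDevLib.isAmple_of_iso (MiscFlat6.isAmple_tensor h₁ h₂).1 (isInvertible_one _) ?_
    (MiscFlat6.isAmple_tensor h₁ h₂)
  refine (Classical.choice ?_)
  rw [← clA_eq_iff (HilbPolyLib.isInvertible_tensor h₁.1 h₂.1) (isInvertible_one _), clA_tensor h₁.1 h₂.1, clA_one,
    ← pullA_clA _ hL, ← pullA_clA _ hL, ← pullA_comp, ← pullA_comp, ← map_add]
  show pullA W.ι (P hL z + P hL z⁻¹) = 0
  rw [sym_eq hL z hz, pullA_comp, ← morphismRestrict_ι, ← pullA_comp]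
  have hN0 : pullA (V s : S.Opens).ι (clA hN) = 0 := by
    rw [pullA_clA, ← clA_one, clA_eq_iff]
    exact ⟨((Scheme.Modules.restrictFunctorIsoPullback _).app N).symm ≪≫ (heV s).some⟩
  have hN1 : clA hN = pullA η[A].left (clA hL) + pullA η[A].left (clA hL) := by
    rw [pullA_clA, ← clA_tensor]
  rw [← hN1, hN0, map_zero]

end AVAmpleLib
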