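import Groth.Agent.AVAmpleLib.Exist
import Groth.Agent.AVAmpleLib.FiniteKL
import Groth.Agent.AbSchLib.MulN

/-!
Multiplication by a nonzero integer on an abelian variety is finite and surjective.
-/

set_option autoImplicit false
set_option maxRecDepth 8000
set_option maxHeartbeats 1000000
set_option linter.style.haveILetI false

noncomputable section

universe u

open CategoryTheory MonoidalCategory CartesianMonoidalCategory MonObj AlgebraicGeometry TopologicalSpace
open CubeConsLib

namespace AVAmpleLib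

/-- A proper morphism pulling some module back to an ample one is finite. -/
theorem isFinite_of_isAmple_pullback {X Y : Scheme.{u}} (f : X ⟶ Y) [IsProper f] {L : Y.Modules}
    (hL : PicF.IsInvertible L) (hA : CohB1.IsAmple ((Scheme.Modules.pullback f).obj L)) : IsFinite f := by
  have hloc : ∀ y : Y, ∃ V : Y.affineOpens, y ∈ V.1 ∧
      Nonempty (L.restrict V.1.ι ≅ Coh.structureModule V.1.toScheme) := by
    intro y
    obtain ⟨U, e, hyU, he⟩ := TwistLib.exists_genOn hL y
    obtain ⟨V, hV, hyV, hVU⟩ := exists_isAffineOpen_mem_and_subset hyU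
    exact ⟨⟨V, hV⟩, hyV, TwistLib.nonempty_iso_of_genOn _ (he.res hVU)⟩
  choose V hyV heV using hloc
  have hcov : ⨆ y, ((V y : Y.affineOpens) : Y.Opens) = ⊤ :=
    eq_top_iff.2 fun y _ => Opens.mem_iSup.2 ⟨y, hyV y⟩
  refine (IsZariskiLocalAtTarget.iff_of_iSup_eq_top (P := @IsFinite) _ hcov).2 fun y => ?_
  let W := f ⁻¹ᵁ (V y : Y.Opens)
  haveI : IsAffine (V y : Y.Opens).toScheme := (V y).2
  haveI : CompactSpace W.toScheme := QuasiCompact.compactSpace_of_compactSpace (f ∣_ (V y : Y.Opens))
  refine isFinite_of_ample_one (f ∣_ (V y : Y.Opens)) ?_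
  have h1 := Groth.Agent.S9815.result W.ι W.ι.isEmbedding _ hA
  refine AmpleDevLib.isAmple_of_iso h1.1 (isInvertible_one _) ?_ h1
  refine Classical.choice ?_
  rw [← clA_eq_iff h1.1 (isInvertible_one _), clA_one, ← pullA_clA W.ι hA.1, ← pullA_clA f hL, pullA_comp,
    ← morphismRestrict_ι, ← pullA_comp]
  have h0 : pullA (V y : Y.Opens).ι (clA hL) = 0 := by
    rw [pullA_clA, ← clA_one, clA_eq_iff]
    exact ⟨((Scheme.Modules.restrictFunctorIsoPullback _).app L).symm ≪≫ (heV y).some⟩
  rw [h0, map_zero]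

variable {K : Type u} [Field K] (A : Over (Spec (CommRingCat.of K))) [GrpObj A]
  [IsProper A.hom] [GeometricallyIntegral A.hom]

theorem isProper_endo (f : A ⟶ A) : IsProper f.left := by
  haveI : IsProper (f.left ≫ A.hom) := by rw [Over.w]; infer_instance
  exact IsProper.of_comp f.left A.hom

theorem isFinite_zpow {n : ℤ} (hn : n ≠ 0) : IsFinite (𝟙 A ^ n).left := by
  haveI : LocallyOfFinitePresentation A.hom := LocallyOfFinitePresentation.iff_locallyOfFiniteType.2 inferInstance
  haveI := isProper_endo A (𝟙 A ^ n)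
  obtain ⟨L, hA, hs⟩ := exists_symmetric_ample A
  have hL := hA.1
  refine isFinite_of_isAmple_pullback (𝟙 A ^ n).left hL ?_
  have hm : 0 < n.natAbs * n.natAbs := Nat.mul_pos (Int.natAbs_pos.2 hn) (Int.natAbs_pos.2 hn)
  have hpow := (AmpleThLib.isAmple_tensorPow_iff hL hm).1 hA
  refine AmpleDevLib.isAmple_of_iso hpow.1 (AmpleDevLib.isInvertible_pb _ hL) (Classical.choice ?_) hpow
  rw [← clA_eq_iff hpow.1 (AmpleDevLib.isInvertible_pb _ hL), clA_pow hL, ← P_eq hL]
  have hinv : P hL (𝟙 A)⁻¹ = clA hL := by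
    rw [P_eq, clA_eq_iff]
    exact ⟨hs.some.symm⟩
  rw [zpow_formula hL (𝟙 A) n, hinv, P_id, P_zero hL, smul_zero, add_zero, ← add_smul, ← natCast_zsmul]
  congr 1
  push_cast
  rw [abs_mul_abs_self, show n * (n + 1) = n * (n - 1) + n * 2 by ring, Int.add_mul_ediv_right _ _ two_ne_zero]
  obtain ⟨t, ht⟩ : (2 : ℤ) ∣ n * (n - 1) := by
    have := Int.even_mul_succ_self (n - 1)
    rw [sub_add_cancel, mul_comm] at this
    exact this.two_dvd
  rw [ht, Int.mul_ediv_cancel_left _ two_ne_zero]
  linear_combination ht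

theorem surjective_of_finite (f : A ⟶ A) [IsFinite f.left] : Surjective f.left := by
  haveI := irreducibleSpace_left (A := A)
  obtain ⟨x, hx⟩ := AbSchLib.exists_generic_image A.hom f.left
  have h1 : closure ({f.left x} : Set A.left) = Set.univ := by
    have := hx
    rw [irreducibleComponents_eq_singleton] at this
    exact this
  refine ⟨fun y => ?_⟩
  have h2 := closure_minimal (Set.singleton_subset_iff.2 (Set.mem_range_self (f := ⇑f.left) x))
    f.left.isClosedMap.isClosed_range
  exact h2 (h1.symm ▸ Set.mem_univ y)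

theorem surjective_zpow {n : ℤ} (hn : n ≠ 0) : Surjective (𝟙 A ^ n).left :=
  haveI := isFinite_zpow A hn
  surjective_of_finite A _

end AVAmpleLib
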