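import Groth.Agent.AVAmpleLib.SectionCount
import Groth.Agent.AVAmpleLib.PTorsion
import Groth.Agent.AbSchLib.MulN
import Groth.Prelude.Def_AbDual
import Groth.Agent.S0383

/-!
Torsion points of an abelian variety over an algebraically closed field.
-/

set_option autoImplicit false
set_option linter.style.haveILetI false
set_option maxHeartbeats 1000000

noncomputable section

universe u

open CategoryTheory CategoryTheory.Limits MonoidalCategory CartesianMonoidalCategory MonObj AlgebraicGeometry TopologicalSpace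

namespace AVAmpleLib

variable {k : Type u} [Field k] [IsAlgClosed k] (A : Over (Spec (CommRingCat.of k))) [GrpObj A] [IsCommMonObj A]
  [IsProper A.hom] [GeometricallyIntegral A.hom]

/-- `A[n](k)` for `k`-points. -/
abbrev tors (n : ℕ) : Subgroup (𝟙_ (Over (Spec (CommRingCat.of k))) ⟶ A) :=
  AbDual.torsPts A n (𝟙_ (Over (Spec (CommRingCat.of k))))

theorem natCard_tors {g : ℕ} (hg : topologicalKrullDim A.left = (g : ℕ)) (n : ℕ) (hn : (n : k) ≠ 0) :
    Nat.card (tors A n) = n ^ (2 * g) := by
  have hn0 : (n : ℤ) ≠ 0 := by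
    intro h
    apply hn
    rw [show n = 0 by exact_mod_cast h, Nat.cast_zero]
  haveI : LocallyOfFinitePresentation A.hom := LocallyOfFinitePresentation.iff_locallyOfFiniteType.2 inferInstance
  have hunit : IsUnit (((n : ℤ)) : Γ(Spec (CommRingCat.of k), ⊤)) := by
    have := (isUnit_iff_ne_zero.2 hn).map (Scheme.ΓSpecIso (CommRingCat.of k)).inv.hom
    simpa using this
  haveI : IsFinite (𝟙 A ^ (n : ℤ)).left := (AbSchLib.isFinite_etale_zpow A (n : ℤ) hunit).1
  haveI : Etale (𝟙 A ^ (n : ℤ)).left := (AbSchLib.isFinite_etale_zpow A (n : ℤ) hunit).2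
  let f := (𝟙 A ^ (n : ℤ)).left
  let eta : Spec (CommRingCat.of k) ⟶ A.left := η[A].left
  let q := pullback.snd f eta
  have hdeg : q.finrank (IsLocalRing.closedPoint k) = n ^ (2 * g) := by
    rw [Scheme.Hom.finrank_pullback_snd, finrank_zpow A hn0 hg, Int.natAbs_natCast]
  rw [← hdeg, ← natCard_sections q]
  have key : ∀ a : 𝟙_ (Over (Spec (CommRingCat.of k))) ⟶ A, a ∈ tors A n ↔ a.left ≫ f = eta := fun a => by
    rw [AbDual.mem_torsPts, ← zpow_natCast a n, show a ^ (n : ℤ) = a ≫ (𝟙 A ^ (n : ℤ)) by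
      rw [GrpObj.comp_zpow, Category.comp_id], ← MonObj.one_eq_one]
    exact ⟨fun h => congrArg Over.Hom.left h, fun h => Over.OverMorphism.ext h⟩
  refine Nat.card_eq_of_bijective (fun a => ⟨pullback.lift a.1.left (𝟙 _) ?_, pullback.lift_snd _ _ _⟩) ⟨?_, ?_⟩
  · rw [(key a.1).mp a.2]; exact (Category.id_comp _).symm
  · intro a b e
    have := congrArg (fun s => s ≫ pullback.fst f eta) (Subtype.ext_iff.mp e)
    simp only [pullback.lift_fst] at this
    exact Subtype.ext (Over.OverMorphism.ext this)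
  · rintro ⟨s, hs⟩
    have hw : (s ≫ pullback.fst f eta) ≫ f = eta := by
      rw [Category.assoc, pullback.condition, ← Category.assoc]
      exact (congrArg (· ≫ eta) hs).trans (Category.id_comp _)
    have hA : (s ≫ pullback.fst f eta) ≫ A.hom = 𝟙 _ := by
      have h1 : f ≫ A.hom = A.hom := Over.w _
      rw [← h1, ← Category.assoc, hw]
      exact Over.w η[A]
    let a : 𝟙_ (Over (Spec (CommRingCat.of k))) ⟶ A := Over.homMk (s ≫ pullback.fst f eta) hA
    refine ⟨⟨a, (key a).mpr hw⟩, Subtype.ext ?_⟩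
    apply pullback.hom_ext
    · exact pullback.lift_fst _ _ _
    · rw [pullback.lift_snd]; exact hs.symm

theorem exists_pow_eq {n : ℕ} (hn : 0 < n) (a : 𝟙_ (Over (Spec (CommRingCat.of k))) ⟶ A) :
    ∃ b : 𝟙_ (Over (Spec (CommRingCat.of k))) ⟶ A, b ^ n = a := by
  haveI := Groth.Agent.S0383.result k A n hn
  haveI : JacobsonSpace A.left := LocallyOfFiniteType.jacobsonSpace A.hom
  have hcl : IsClosed ({pt a} : Set A.left) := by
    haveI : IsClosedImmersion a.left := by
      haveI : IsClosedImmersion (a.left ≫ A.hom) := by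
        rw [Over.w a]
        exact inferInstanceAs (IsClosedImmersion (𝟙 (Spec (CommRingCat.of k))))
      exact IsClosedImmersion.of_comp a.left A.hom
    have := a.left.isClosedEmbedding.isClosed_range
    rwa [range_pt] at this
  obtain ⟨x, hx, hxc⟩ := nonempty_inter_closedPoints
    (show ((𝟙 A ^ n).left.base ⁻¹' {pt a}).Nonempty from
      (Surjective.surj (f := (𝟙 A ^ n).left) (pt a)).elim fun y hy => ⟨y, hy⟩)
    (hcl.preimage (𝟙 A ^ n).left.continuous).isLocallyClosed
  obtain ⟨b, rfl⟩ := exists_pt_eq x hxc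
  refine ⟨b, pt_injective ?_⟩
  rw [show b ^ n = b ≫ (𝟙 A ^ n) by rw [MonObj.comp_pow, Category.comp_id], pt_comp]
  exact hx

theorem finite_tors {n : ℕ} (hn : 0 < n) : Finite (tors A n) := by
  haveI := isFinite_zpow A (n := (n : ℤ)) (by exact_mod_cast hn.ne')
  let S := (𝟙 A ^ (n : ℤ)).left.base ⁻¹' {η[A].left (IsLocalRing.closedPoint k)}
  have hS : S.Finite := (𝟙 A ^ (n : ℤ)).left.finite_preimage_singleton _
  haveI := hS.to_subtype
  refine Finite.of_injective (fun a : tors A n => (⟨pt a.1, ?_⟩ : S)) fun a b e =>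
    Subtype.ext (pt_injective (Subtype.ext_iff.mp e))
  show (𝟙 A ^ (n : ℤ)).left (pt a.1) = _
  rw [← pt_comp, GrpObj.comp_zpow, Category.comp_id, zpow_natCast, (AbDual.mem_torsPts A a.1).mp a.2,
    ← MonObj.one_eq_one]
  rfl

theorem natCard_tors_prime_le {g : ℕ} (hg : topologicalKrullDim A.left = (g : ℕ)) (p : ℕ) [Fact p.Prime] [CharP k p] :
    Nat.card (tors A p) ≤ p ^ g := by
  haveI := finite_tors A (n := p) (Fact.out : p.Prime).pos
  letI : Fintype (ULift.{u} (tors A p)) := Fintype.ofFinite _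
  have := card_torsion_le A hg p (fun x : ULift.{u} (tors A p) => x.down.1)
    (fun x => by rw [zpow_natCast]; exact x.down.2) (fun x y e => ULift.down_injective (Subtype.ext (pt_injective e)))
  rwa [← Nat.card_eq_fintype_card, Nat.card_congr Equiv.ulift] at this

end AVAmpleLib

end
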