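import Groth.Agent.AVAmpleLib.ReducedSub
import Groth.Agent.AVAmpleLib.Torsion
import Groth.Agent.CubeConsLib.FieldHom
import Groth.Agent.GrpFieldLib.Comps
import Groth.Agent.HilbPolyLib.Snapper
import Groth.Agent.HilbPolyLib.Basic

/-!
The prime power torsion of an abelian variety is dense; abelian subvarieties in closures of subgroups.
-/

set_option autoImplicit false
set_option linter.style.haveILetI false
set_option backward.isDefEq.respectTransparency false
set_option maxHeartbeats 1000000

noncomputable section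

universe u

open CategoryTheory CategoryTheory.Limits MonoidalCategory CartesianMonoidalCategory MonObj AlgebraicGeometry TopologicalSpace
open Groth.Agent

namespace AVAmpleLib

variable {k : Type u} [Field k] [IsAlgClosed k] {A : Over (Spec (CommRingCat.of k))} [GrpObj A]

theorem exists_dim (A : Over (Spec (CommRingCat.of k))) [IsProper A.hom] [Nonempty A.left] :
    ∃ g : ℕ, topologicalKrullDim A.left = (g : ℕ) := by
  letI : A.left.Over (Spec (CommRingCat.of k)) := ⟨A.hom⟩
  haveI : IsProper (A.left ↘ Spec (CommRingCat.of k)) := inferInstanceAs (IsProper A.hom)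
  obtain ⟨D, hD⟩ := HilbPolyLib.exists_dim_lt (X := A.left) k
  haveI : Nonempty (IrreducibleCloseds A.left) :=
    ⟨⟨closure {Classical.arbitrary A.left}, isIrreducible_singleton.closure, isClosed_closure⟩⟩
  have h0 : 0 ≤ topologicalKrullDim A.left := Order.krullDim_nonneg
  revert h0 hD
  generalize topologicalKrullDim A.left = d
  intro hD h0
  induction d with
  | bot => simp at h0
  | coe d =>
    induction d with
    | top =>
      exact absurd hD (not_lt.mpr (WithBot.coe_le_coe.mpr le_top))
    | coe d => exact ⟨d, rfl⟩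

theorem closure_pt_eq [LocallyOfFiniteType A.hom] {C : Set A.left} (hC : IsClosed C) :
    closure (pt '' {a : 𝟙_ (Over (Spec (CommRingCat.of k))) ⟶ A | pt a ∈ C}) = C := by
  haveI : JacobsonSpace A.left := LocallyOfFiniteType.jacobsonSpace A.hom
  refine subset_antisymm (closure_minimal (Set.image_subset_iff.2 fun a ha => ha) hC) ?_
  nth_rw 1 [← closure_inter_closedPoints hC]
  refine closure_mono fun x hx => ?_
  obtain ⟨a, rfl⟩ := exists_pt_eq x hx.2
  exact ⟨a, hx.1, rfl⟩

theorem connectedComponent_pt [LocallyOfFiniteType A.hom] (a b : 𝟙_ (Over (Spec (CommRingCat.of k))) ⟶ A)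
    (h : connectedComponent (pt a) = connectedComponent (pt b)) : pt (a⁻¹ * b) ∈ GrpField.Z0 A := by
  rw [← GrpField.connectedComponent_unit]
  have h1 : GrpField.unitPt A = (tL a⁻¹).left (pt a) := by
    rw [← pt_comp, point_tL, inv_mul_cancel, Hom.one_def, toUnit_unique (toUnit _) (𝟙 _), Category.id_comp]
    rfl
  rw [h1]
  have h2 := (isConnected_connectedComponent (x := pt a)).isPreconnected.image _ (tL a⁻¹).left.continuous.continuousOn
  refine h2.subset_connectedComponent ⟨_, mem_connectedComponent, rfl⟩ ⟨pt b, h ▸ mem_connectedComponent, ?_⟩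
  rw [← pt_comp, point_tL]

/-- The identity component of a proper reduced group, as an abelian variety. -/
theorem exists_identity_component (B : Over (Spec (CommRingCat.of k))) [GrpObj B] [IsProper B.hom]
    [IsReduced B.left] :
    ∃ (B0 : Over (Spec (CommRingCat.of k))) (_ : GrpObj B0) (j : B0 ⟶ B), IsMonHom j ∧ IsClosedImmersion j.left ∧
      IsCommMonObj B0 ∧ IsProper B0.hom ∧ GeometricallyIntegral B0.hom ∧ Set.range j.left = GrpField.Z0 B := by
  obtain ⟨B0, G0, j, hj, hcl, hred, hlft, hr⟩ := exists_reduced_subgroup (A := B) {b | pt b ∈ GrpField.Z0 B}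
    (by
      show pt (1 : 𝟙_ (Over (Spec (CommRingCat.of k))) ⟶ B) ∈ GrpField.Z0 B
      rw [Hom.one_def, toUnit_unique (toUnit _) (𝟙 _), Category.id_comp]
      exact GrpField.unitPt_mem_Z0 B)
    (fun a ha b hb => GrpField.mul_mem_Z0 a b _ ha hb) (fun a ha => GrpField.inv_mem_Z0 a _ ha)
  rw [closure_pt_eq (GrpField.isClosed_Z0 B)] at hr
  haveI : IrreducibleSpace B0.left := by
    haveI : IrreducibleSpace ↥(Set.range j.left) := Subtype.irreducibleSpace (hr ▸ GrpField.isIrreducible_Z0 B)
    exact j.left.isClosedEmbedding.isEmbedding.toHomeomorph.irreducibleSpace_iff.2 this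
  haveI : GeometricallyIrreducible B0.hom := GrpField.gi_of_irreducible_algClosed _
  haveI : GeometricallyReduced B0.hom := gr_of_isReduced B0.hom
  haveI : IsProper B0.hom := by
    rw [← Over.w j]; infer_instance
  haveI : GeometricallyIntegral B0.hom := by
    rw [GeometricallyIntegral.eq_geometricallyReduced_inf_geometricallyIrreducible]
    exact ⟨inferInstance, inferInstance⟩
  exact ⟨B0, G0, j, hj, hcl, CubeConsLib.isCommMonObj_field, inferInstance, inferInstance, hr⟩

variable [IsCommMonObj A] [IsProper A.hom] [GeometricallyIntegral A.hom]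

/-- The torsion points of `l`-power order. -/
abbrev torsPow (A : Over (Spec (CommRingCat.of k))) [GrpObj A] (l : ℕ) : Set (𝟙_ (Over (Spec (CommRingCat.of k))) ⟶ A) :=
  {a | ∃ m, a ^ (l ^ m) = 1}

theorem dense_torsPow (l : ℕ) [Fact l.Prime] (hl : (l : k) ≠ 0) :
    closure (pt '' torsPow A l) = Set.univ := by
  haveI : IsIntegral A.left := GeometricallyIntegral.isIntegral_of_subsingleton A.hom
  obtain ⟨g, hg⟩ := exists_dim A
  obtain ⟨B, _, i, hi, hcl, hred, hlft, hr⟩ := exists_reduced_subgroup (torsPow A l) ⟨0, one_pow _⟩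
    (fun a ⟨m, ha⟩ b ⟨n, hb⟩ => ⟨m + n, by
      rw [mul_pow, pow_add, pow_mul, ha, one_pow, _root_.one_mul, mul_comm, pow_mul, hb, one_pow]⟩)
    (fun a ⟨m, ha⟩ => ⟨m, by rw [inv_pow, ha, inv_one]⟩)
  haveI : IsProper B.hom := by rw [← Over.w i]; infer_instance
  haveI : Mono i := Over.mono_of_mono_left i
  obtain ⟨B0, _, j, hj, hjcl, _, _, _, hjr⟩ := exists_identity_component B
  haveI : Mono j := Over.mono_of_mono_left j
  haveI : IsIntegral B0.left := GeometricallyIntegral.isIntegral_of_subsingleton B0.hom
  obtain ⟨b, hb⟩ := exists_dim B0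
  by_contra hne
  have hbg : b < g := by
    let f := j.left ≫ i.left
    haveI : IsClosedImmersion f := inferInstance
    have hη : genericPoint A.left ∉ Set.range f := by
      intro h
      apply hne
      rw [← hr]
      refine Set.eq_univ_of_univ_subset ?_
      rw [← (genericPoint_spec A.left).def]
      refine closure_minimal (Set.singleton_subset_iff.2 ?_) i.left.isClosedEmbedding.isClosed_range
      obtain ⟨z, hz⟩ := h
      exact ⟨j.left z, hz⟩
    have h := HilbPolyLib.dim_lt_of_notMem f.isClosedEmbedding.isClosed_range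
      (by rw [genericPoint_closure]; exact Set.subset_univ _) hη (Y := Set.univ) (Set.subset_univ _) (d := g)
      (by
        rw [(Homeomorph.Set.univ A.left).isHomeomorph.topologicalKrullDim_eq, hg]
        exact_mod_cast Nat.lt_succ_self g)
    rw [← f.isClosedEmbedding.isEmbedding.toHomeomorph.isHomeomorph.topologicalKrullDim_eq, hb] at h
    exact_mod_cast h
  haveI : NoetherianSpace B.left := by
    haveI : IsLocallyNoetherian B.left := LocallyOfFiniteType.isLocallyNoetherian B.hom
    haveI : CompactSpace B.left := QuasiCompact.compactSpace_of_compactSpace B.hom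
    haveI : IsNoetherian B.left := {}
    infer_instance
  let cc : Set (Set B.left) := Set.range fun x : B.left => connectedComponent x
  have hfin : cc.Finite := (NoetherianSpace.finite_irreducibleComponents (α := B.left)).subset (by
    rintro _ ⟨x, rfl⟩
    obtain ⟨ξ, hξ, hξx⟩ := HomogDense.exists_isMax_specializes x
    show connectedComponent x ∈ _
    rw [GrpField.connectedComponent_grp hξ hξx]
    exact HomogDense.closure_mem_irreducibleComponents hξ)
  haveI := hfin.to_subtype
  have hlp := (Fact.out : l.Prime)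
  have hcount : ∀ m : ℕ, l ^ (m * (2 * g)) ≤ Nat.card cc * l ^ (m * (2 * b)) := by
    intro m
    have hlm : ((l ^ m : ℕ) : k) ≠ 0 := by rw [Nat.cast_pow]; exact pow_ne_zero m hl
    rw [pow_mul l m (2 * g), pow_mul l m (2 * b), ← natCard_tors A hg _ hlm, ← natCard_tors B0 hb _ hlm, ← Nat.card_prod]
    haveI : Finite (tors B0 (l ^ m)) := finite_tors B0 (pow_pos hlp.pos m)
    have hlift : ∀ a : tors A (l ^ m), ∃ c : 𝟙_ (Over (Spec (CommRingCat.of k))) ⟶ B, c ≫ i = a.1 := fun a => by
      obtain ⟨c, hc⟩ := exists_lift_of_reduced (Z := Spec (CommRingCat.of k)) i.left a.1.left (by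
        refine (range_pt a.1).trans_subset ?_
        rw [hr, Set.singleton_subset_iff]
        exact subset_closure ⟨a.1, ⟨m, a.2⟩, rfl⟩)
      refine ⟨Over.homMk c ?_, Over.OverMorphism.ext hc⟩
      rw [← Over.w i, ← Category.assoc, hc]
      exact Over.w a.1
    choose c hc using hlift
    let comp : tors A (l ^ m) → cc := fun a => ⟨_, pt (c a), rfl⟩
    let rep : tors A (l ^ m) → tors A (l ^ m) := fun a =>
      (⟨a, rfl⟩ : ∃ a', comp a' = comp a).choose
    have hrep : ∀ a, comp (rep a) = comp a := fun a => (⟨a, rfl⟩ : ∃ a', comp a' = comp a).choose_spec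
    have hpow : ∀ a, (c a) ^ (l ^ m) = 1 := fun a => by
      rw [← cancel_mono i, MonObj.pow_comp, hc, MonObj.one_comp]
      exact a.2
    have hlift0 : ∀ a, ∃ d : tors B0 (l ^ m), d.1 ≫ j = (c (rep a))⁻¹ * c a := fun a => by
      obtain ⟨d, hd⟩ := exists_lift_of_reduced (Z := Spec (CommRingCat.of k)) j.left
        ((c (rep a))⁻¹ * c a).left (by
          refine (range_pt _).trans_subset ?_
          rw [hjr, Set.singleton_subset_iff]
          exact connectedComponent_pt _ _ (congrArg Subtype.val (hrep a)))
      let d' : 𝟙_ (Over (Spec (CommRingCat.of k))) ⟶ B0 := Over.homMk d (by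
        rw [← Over.w j, ← Category.assoc, hd]
        exact Over.w _)
      have hd' : d' ≫ j = (c (rep a))⁻¹ * c a := Over.OverMorphism.ext hd
      refine ⟨⟨d', ?_⟩, hd'⟩
      rw [AbDual.mem_torsPts, ← cancel_mono j, MonObj.pow_comp, hd', MonObj.one_comp, Commute.mul_pow, inv_pow,
        hpow, hpow, inv_one, _root_.one_mul]
      have hcm : ∀ x y : 𝟙_ (Over (Spec (CommRingCat.of k))) ⟶ B, Commute x y := fun x y => by
        show x * y = y * x
        rw [← cancel_mono i, MonObj.mul_comp, MonObj.mul_comp, mul_comm]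
      exact hcm _ _
    choose d hd using hlift0
    refine Nat.card_le_card_of_injective (fun a => (comp a, d a)) fun a a' h => Subtype.ext ?_
    obtain ⟨h1, h2⟩ := Prod.mk.inj h
    have h3 : rep a = rep a' := by
      show Exists.choose _ = Exists.choose _
      congr 1
      funext x
      rw [h1]
    have h4 := hd a
    rw [h2, hd a', h3, mul_right_inj] at h4
    rw [← hc a, ← h4, hc a']
  have hN := hcount (Nat.card cc + 1)
  have h1 : l ^ ((Nat.card cc + 1) * (2 * b)) * l ^ (Nat.card cc + 1) ≤ l ^ ((Nat.card cc + 1) * (2 * g)) := by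
    rw [← pow_add, ← Nat.mul_succ]
    exact Nat.pow_le_pow_right hlp.pos (Nat.mul_le_mul_left _ (by omega))
  have h2 := h1.trans (hN.trans_eq (mul_comm _ _))
  exact (lt_of_le_of_lt (Nat.le_of_mul_le_mul_left h2 (pow_pos hlp.pos _))
    ((Nat.lt_succ_self _).trans (Nat.lt_pow_self hlp.one_lt))).ne rfl

end AVAmpleLib

end
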