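import Groth.Agent.AVAmpleLib.Translate
import Groth.Agent.SubDescLib.Main
import Groth.Agent.GeomRedFieldLib.Scheme
import Groth.Agent.HopfFFLib.Consequences
import Groth.Agent.DevissLib.ClosedImm
import Mathlib.AlgebraicGeometry.Morphisms.ClosedImmersion

/-!
Reduced closed subgroup schemes supported on closures of subgroups of rational points.
-/

set_option autoImplicit false
set_option linter.style.haveILetI false
set_option backward.isDefEq.respectTransparency false
set_option maxHeartbeats 1000000

noncomputable section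

universe u

open CategoryTheory CategoryTheory.Limits MonoidalCategory CartesianMonoidalCategory MonObj AlgebraicGeometry TopologicalSpace

namespace AVAmpleLib

/-- A morphism from a reduced scheme landing in the range of a closed immersion factors through it. -/
theorem exists_lift_of_reduced {C A Z : Scheme.{u}} (i : C ⟶ A) [IsClosedImmersion i] [IsReduced Z] (h : Z ⟶ A)
    (hr : Set.range h ⊆ Set.range i) : ∃ l : Z ⟶ C, l ≫ i = h := by
  haveI : IsClosedImmersion (pullback.snd i h) := MorphismProperty.pullback_snd _ _ inferInstance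
  haveI : Surjective (pullback.snd i h) := ⟨Set.range_eq_univ.mp (by
    rw [Scheme.Pullback.range_snd]
    exact Set.eq_univ_of_forall fun z => hr ⟨z, rfl⟩)⟩
  haveI := isIso_of_isClosedImmersion_of_surjective (pullback.snd i h)
  exact ⟨inv (pullback.snd i h) ≫ pullback.fst i h, by
    rw [Category.assoc, pullback.condition, IsIso.inv_hom_id_assoc]⟩

variable {K : Type u} [Field K]

theorem gr_chart [PerfectField K] {X : Scheme.{u}} (f : X ⟶ Spec (CommRingCat.of K)) [LocallyOfFiniteType f]
    [IsReduced X] (T : Type u) [CommRing T] [Algebra K T] (j : Spec (CommRingCat.of T) ⟶ X) [IsOpenImmersion j]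
    (hj : j ≫ f = GeomRedFieldLib.str K T) : GeometricallyReduced (GeomRedFieldLib.str K T) := by
  haveI := GeomRedFieldLib.finiteType_of_chart f j hj
  haveI := Algebra.FiniteType.isNoetherianRing K T
  haveI := isReduced_of_isOpenImmersion j
  haveI : _root_.IsReduced T := (affine_isReduced_iff (CommRingCat.of T)).mp inferInstance
  haveI := Groth.Agent.HopfFF.isGeometricallyReduced_of_perfectField (k := K) T
  exact GeomRedFieldLib.gr_str T

/-- Reduced schemes locally of finite type over a perfect field are geometrically reduced. -/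
theorem gr_of_isReduced [PerfectField K] {X : Scheme.{u}} (f : X ⟶ Spec (CommRingCat.of K)) [LocallyOfFiniteType f]
    [IsReduced X] : GeometricallyReduced f := by
  refine GeomRedFieldLib.gr_of_cover f (X.openCoverOfIsOpenCover _ (iSup_affineOpens_eq_top X)) fun U => ?_
  obtain ⟨T, _, _, j, _, hr, hj⟩ := GeomRedFieldLib.exists_algebra f U.2
  let e := IsOpenImmersion.isoOfRangeEq j U.1.ι (hr.trans (Scheme.Opens.range_ι _).symm)
  haveI := gr_chart f T j hj
  show GeometricallyReduced (U.1.ι ≫ f)
  rw [← IsOpenImmersion.isoOfRangeEq_inv_fac j U.1.ι (hr.trans (Scheme.Opens.range_ι _).symm), Category.assoc, hj]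
  exact GeomRedFieldLib.gr_comp (GeomRedFieldLib.str K T) _

variable [IsAlgClosed K] {A : Over (Spec (CommRingCat.of K))}

/-- Landing in a closed set can be checked on rational points. -/
theorem range_subset_of_points {Z : Over (Spec (CommRingCat.of K))} [LocallyOfFiniteType Z.hom] (h : Z ⟶ A)
    {C : Set A.left} (hC : IsClosed C)
    (hp : ∀ z : 𝟙_ (Over (Spec (CommRingCat.of K))) ⟶ Z, pt (z ≫ h) ∈ C) :
    Set.range h.left ⊆ C := by
  haveI : JacobsonSpace Z.left := LocallyOfFiniteType.jacobsonSpace Z.hom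
  rintro _ ⟨x, rfl⟩
  suffices h.left ⁻¹' C = Set.univ from this.ge (Set.mem_univ x)
  rw [← (hC.preimage h.left.continuous).closure_eq, ← dense_iff_closure_eq]
  refine Dense.mono (fun y hy => ?_) (dense_iff_closure_eq.mpr (closure_closedPoints (X := Z.left)))
  have := hp (Over.homMk (pointOfClosedPoint Z.hom y hy) (pointOfClosedPoint_comp _ _ _))
  simpa [pt] using this

variable [GrpObj A] [LocallyOfFiniteType A.hom]

/-- The reduced closed subgroup scheme supported on the closure of a subgroup of rational points. -/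
theorem exists_reduced_subgroup (H : Set (𝟙_ (Over (Spec (CommRingCat.of K))) ⟶ A)) (h1 : 1 ∈ H)
    (hmul : ∀ a ∈ H, ∀ b ∈ H, a * b ∈ H) (hinv : ∀ a ∈ H, a⁻¹ ∈ H) :
    ∃ (B : Over (Spec (CommRingCat.of K))) (_ : GrpObj B) (i : B ⟶ A), IsMonHom i ∧ IsClosedImmersion i.left ∧
      IsReduced B.left ∧ LocallyOfFiniteType B.hom ∧ Set.range i.left = closure (pt '' H) := by
  set C : Set A.left := closure (pt '' H) with hCdef
  have hC : IsClosed C := isClosed_closure
  have hmapsto : ∀ f : A ⟶ A, (∀ a ∈ H, pt (a ≫ f) ∈ C) → ∀ a, pt a ∈ C → pt (a ≫ f) ∈ C := fun f hf a ha =>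
    (closure_minimal (Set.image_subset_iff.2 fun b hb => hf b hb) (hC.preimage f.left.continuous) : C ⊆ f.left ⁻¹' C) ha
  have hCmul : ∀ a b, pt a ∈ C → pt b ∈ C → pt (a * b) ∈ C := by
    intro a b ha hb
    have h1' : ∀ a ∈ H, ∀ b, pt b ∈ C → pt (a * b) ∈ C := fun a ha b hb => by
      rw [← point_tL b a]
      exact hmapsto (tL a) (fun c hc => by rw [point_tL]; exact subset_closure ⟨_, hmul a ha c hc, rfl⟩) b hb
    rw [← point_tR a b]
    exact hmapsto (tR b) (fun c hc => by rw [point_tR]; exact h1' c hc b hb) a ha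
  have hCinv : ∀ a, pt a ∈ C → pt a⁻¹ ∈ C := by
    intro a ha
    rw [← Category.comp_id a, ← GrpObj.comp_inv]
    exact hmapsto (𝟙 A)⁻¹ (fun c hc => by
      rw [GrpObj.comp_inv, Category.comp_id]; exact subset_closure ⟨_, hinv c hc, rfl⟩) a ha
  let I := Scheme.IdealSheafData.vanishingIdeal (⟨C, hC⟩ : Closeds A.left)
  haveI : IsReduced I.subscheme := DevissLib.isReduced_vanishingIdeal' _
  let B : Over (Spec (CommRingCat.of K)) := Over.mk (I.subschemeι ≫ A.hom)
  let j : B ⟶ A := Over.homMk I.subschemeι rfl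
  haveI : IsClosedImmersion j.left := inferInstanceAs (IsClosedImmersion I.subschemeι)
  haveI : IsReduced B.left := inferInstanceAs (IsReduced I.subscheme)
  haveI hB : LocallyOfFiniteType B.hom := inferInstanceAs (LocallyOfFiniteType (I.subschemeι ≫ A.hom))
  have hr : Set.range j.left = C := by
    show Set.range I.subschemeι = C
    rw [Scheme.IdealSheafData.range_subschemeι, Scheme.IdealSheafData.coe_support_vanishingIdeal]
    rfl
  have hjC : ∀ z : 𝟙_ (Over (Spec (CommRingCat.of K))) ⟶ B, pt (z ≫ j) ∈ C := fun z => hr ▸ ⟨_, rfl⟩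
  have hfac : ∀ (Z : Over (Spec (CommRingCat.of K))) (h : Z ⟶ A), IsReduced Z.left → LocallyOfFiniteType Z.hom →
      (∀ z : 𝟙_ (Over (Spec (CommRingCat.of K))) ⟶ Z, pt (z ≫ h) ∈ C) → ∃ l : Z ⟶ B, l ≫ j = h := by
    intro Z h _ _ hz
    obtain ⟨l, hl⟩ := exists_lift_of_reduced j.left h.left (hr ▸ range_subset_of_points h hC hz)
    refine ⟨Over.homMk l ?_, Over.OverMorphism.ext hl⟩
    rw [← Over.w h, ← hl, Category.assoc, Over.w j]
  haveI : Mono j := Over.mono_of_mono_left j
  haveI : GeometricallyReduced B.hom := gr_of_isReduced B.hom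
  haveI : IsLocallyNoetherian B.left := LocallyOfFiniteType.isLocallyNoetherian B.hom
  haveI : IsReduced (B ⊗ B).left := inferInstanceAs (IsReduced (pullback B.hom B.hom))
  haveI : LocallyOfFiniteType (B ⊗ B).hom :=
    inferInstanceAs (LocallyOfFiniteType (pullback.fst B.hom B.hom ≫ B.hom))
  obtain ⟨G, hG⟩ := Groth.Agent.SubDesc.exists_grpObj_of_mono j
    (hfac (B ⊗ B) _ inferInstance inferInstance fun z => by
      rw [MonObj.comp_mul, ← Category.assoc, ← Category.assoc]
      exact hCmul _ _ (hjC _) (hjC _))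
    (hfac _ _ (inferInstanceAs (IsReduced (Spec (CommRingCat.of K))))
      (inferInstanceAs (LocallyOfFiniteType (𝟙 (Spec (CommRingCat.of K))))) fun z => by
      rw [MonObj.comp_one]; exact subset_closure ⟨_, h1, rfl⟩)
    (hfac B _ inferInstance inferInstance fun z => by rw [GrpObj.comp_inv]; exact hCinv _ (hjC z))
  exact ⟨B, G, j, hG, inferInstance, inferInstance, hB, hr⟩

end AVAmpleLib

end
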