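import Groth.Agent.AVAmpleLib.TateHom
import Groth.Agent.AVAmpleLib.ReducedSub
import Groth.Agent.AVRigidLib.Core
import Groth.Agent.GrpFieldLib.Identity
import Mathlib.AlgebraicGeometry.Morphisms.FlatMono

/-!
Abelian subvarieties inside infinite subgroups of points, and homomorphisms of simple abelian varieties.
-/

set_option autoImplicit false
set_option linter.style.haveILetI false
set_option backward.isDefEq.respectTransparency false
set_option maxHeartbeats 1000000

noncomputable section

universe u

open CategoryTheory CategoryTheory.Limits MonoidalCategory CartesianMonoidalCategory MonObj AlgebraicGeometry TopologicalSpace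
open Groth.Agent

namespace AVAmpleLib

variable {k : Type u} [Field k] [IsAlgClosed k] {A : Over (Spec (CommRingCat.of k))} [GrpObj A] [IsProper A.hom]

/-- An infinite subgroup of points gives a positive dimensional abelian subvariety in its closure. -/
theorem exists_subAV_of_infinite (H : Set (𝟙_ (Over (Spec (CommRingCat.of k))) ⟶ A)) (h1 : 1 ∈ H)
    (hmul : ∀ a ∈ H, ∀ b ∈ H, a * b ∈ H) (hinv : ∀ a ∈ H, a⁻¹ ∈ H) (hinf : H.Infinite) :
    ∃ (C : Over (Spec (CommRingCat.of k))) (_ : GrpObj C) (j : C ⟶ A), IsMonHom j ∧ IsClosedImmersion j.left ∧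
      IsProper C.hom ∧ GeometricallyIntegral C.hom ∧ topologicalKrullDim C.left ≠ 0 ∧
      Set.range j.left ⊆ closure (pt '' H) := by
  obtain ⟨B, _, i, hi, hcl, hred, hlft, hr⟩ := exists_reduced_subgroup H h1 hmul hinv
  obtain ⟨C, _, j, hj, hjcl, hjfl, hjr, hjirr, hjc⟩ := GrpField.exists_identity_component (G := B)
  haveI : IsProper B.hom := by
    rw [← Over.w i]
    infer_instance
  haveI : IsLocallyNoetherian B.left := LocallyOfFiniteType.isLocallyNoetherian B.hom
  haveI : LocallyOfFinitePresentation j.left := LocallyOfFinitePresentation.iff_locallyOfFiniteType.2 inferInstance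
  haveI : IsOpenImmersion j.left := IsOpenImmersion.of_flat_of_mono j.left
  haveI : IsReduced C.left := isReduced_of_isOpenImmersion j.left
  haveI : IsProper C.hom := by
    rw [← Over.w j]
    infer_instance
  haveI : GeometricallyReduced C.hom := gr_of_isReduced C.hom
  haveI : GeometricallyIntegral C.hom :=
    GeometricallyIntegral.of_geometricallyReduced_of_geometricallyIrreducible C.hom
  refine ⟨C, inferInstance, j ≫ i, inferInstance, ?_, inferInstance, inferInstance, fun hd => ?_, ?_⟩
  · rw [Over.comp_left]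
    infer_instance
  swap
  · rw [Over.comp_left, ← hr]
    rintro _ ⟨x, rfl⟩
    exact ⟨j.left x, (Scheme.Hom.comp_apply _ _ _).symm⟩
  -- the identity component is a point, so `B` is finite
  haveI : IsIntegral C.left := GeometricallyIntegral.isIntegral_of_subsingleton C.hom
  haveI : Subsingleton C.left := subsingleton_of_dim_zero (by rw [hd, Nat.cast_zero])
  have hopen1 : IsOpen ({pt (1 : 𝟙_ (Over (Spec (CommRingCat.of k))) ⟶ B)} : Set B.left) := by
    have hmem : pt (1 : 𝟙_ (Over (Spec (CommRingCat.of k))) ⟶ B) ∈ Set.range j.left :=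
      ⟨pt (1 : 𝟙_ (Over (Spec (CommRingCat.of k))) ⟶ C), by
        show j.left ((1 : 𝟙_ (Over (Spec (CommRingCat.of k))) ⟶ C).left _) = _
        rw [← Scheme.Hom.comp_apply, ← Over.comp_left, MonObj.one_comp]
        rfl⟩
    rw [← (Set.subsingleton_of_subsingleton (s := (Set.univ : Set C.left)) |>.image j.left |>.anti
      (Set.image_univ.symm.subset)).eq_singleton_of_mem hmem]
    exact j.left.isOpenEmbedding.isOpen_range
  have hopen : ∀ x : B.left, IsClosed ({x} : Set B.left) → IsOpen ({x} : Set B.left) := by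
    intro x hx
    obtain ⟨a, rfl⟩ := AVRigidLib.exists_pt hx
    have he : ({AVRigidLib.pt a} : Set B.left) =
        (tR a⁻¹).left ⁻¹' {pt (1 : 𝟙_ (Over (Spec (CommRingCat.of k))) ⟶ B)} := by
      ext y
      simp only [Set.mem_singleton_iff, Set.mem_preimage]
      constructor
      · rintro rfl
        show (a ≫ tR a⁻¹).left _ = _
        rw [point_tR, mul_inv_cancel]
        rfl
      · intro hy
        have h2 : (tR a).left ((tR a⁻¹).left y) = y := by
          rw [← Scheme.Hom.comp_apply, ← Over.comp_left, tR_comp, inv_mul_cancel, tR_one]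
          rfl
        rw [← h2, hy]
        show ((1 : 𝟙_ (Over (Spec (CommRingCat.of k))) ⟶ B) ≫ tR a).left _ = _
        rw [point_tR, _root_.one_mul]
    rw [he]
    exact hopen1.preimage (tR a⁻¹).left.continuous
  haveI : JacobsonSpace B.left := LocallyOfFiniteType.jacobsonSpace B.hom
  haveI : CompactSpace B.left := (quasiCompact_iff_compactSpace (f := B.hom)).1 inferInstance
  have hall : closedPoints B.left = Set.univ := by
    by_contra hne
    have hU : IsOpen (closedPoints B.left) := by
      rw [← Set.biUnion_of_singleton (closedPoints B.left)]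
      exact isOpen_biUnion fun x hx => hopen x (mem_closedPoints_iff.1 hx)
    obtain ⟨y, hy, hyc⟩ := nonempty_inter_closedPoints (Set.nonempty_compl.2 hne) hU.isClosed_compl.isLocallyClosed
    exact hy hyc
  haveI : DiscreteTopology B.left := discreteTopology_iff_isOpen_singleton.2 fun x =>
    hopen x (mem_closedPoints_iff.1 (hall ▸ Set.mem_univ x))
  haveI : Finite B.left := finite_of_compact_of_discrete
  refine hinf (Set.Finite.of_finite_image (((Set.finite_range i.left).subset ?_)) pt_injective.injOn)
  rw [hr]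
  exact subset_closure

/-- A nonzero homomorphism of simple abelian varieties is finite and surjective. -/
theorem isFinite_surjective_of_simple {B : Over (Spec (CommRingCat.of k))} [GrpObj B] [IsProper B.hom]
    [GeometricallyIntegral A.hom] [GeometricallyIntegral B.hom] [IsCommMonObj A] [IsCommMonObj B]
    (hA : ∀ (C : Over (Spec (CommRingCat.of k))) [GrpObj C], IsProper C.hom → GeometricallyIntegral C.hom →
      ∀ (j : C ⟶ A) [IsMonHom j], IsClosedImmersion j.left → IsIso j ∨ topologicalKrullDim C.left = 0)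
    (hB : ∀ (C : Over (Spec (CommRingCat.of k))) [GrpObj C], IsProper C.hom → GeometricallyIntegral C.hom →
      ∀ (j : C ⟶ B) [IsMonHom j], IsClosedImmersion j.left → IsIso j ∨ topologicalKrullDim C.left = 0)
    (f : A ⟶ B) [IsMonHom f] (hf : f ≠ 1) : IsFinite f.left ∧ Surjective f.left := by
  haveI : IsIntegral A.left := GeometricallyIntegral.isIntegral_of_subsingleton A.hom
  haveI := isProper_hom f
  have hker : {a : 𝟙_ (Over (Spec (CommRingCat.of k))) ⟶ A | a ≫ f = 1}.Finite := by
    by_contra hinf
    obtain ⟨C, _, j, hj, hjc, hp, hg, hd, hr⟩ := exists_subAV_of_infinite {a : 𝟙_ _ ⟶ A | a ≫ f = 1}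
      (MonObj.one_comp f)
      (fun a (ha : a ≫ f = 1) b (hb : b ≫ f = 1) => show (a * b) ≫ f = 1 by
        rw [MonObj.mul_comp, ha, hb, _root_.mul_one])
      (fun a (ha : a ≫ f = 1) => show a⁻¹ ≫ f = 1 by rw [GrpObj.inv_comp, ha, inv_one]) hinf
    haveI := (hA C hp hg j hjc).resolve_right hd
    haveI : IsIso j.left := inferInstanceAs (IsIso ((Over.forget _).map j))
    have hdense : Dense (pt '' {a : 𝟙_ (Over (Spec (CommRingCat.of k))) ⟶ A | a ≫ f = 1}) := fun x =>
      hr ((Scheme.homeoOfIso (asIso j.left)).surjective x)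
    exact hf (hom_ext_of_dense f 1 _ hdense fun a ha => ha.trans (MonObj.comp_one a).symm)
  have hfin : IsFinite f.left := by
    rw [isFinite_iff_finite_ker]
    by_contra hinf
    haveI : JacobsonSpace A.left := LocallyOfFiniteType.jacobsonSpace A.hom
    have hS := (hker.image pt)
    have hsub : f.left ⁻¹' {GrpField.unitPt B} ⊆ pt '' {a : 𝟙_ _ ⟶ A | a ≫ f = 1} := by
      rw [← JacobsonSpace.closure_inter_closedPoints (isClosed_ker f)]
      refine closure_minimal ?_ ?_
      · rintro x ⟨hx, hxc⟩
        obtain ⟨a, rfl⟩ := AVRigidLib.exists_pt (mem_closedPoints_iff.1 hxc)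
        exact ⟨a, (pt_mem_ker_iff f a).1 hx, rfl⟩
      · rw [← Set.biUnion_of_singleton (pt '' {a : 𝟙_ (Over (Spec (CommRingCat.of k))) ⟶ A | a ≫ f = 1})]
        refine hS.isClosed_biUnion fun x hx => ?_
        obtain ⟨a, -, rfl⟩ := hx
        exact AVRigidLib.isClosed_pt a
    exact hinf (hS.subset hsub)
  refine ⟨hfin, ⟨fun y => ?_⟩⟩
  have hinf : (Set.range fun a : 𝟙_ (Over (Spec (CommRingCat.of k))) ⟶ A => a ≫ f).Infinite := by
    intro hfinr
    have hall : (Set.univ : Set (𝟙_ (Over (Spec (CommRingCat.of k))) ⟶ A)).Finite := by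
      haveI : Finite (Set.range fun a : 𝟙_ (Over (Spec (CommRingCat.of k))) ⟶ A => a ≫ f) := hfinr.to_subtype
      rw [← Set.preimage_univ (f := fun a : 𝟙_ (Over (Spec (CommRingCat.of k))) ⟶ A => a ≫ f),
        ← Set.preimage_inter_range, Set.univ_inter]
      refine hfinr.preimage' fun b ⟨a, ha⟩ => ?_
      refine (hker.image (fun c => c * a)).subset fun c (hc : c ≫ f = b) => ⟨c * a⁻¹, ?_, inv_mul_cancel_right c a⟩
      show (c * a⁻¹) ≫ f = 1
      rw [MonObj.mul_comp, GrpObj.inv_comp, hc, ← ha, mul_inv_cancel]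
    haveI : JacobsonSpace A.left := LocallyOfFiniteType.jacobsonSpace A.hom
    have hd : (closedPoints A.left).Finite := (hall.image pt).subset fun x hx => by
      obtain ⟨a, rfl⟩ := AVRigidLib.exists_pt (mem_closedPoints_iff.1 hx)
      exact ⟨a, trivial, rfl⟩
    haveI : Finite A.left := Set.finite_univ_iff.1 <| hd.subset <| by
      rw [← closure_closedPoints]
      refine closure_minimal subset_rfl ?_
      rw [← Set.biUnion_of_singleton (closedPoints A.left)]
      exact hd.isClosed_biUnion fun x hx => mem_closedPoints_iff.1 hx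
    have hdisc : DiscreteTopology A.left := inferInstance
    haveI : Subsingleton A.left := ⟨fun x y =>
      (specializes_iff_eq.1 ((genericPoint_spec A.left).specializes trivial)).symm.trans
        (specializes_iff_eq.1 ((genericPoint_spec A.left).specializes trivial))⟩
    refine hf (hom_ext_of_dense f 1 {1} (fun x => subset_closure ⟨1, rfl, Subsingleton.elim _ _⟩) ?_)
    intro a ha
    rw [Set.mem_singleton_iff] at ha
    rw [ha, MonObj.one_comp, MonObj.comp_one]
  obtain ⟨C, _, j, hj, hjc, hp, hg, hd, hr⟩ := exists_subAV_of_infinite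
    (Set.range fun a : 𝟙_ (Over (Spec (CommRingCat.of k))) ⟶ A => a ≫ f)
    ⟨1, MonObj.one_comp f⟩
    (by rintro _ ⟨a, rfl⟩ _ ⟨b, rfl⟩; exact ⟨a * b, MonObj.mul_comp a b f⟩)
    (by rintro _ ⟨a, rfl⟩; exact ⟨a⁻¹, GrpObj.inv_comp a f⟩) hinf
  haveI := (hB C hp hg j hjc).resolve_right hd
  haveI : IsIso j.left := inferInstanceAs (IsIso ((Over.forget _).map j))
  have hy : y ∈ Set.range f.left := closure_minimal (by rintro _ ⟨_, ⟨a, rfl⟩, rfl⟩; exact ⟨pt a, rfl⟩)
    f.left.isClosedMap.isClosed_range (hr ((Scheme.homeoOfIso (asIso j.left)).surjective y))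
  exact hy

end AVAmpleLib

end
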