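import Groth.Agent.AVAmpleLib.GrDense
import Groth.Agent.AVAmpleLib.Dense
import Groth.Agent.AVAmpleLib.BcTate
import Groth.Agent.AVAmpleLib.SubAV
import Mathlib.AlgebraicGeometry.Morphisms.UniversallyOpen

/-!
Abelian subvarieties over the ground field inside closed subsets whose geometric points form a subgroup.
-/

set_option autoImplicit false
set_option linter.style.haveILetI false
set_option backward.isDefEq.respectTransparency false
set_option maxHeartbeats 1000000

noncomputable section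

universe u

open CategoryTheory CategoryTheory.Limits MonoidalCategory CartesianMonoidalCategory MonObj AlgebraicGeometry TopologicalSpace
open Groth.Agent

namespace AVAmpleLib

variable {k : Type u} [Field k] {Ω : Type u} [Field Ω] [Algebra k Ω]

local instance grpBc' (Z : Over (Spec (CommRingCat.of k))) [GrpObj Z] : GrpObj ((bcF Ω).obj Z) := Functor.grpObjObj


/-- The point of the underlying space under a point with values in an extension field. -/
def imgPt {X : Over (Spec (CommRingCat.of k))} (a : SGA7.pt (K := k) Ω ⟶ X) : X.left :=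
  a.left (IsLocalRing.closedPoint Ω)

theorem imgPt_comp {X Y : Over (Spec (CommRingCat.of k))} (a : SGA7.pt (K := k) Ω ⟶ X) (f : X ⟶ Y) :
    imgPt (a ≫ f) = f.left (imgPt a) := rfl

theorem fst_bcPt {X : Over (Spec (CommRingCat.of k))} (a : SGA7.pt (K := k) Ω ⟶ X) :
    pullback.fst X.hom (Spec.map (CommRingCat.ofHom (algebraMap k Ω))) (pt (bcPt Ω a)) = imgPt a := by
  show ((bcPt Ω a).left ≫ pullback.fst X.hom (Spec.map (CommRingCat.ofHom (algebraMap k Ω)))) _ = _
  rw [bcPt_left, pullback.lift_fst]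
  rfl

/-- A point whose image lies in a closed subscheme factors through it. -/
theorem exists_factor {X Y : Over (Spec (CommRingCat.of k))} (j : Y ⟶ X) [IsClosedImmersion j.left]
    (a : SGA7.pt (K := k) Ω ⟶ X) (h : imgPt a ∈ Set.range j.left) : ∃ b : SGA7.pt (K := k) Ω ⟶ Y, b ≫ j = a := by
  haveI : IsReduced (SGA7.pt (K := k) Ω).left := inferInstanceAs (IsReduced (Spec (CommRingCat.of Ω)))
  obtain ⟨l, hl⟩ := exists_lift_of_reduced j.left a.left (by
    rintro _ ⟨z, rfl⟩
    rw [Subsingleton.elim (α := PrimeSpectrum Ω) z (IsLocalRing.closedPoint Ω)]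
    exact h)
  refine ⟨Over.homMk l ?_, Over.OverMorphism.ext hl⟩
  rw [← Over.w a, ← hl, Category.assoc, Over.w j]

variable [IsAlgClosed Ω]

theorem exists_imgPt {X : Over (Spec (CommRingCat.of k))} [LocallyOfFiniteType X.hom] {x : X.left}
    (hx : IsClosed ({x} : Set X.left)) : ∃ a : SGA7.pt (K := k) Ω ⟶ X, imgPt a = x := by
  let p := pullback.fst X.hom (Spec.map (CommRingCat.ofHom (algebraMap k Ω)))
  haveI : LocallyOfFiniteType ((bcF Ω).obj X).hom := inferInstanceAs (LocallyOfFiniteType (pullback.snd X.hom _))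
  haveI : JacobsonSpace ((bcF Ω).obj X).left := LocallyOfFiniteType.jacobsonSpace ((bcF Ω).obj X).hom
  haveI : Surjective (Spec.map (CommRingCat.ofHom (algebraMap k Ω))) :=
    ⟨fun y => ⟨Classical.arbitrary (PrimeSpectrum Ω), Subsingleton.elim (α := PrimeSpectrum k) _ _⟩⟩
  haveI : Surjective p := MorphismProperty.pullback_fst _ _ inferInstance
  obtain ⟨z, hz, hzc⟩ := nonempty_inter_closedPoints (X := ((bcF Ω).obj X).left)
    (Z := p ⁻¹' {x}) ((Set.singleton_nonempty x).preimage p.surjective) (hx.preimage p.continuous).isLocallyClosed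
  let c : 𝟙_ (Over (Spec (CommRingCat.of Ω))) ⟶ (bcF Ω).obj X :=
    Over.homMk (pointOfClosedPoint ((bcF Ω).obj X).hom z hzc) (pointOfClosedPoint_comp _ _ _)
  have hc : pt c = z := pointOfClosedPoint_apply ((bcF Ω).obj X).hom z hzc _
  obtain ⟨a, ha⟩ := (bcPt_bijective Ω).2 c
  rw [← ha] at hc
  exact ⟨a, by rw [← fst_bcPt, hc]; exact hz⟩

theorem range_subset_of_imgPts {X Z : Over (Spec (CommRingCat.of k))} [LocallyOfFiniteType Z.hom] (h : Z ⟶ X)
    {C : Set X.left} (hC : IsClosed C) (hp : ∀ z : SGA7.pt (K := k) Ω ⟶ Z, imgPt (z ≫ h) ∈ C) :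
    Set.range h.left ⊆ C := by
  haveI : JacobsonSpace Z.left := LocallyOfFiniteType.jacobsonSpace Z.hom
  rintro _ ⟨x, rfl⟩
  suffices h.left ⁻¹' C = Set.univ from this.ge (Set.mem_univ x)
  rw [← (hC.preimage h.left.continuous).closure_eq, ← dense_iff_closure_eq]
  refine Dense.mono (fun y hy => ?_) (dense_iff_closure_eq.mpr (closure_closedPoints (X := Z.left)))
  obtain ⟨a, rfl⟩ := exists_imgPt (Ω := Ω) (mem_closedPoints_iff.1 hy)
  exact hp a

variable {A : Over (Spec (CommRingCat.of k))} [GrpObj A] [IsProper A.hom] [GeometricallyIntegral A.hom]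

theorem imgPt_eq_unit_iff {X : Over (Spec (CommRingCat.of k))} [GrpObj X] [IsSeparated X.hom] (a : SGA7.pt (K := k) Ω ⟶ X) :
    imgPt a ∈ Set.range (η[X] : 𝟙_ (Over (Spec (CommRingCat.of k))) ⟶ X).left ↔ a = 1 := by
  haveI : IsClosedImmersion (η[X] : 𝟙_ (Over (Spec (CommRingCat.of k))) ⟶ X).left :=
    isClosedImmersion_of_comp_eq_id X.hom _ (Over.w _)
  constructor
  · intro h
    obtain ⟨b, hb⟩ := exists_factor η[X] a h
    rw [← hb, Hom.one_def, toUnit_unique b (toUnit _)]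
  · rintro rfl
    exact ⟨_, by rw [Hom.one_def]; rfl⟩

/-- An abelian subvariety over the ground field, of finite index in a closed set whose geometric points form a group. -/
theorem exists_torsClosure (D : Set A.left) (hD : IsClosed D) (h1 : imgPt (1 : SGA7.pt (K := k) Ω ⟶ A) ∈ D)
    (hmul : ∀ a b : SGA7.pt (K := k) Ω ⟶ A, imgPt a ∈ D → imgPt b ∈ D → imgPt (a * b) ∈ D)
    (hinv : ∀ a : SGA7.pt (K := k) Ω ⟶ A, imgPt a ∈ D → imgPt a⁻¹ ∈ D) :
    ∃ (C : Over (Spec (CommRingCat.of k))) (_ : GrpObj C) (j : C ⟶ A), IsMonHom j ∧ IsClosedImmersion j.left ∧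
      IsProper C.hom ∧ GeometricallyIntegral C.hom ∧ (∀ c : SGA7.pt (K := k) Ω ⟶ C, imgPt (c ≫ j) ∈ D) ∧
      ∃ F : Set (SGA7.pt (K := k) Ω ⟶ A), F.Finite ∧ ∀ a, imgPt a ∈ D →
        ∃ f ∈ F, ∃ c : SGA7.pt (K := k) Ω ⟶ C, a = f * (c ≫ j) := by
  haveI hred1 : IsReduced (𝟙_ (Over (Spec (CommRingCat.of Ω)))).left :=
    inferInstanceAs (IsReduced (Spec (CommRingCat.of Ω)))
  obtain ⟨l, hl', hlk⟩ := exists_prime_ne_zero k
  haveI : IsCommMonObj A := CubeConsLib.isCommMonObj_field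
  haveI : IsProper ((bcF Ω).obj A).hom := inferInstanceAs (IsProper (pullback.snd A.hom _))
  haveI : GeometricallyIntegral ((bcF Ω).obj A).hom := inferInstanceAs (GeometricallyIntegral (pullback.snd A.hom _))
  haveI : IsCommMonObj ((bcF Ω).obj A) := CubeConsLib.isCommMonObj_field
  haveI : LocallyOfFinitePresentation A.hom := LocallyOfFinitePresentation.iff_locallyOfFiniteType.2 inferInstance
  let A' := (bcF Ω).obj A
  let p : A'.left ⟶ A.left := pullback.fst A.hom (Spec.map (CommRingCat.ofHom (algebraMap k Ω)))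
  have hlΩ : (l : Ω) ≠ 0 := by
    intro h
    exact hlk ((algebraMap k Ω).injective (by rw [map_natCast, map_zero]; exact h))
  let e : (SGA7.pt (K := k) Ω ⟶ A) ≃* (𝟙_ (Over (Spec (CommRingCat.of Ω))) ⟶ A') :=
    MulEquiv.mk' (Equiv.ofBijective _ (bcPt_bijective Ω)) (bcPt_mul Ω)
  have himg : ∀ a, imgPt a = p (pt (e a)) := fun a => (fst_bcPt a).symm
  -- the subgroup over the algebraically closed field
  let H : Set (𝟙_ (Over (Spec (CommRingCat.of Ω))) ⟶ A') := {b | p (pt b) ∈ D}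
  have hH : ∀ a, e a ∈ H ↔ imgPt a ∈ D := fun a => by rw [himg]; rfl
  have hH' : ∀ b, b ∈ H ↔ imgPt (e.symm b) ∈ D := fun b => by rw [← hH, e.apply_symm_apply]
  obtain ⟨B', _, i', hi', hi'cl, hB'red, hB'lft, hB'r⟩ := exists_reduced_subgroup H
    (by rw [hH', map_one]; exact h1)
    (fun a ha b hb => by rw [hH', map_mul]; exact hmul _ _ ((hH' a).1 ha) ((hH' b).1 hb))
    (fun a ha => by rw [hH', map_inv]; exact hinv _ ((hH' a).1 ha))
  obtain ⟨C', _, j', hj', hj'cl, hj'fl, hj'r, hC'irr, hC'c⟩ := GrpField.exists_identity_component (G := B')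
  haveI : IsProper B'.hom := by rw [← Over.w i']; infer_instance
  haveI : IsLocallyNoetherian B'.left := LocallyOfFiniteType.isLocallyNoetherian B'.hom
  haveI : LocallyOfFinitePresentation j'.left := LocallyOfFinitePresentation.iff_locallyOfFiniteType.2 inferInstance
  haveI : IsOpenImmersion j'.left := IsOpenImmersion.of_flat_of_mono j'.left
  haveI : IsReduced C'.left := isReduced_of_isOpenImmersion j'.left
  haveI : IsProper C'.hom := by rw [← Over.w j']; infer_instance
  haveI : GeometricallyReduced C'.hom := gr_of_isReduced C'.hom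
  haveI : GeometricallyIntegral C'.hom :=
    GeometricallyIntegral.of_geometricallyReduced_of_geometricallyIrreducible C'.hom
  haveI : IsCommMonObj C' := CubeConsLib.isCommMonObj_field
  haveI hl : Fact l.Prime := hl'
  -- the torsion points
  let S : Set (SGA7.pt (K := k) Ω ⟶ A) := {a | imgPt a ∈ D ∧ ∃ m, a ^ (l ^ m) = 1}
  let C₁ : Set A.left := closure (imgPt '' S)
  have hC₁ : IsClosed C₁ := isClosed_closure
  have htors : ∀ (m : ℕ) (a : SGA7.pt (K := k) Ω ⟶ A), a ^ m = 1 ↔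
      (𝟙 A ^ m).left (imgPt a) ∈ Set.range (η[A] : 𝟙_ (Over (Spec (CommRingCat.of k))) ⟶ A).left := fun m a => by
    rw [← imgPt_comp, imgPt_eq_unit_iff, MonObj.comp_pow, Category.comp_id]
  have hSimg : ∀ a b : SGA7.pt (K := k) Ω ⟶ A, imgPt a = imgPt b → a ∈ S → b ∈ S := by
    rintro a b he ⟨ha, m, hm⟩
    exact ⟨he ▸ ha, m, (htors _ b).2 (he ▸ (htors _ a).1 hm)⟩
  have hopen : IsOpenMap p := by
    haveI : UniversallyOpen (Spec.map (CommRingCat.ofHom (algebraMap k Ω))) := inferInstance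
    exact p.isOpenMap
  haveI : JacobsonSpace A'.left := LocallyOfFiniteType.jacobsonSpace A'.hom
  have hclosedImg : ∀ a ∈ S, IsClosed ({imgPt a} : Set A.left) := by
    rintro a ⟨-, m, hm⟩
    haveI : IsFinite (𝟙 A ^ (l ^ m)).left := by
      rw [← zpow_natCast]
      exact isFinite_zpow A (n := ((l ^ m : ℕ) : ℤ)) (by exact_mod_cast (pow_pos (Fact.out : l.Prime).pos m).ne')
    haveI : IsClosedImmersion (η[A] : 𝟙_ (Over (Spec (CommRingCat.of k))) ⟶ A).left :=
      isClosedImmersion_of_comp_eq_id A.hom _ (Over.w _)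
    haveI : JacobsonSpace A.left := LocallyOfFiniteType.jacobsonSpace A.hom
    let f := (𝟙 A ^ (l ^ m)).left
    let F := f ⁻¹' Set.range (η[A] : 𝟙_ (Over (Spec (CommRingCat.of k))) ⟶ A).left
    have hFc : IsClosed F := (Scheme.Hom.isClosedEmbedding _).isClosed_range.preimage f.continuous
    haveI : Subsingleton (𝟙_ (Over (Spec (CommRingCat.of k)))).left := inferInstanceAs (Subsingleton (PrimeSpectrum k))
    have hFfin : F.Finite := (Set.subsingleton_range _).finite.preimage' fun y _ => f.finite_preimage_singleton y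
    have hFsub : F ⊆ closedPoints A.left := by
      have h2 : F = F ∩ closedPoints A.left := subset_antisymm
        ((closure_inter_closedPoints hFc).symm.subset.trans (closure_minimal subset_rfl (by
          rw [← Set.biUnion_of_singleton (F ∩ closedPoints A.left)]
          exact (hFfin.inter_of_left _).isClosed_biUnion fun x hx => hx.2))) Set.inter_subset_left
      exact h2.subset.trans Set.inter_subset_right
    exact hFsub ((htors _ a).1 hm)
  have hpre : p ⁻¹' C₁ = closure (pt '' (e '' S)) := by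
    rw [hopen.preimage_closure_eq_closure_preimage p.continuous]
    refine subset_antisymm (closure_minimal ?_ isClosed_closure) (closure_mono ?_)
    · rintro z ⟨a, ha, hz⟩
      have hc : IsClosed (p ⁻¹' {imgPt a}) := (hclosedImg a ha).preimage p.continuous
      have hz' : z ∈ closure (p ⁻¹' {imgPt a} ∩ closedPoints A'.left) := by
        rw [closure_inter_closedPoints hc]
        exact hz.symm
      refine closure_mono ?_ hz'
      rintro w ⟨hw, hwc⟩
      obtain ⟨b, rfl⟩ := exists_pt_eq (A := A') w hwc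
      obtain ⟨b, rfl⟩ := e.surjective b
      exact ⟨_, ⟨b, hSimg a b (by rw [himg b]; exact hw.symm) ha, rfl⟩, rfl⟩
    · rintro _ ⟨_, ⟨a, ha, rfl⟩, rfl⟩
      exact ⟨a, ha, himg a⟩
  obtain ⟨B₁, _, i₁, hi₁, hi₁cl, hB₁red, hB₁lft, hB₁r⟩ := exists_reduced_subgroup (e '' S)
    ⟨1, ⟨h1, 0, one_pow _⟩, map_one e⟩
    (by
      rintro _ ⟨a, ⟨ha, m, hm⟩, rfl⟩ _ ⟨b, ⟨hb, n, hn⟩, rfl⟩
      refine ⟨a * b, ⟨hmul a b ha hb, m + n, ?_⟩, map_mul e a b⟩
      rw [mul_pow, pow_add, pow_mul, hm, one_pow, pow_mul', hn, one_pow, _root_.one_mul])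
    (by
      rintro _ ⟨a, ⟨ha, m, hm⟩, rfl⟩
      exact ⟨a⁻¹, ⟨hinv a ha, m, by rw [inv_pow, hm, inv_one]⟩, map_inv e a⟩)
  have hH₁ : ∀ a, imgPt a ∈ C₁ ↔ ∃ z, z ≫ i₁ = e a := fun a => by
    rw [himg, ← Set.mem_preimage, hpre, ← hB₁r]
    constructor
    · rintro ⟨z, hz⟩
      obtain ⟨l', hl'⟩ := exists_lift_of_reduced (i₁.left) (e a).left (by
        rintro _ ⟨w, rfl⟩
        rw [Subsingleton.elim (α := PrimeSpectrum Ω) w (IsLocalRing.closedPoint Ω)]
        exact ⟨z, hz⟩)
      refine ⟨Over.homMk l' ?_, Over.OverMorphism.ext hl'⟩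
      rw [← Over.w (e a), ← hl', Category.assoc, Over.w i₁]
    · rintro ⟨z, hz⟩
      exact ⟨pt z, by rw [← hz]; rfl⟩
  have hmul₁ : ∀ a b, imgPt a ∈ C₁ → imgPt b ∈ C₁ → imgPt (a * b) ∈ C₁ := fun a b ha hb => by
    obtain ⟨z, hz⟩ := (hH₁ a).1 ha
    obtain ⟨w, hw⟩ := (hH₁ b).1 hb
    exact (hH₁ _).2 ⟨z * w, by rw [MonObj.mul_comp, hz, hw, map_mul]⟩
  have hinv₁ : ∀ a, imgPt a ∈ C₁ → imgPt a⁻¹ ∈ C₁ := fun a ha => by
    obtain ⟨z, hz⟩ := (hH₁ a).1 ha
    exact (hH₁ _).2 ⟨z⁻¹, by rw [GrpObj.inv_comp, hz, map_inv]⟩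
  have hC₁D : C₁ ⊆ D := closure_minimal (by rintro _ ⟨a, ha, rfl⟩; exact ha.1) hD
  -- the reduced closed subscheme over the ground field
  let I := Scheme.IdealSheafData.vanishingIdeal (⟨C₁, hC₁⟩ : Closeds A.left)
  haveI : IsReduced I.subscheme := DevissLib.isReduced_vanishingIdeal' _
  let B : Over (Spec (CommRingCat.of k)) := Over.mk (I.subschemeι ≫ A.hom)
  let j₁ : B ⟶ A := Over.homMk I.subschemeι rfl
  haveI : IsClosedImmersion j₁.left := inferInstanceAs (IsClosedImmersion I.subschemeι)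
  haveI : IsReduced B.left := inferInstanceAs (IsReduced I.subscheme)
  haveI hBl : LocallyOfFiniteType B.hom := inferInstanceAs (LocallyOfFiniteType (I.subschemeι ≫ A.hom))
  have hr : Set.range j₁.left = C₁ := by
    show Set.range I.subschemeι = C₁
    rw [Scheme.IdealSheafData.range_subschemeι, Scheme.IdealSheafData.coe_support_vanishingIdeal]
    rfl
  -- geometrically reduced
  haveI : GeometricallyReduced B.hom := by
    let e₀ : Spec (CommRingCat.of k) ⟶ A.left := (η[A] : 𝟙_ (Over (Spec (CommRingCat.of k))) ⟶ A).left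
    haveI : IsClosedImmersion e₀ := isClosedImmersion_of_comp_eq_id A.hom e₀ (Over.w _)
    have hunit : ∀ m : ℕ, IsUnit (((l ^ m : ℕ) : ℤ) : Γ(Spec (CommRingCat.of k), ⊤)) := fun m => by
      have := (isUnit_iff_ne_zero.2 (pow_ne_zero m hlk)).map (Scheme.ΓSpecIso (CommRingCat.of k)).inv.hom
      simpa using this
    have het : ∀ m : ℕ, Etale (𝟙 A ^ (l ^ m)).left := fun m => by
      rw [← zpow_natCast]
      exact (AbSchLib.isFinite_etale_zpow A _ (hunit m)).2
    have he₀ : ∀ m : ℕ, pullback.fst (𝟙 A ^ (l ^ m)).left e₀ ≫ A.hom = pullback.snd (𝟙 A ^ (l ^ m)).left e₀ := fun m => by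
      rw [← Over.w (𝟙 A ^ (l ^ m)), ← Category.assoc, pullback.condition, Category.assoc,
        show e₀ ≫ A.hom = 𝟙 _ from Over.w (η[A] : 𝟙_ (Over (Spec (CommRingCat.of k))) ⟶ A), Category.comp_id]
    refine geometricallyReduced_of_dense B.hom
      (fun m : ℕ => pullback.fst j₁.left (pullback.fst (𝟙 A ^ (l ^ m)).left e₀)) (fun m => ?_) ?_
    · haveI := het m
      haveI : Etale (pullback.snd (𝟙 A ^ (l ^ m)).left e₀) := MorphismProperty.pullback_snd _ _ inferInstance
      rw [← Over.w j₁, pullback.condition_assoc, he₀]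
      exact MorphismProperty.comp_mem _ _ _ inferInstance inferInstance
    · rw [dense_iff_closure_eq]
      refine Set.eq_univ_of_forall fun x => ?_
      rw [j₁.left.isEmbedding.isInducing.closure_eq_preimage_closure_image, Set.mem_preimage]
      refine closure_mono ?_ (show j₁.left x ∈ C₁ from hr ▸ Set.mem_range_self x)
      rintro _ ⟨a, ha, rfl⟩
      obtain ⟨haD, m, hm⟩ := id ha
      obtain ⟨y, hy⟩ : imgPt a ∈ Set.range j₁.left := hr.symm ▸ subset_closure ⟨a, ha, rfl⟩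
      refine ⟨y, Set.mem_iUnion.2 ⟨m, ?_⟩, hy⟩
      rw [Scheme.Pullback.range_fst, Scheme.Pullback.range_fst, Set.mem_preimage, hy]
      exact (htors _ a).1 hm
  haveI : IsLocallyNoetherian B.left := LocallyOfFiniteType.isLocallyNoetherian B.hom
  haveI : IsReduced (B ⊗ B).left := inferInstanceAs (IsReduced (pullback B.hom B.hom))
  haveI : LocallyOfFiniteType (B ⊗ B).hom :=
    inferInstanceAs (LocallyOfFiniteType (pullback.fst B.hom B.hom ≫ B.hom))
  have hfac : ∀ (Z : Over (Spec (CommRingCat.of k))) (h : Z ⟶ A), IsReduced Z.left → LocallyOfFiniteType Z.hom →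
      (∀ z : SGA7.pt (K := k) Ω ⟶ Z, imgPt (z ≫ h) ∈ C₁) → ∃ l : Z ⟶ B, l ≫ j₁ = h := by
    intro Z h _ _ hz
    obtain ⟨l, hl⟩ := exists_lift_of_reduced j₁.left h.left (hr ▸ range_subset_of_imgPts h hC₁ hz)
    refine ⟨Over.homMk l ?_, Over.OverMorphism.ext hl⟩
    rw [← Over.w h, ← hl, Category.assoc, Over.w j₁]
  haveI : Mono j₁ := Over.mono_of_mono_left j₁
  have hjC : ∀ z : SGA7.pt (K := k) Ω ⟶ B, imgPt (z ≫ j₁) ∈ C₁ := fun z => hr ▸ ⟨_, rfl⟩
  have hone : imgPt (1 : SGA7.pt (K := k) Ω ⟶ A) ∈ C₁ := subset_closure ⟨1, ⟨h1, 0, one_pow _⟩, rfl⟩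
  obtain ⟨_, hj₁⟩ := Groth.Agent.SubDesc.exists_grpObj_of_mono j₁
    (hfac (B ⊗ B) _ inferInstance inferInstance fun z => by
      rw [MonObj.comp_mul, ← Category.assoc, ← Category.assoc]
      exact hmul₁ _ _ (hjC _) (hjC _))
    (hfac _ _ (inferInstanceAs (IsReduced (Spec (CommRingCat.of k))))
      (inferInstanceAs (LocallyOfFiniteType (𝟙 (Spec (CommRingCat.of k))))) fun z => by
      rw [MonObj.comp_one]; exact hone)
    (hfac B _ inferInstance inferInstance fun z => by rw [GrpObj.comp_inv]; exact hinv₁ _ (hjC z))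
  obtain ⟨C, _, j₀, hj₀, hj₀cl, hj₀fl, hj₀r, hCirr, hCc⟩ := GrpField.exists_identity_component (G := B)
  haveI : IsProper B.hom := by rw [← Over.w j₁]; infer_instance
  haveI : LocallyOfFinitePresentation j₀.left := LocallyOfFinitePresentation.iff_locallyOfFiniteType.2 inferInstance
  haveI : IsOpenImmersion j₀.left := IsOpenImmersion.of_flat_of_mono j₀.left
  haveI : GeometricallyReduced C.hom := by rw [← Over.w j₀]; exact GeomRedFieldLib.gr_comp B.hom j₀.left
  haveI : IsProper C.hom := by rw [← Over.w j₀]; infer_instance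
  haveI : GeometricallyIntegral C.hom :=
    GeometricallyIntegral.of_geometricallyReduced_of_geometricallyIrreducible C.hom
  haveI : IsClosedImmersion (j₀ ≫ j₁).left := by rw [Over.comp_left]; infer_instance
  refine ⟨C, inferInstance, j₀ ≫ j₁, inferInstance, inferInstance, inferInstance, inferInstance,
    fun c => hC₁D (hr ▸ ⟨_, rfl⟩), ?_⟩
  -- the identity component over the extension lands in `C`
  have hC'tors : ∀ x : C'.left, p ((j' ≫ i').left x) ∈ C₁ := by
    intro x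
    have hsub : pt '' torsPow C' l ⊆ (j' ≫ i').left ⁻¹' (p ⁻¹' C₁) := by
      rintro _ ⟨c, ⟨m, hm⟩, rfl⟩
      refine subset_closure ⟨e.symm (c ≫ j' ≫ i'), ⟨?_, m, ?_⟩, ?_⟩
      · rw [← hH']
        have hcl : IsClosed (p ⁻¹' D) := hD.preimage p.continuous
        refine (closure_minimal (Set.image_subset_iff.2 fun b hb => hb) hcl : closure (pt '' H) ⊆ p ⁻¹' D) ?_
        rw [← hB'r]
        exact ⟨pt (c ≫ j'), rfl⟩
      · rw [← map_pow, ← MonObj.pow_comp, hm, MonObj.one_comp, map_one]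
      · rw [himg, e.apply_symm_apply]
        rfl
    have hx : x ∈ closure (pt '' torsPow C' l) := by rw [dense_torsPow l hlΩ]; trivial
    exact closure_minimal hsub ((hC₁.preimage p.continuous).preimage (j' ≫ i').left.continuous) hx
  haveI : IrreducibleSpace C'.left :=
    haveI := GeometricallyIntegral.isIntegral_of_subsingleton C'.hom
    inferInstance
  have hC'C : ∀ c' : 𝟙_ (Over (Spec (CommRingCat.of Ω))) ⟶ C',
      ∃ c : SGA7.pt (K := k) Ω ⟶ C, e (c ≫ j₀ ≫ j₁) = c' ≫ j' ≫ i' := by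
    intro c'
    let g : C'.left → B.left := fun x => Classical.choose (show p ((j' ≫ i').left x) ∈ Set.range j₁.left from hr ▸ hC'tors x)
    have hg : ∀ x, j₁.left (g x) = p ((j' ≫ i').left x) := fun x =>
      Classical.choose_spec (show p ((j' ≫ i').left x) ∈ Set.range j₁.left from hr ▸ hC'tors x)
    have hgc : Continuous g := by
      rw [j₁.left.isEmbedding.isInducing.continuous_iff]
      exact (p.continuous.comp (j' ≫ i').left.continuous).congr fun x => (hg x).symm
    have hg1 : g (pt (1 : 𝟙_ (Over (Spec (CommRingCat.of Ω))) ⟶ C')) = GrpField.unitPt B := by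
      apply j₁.left.isEmbedding.injective
      rw [hg]
      show p (pt ((1 : 𝟙_ (Over (Spec (CommRingCat.of Ω))) ⟶ C') ≫ j' ≫ i')) = _
      rw [MonObj.one_comp, ← map_one e, ← himg]
      show (1 : SGA7.pt (K := k) Ω ⟶ A).left _ = ((η[B] : 𝟙_ (Over (Spec (CommRingCat.of k))) ⟶ B) ≫ j₁).left _
      rw [Hom.one_def, IsMonHom.one_hom]
      exact congrArg η[A].left (Subsingleton.elim (α := PrimeSpectrum k) _ _)
    have hconn : _root_.IsPreconnected (Set.range g) := isPreconnected_range hgc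
    have hsub : Set.range g ⊆ Set.range j₀.left := by
      rw [hj₀r, ← GrpField.connectedComponent_unit]
      exact hconn.subset_connectedComponent ⟨_, hg1⟩
    obtain ⟨x, hx⟩ := hsub ⟨pt c', rfl⟩
    obtain ⟨c, hc⟩ := exists_factor (j₀ ≫ j₁) (e.symm (c' ≫ j' ≫ i')) (by
      refine ⟨x, ?_⟩
      rw [himg, e.apply_symm_apply, Over.comp_left, Scheme.Hom.comp_apply, hx, hg]
      rfl)
    exact ⟨c, by rw [hc, e.apply_symm_apply]⟩
  haveI : CompactSpace B'.left := (quasiCompact_iff_compactSpace (f := B'.hom)).1 inferInstance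
  haveI : JacobsonSpace B'.left := LocallyOfFiniteType.jacobsonSpace B'.hom
  let U : (𝟙_ (Over (Spec (CommRingCat.of Ω))) ⟶ B') → Set B'.left := fun b => (tL b⁻¹).left ⁻¹' Set.range j'.left
  have hU : ∀ b, IsOpen (U b) := fun b => j'.left.isOpenEmbedding.isOpen_range.preimage (tL b⁻¹).left.continuous
  have hone' : pt (1 : 𝟙_ (Over (Spec (CommRingCat.of Ω))) ⟶ B') ∈ Set.range j'.left :=
    ⟨pt (1 : 𝟙_ (Over (Spec (CommRingCat.of Ω))) ⟶ C'), by
      show ((1 : 𝟙_ (Over (Spec (CommRingCat.of Ω))) ⟶ C') ≫ j').left (IsLocalRing.closedPoint Ω) =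
        (1 : 𝟙_ (Over (Spec (CommRingCat.of Ω))) ⟶ B').left (IsLocalRing.closedPoint Ω)
      rw [MonObj.one_comp]⟩
  have hcover : (Set.univ : Set B'.left) ⊆ ⋃ b, U b := by
    intro x _
    by_contra hx
    have hZ : IsClosed (⋃ b, U b)ᶜ := (isOpen_iUnion hU).isClosed_compl
    obtain ⟨y, hy, hyc⟩ := nonempty_inter_closedPoints ⟨x, hx⟩ hZ.isLocallyClosed
    obtain ⟨b, rfl⟩ := exists_pt_eq (A := B') y hyc
    refine hy (Set.mem_iUnion.2 ⟨b, ?_⟩)
    show (tL b⁻¹).left (pt b) ∈ Set.range j'.left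
    rw [← pt_comp, point_tL, inv_mul_cancel]
    exact hone'
  obtain ⟨t, ht⟩ := isCompact_univ.elim_finite_subcover U hU hcover
  refine ⟨(fun b => e.symm (b ≫ i')) '' ↑t, t.finite_toSet.image _, fun a ha => ?_⟩
  obtain ⟨z, hz⟩ : pt (e a) ∈ Set.range i'.left := by
    rw [hB'r]
    exact subset_closure ⟨_, (hH a).2 ha, rfl⟩
  obtain ⟨b₀, hb₀⟩ : ∃ b₀ : 𝟙_ (Over (Spec (CommRingCat.of Ω))) ⟶ B', b₀ ≫ i' = e a := by
    obtain ⟨l', hl'⟩ := exists_lift_of_reduced i'.left (e a).left (by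
      rintro _ ⟨w, rfl⟩
      rw [Subsingleton.elim (α := PrimeSpectrum Ω) w (IsLocalRing.closedPoint Ω)]
      exact ⟨z, hz⟩)
    exact ⟨Over.homMk l' (by rw [← Over.w (e a), ← hl', Category.assoc, Over.w i']), Over.OverMorphism.ext hl'⟩
  obtain ⟨b, hbt, hb⟩ := Set.mem_iUnion₂.1 (ht (Set.mem_univ (pt b₀)))
  obtain ⟨w, hw⟩ := hb
  obtain ⟨c', hc'⟩ : ∃ c' : 𝟙_ (Over (Spec (CommRingCat.of Ω))) ⟶ C', c' ≫ j' = b⁻¹ * b₀ := by
    obtain ⟨l', hl'⟩ := exists_lift_of_reduced j'.left (b⁻¹ * b₀).left (by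
      rintro _ ⟨v, rfl⟩
      rw [Subsingleton.elim (α := PrimeSpectrum Ω) v (IsLocalRing.closedPoint Ω), ← point_tL]
      exact ⟨w, hw⟩)
    exact ⟨Over.homMk l' (by rw [← Over.w (b⁻¹ * b₀), ← hl', Category.assoc, Over.w j']), Over.OverMorphism.ext hl'⟩
  obtain ⟨c, hc⟩ := hC'C c'
  refine ⟨_, ⟨b, hbt, rfl⟩, c, e.injective ?_⟩
  rw [map_mul, e.apply_symm_apply, hc, ← Category.assoc, hc', ← MonObj.mul_comp, mul_inv_cancel_left, hb₀]

end AVAmpleLib

end
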