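import Groth.Agent.AVAmpleLib.Torsion
import Groth.Agent.TorsAlgLib.Basic

/-!
The structure of the torsion of an abelian variety over an algebraically closed field.
-/

set_option autoImplicit false
set_option linter.style.haveILetI false
set_option maxHeartbeats 1000000

noncomputable section

universe u

open CategoryTheory CategoryTheory.Limits MonoidalCategory CartesianMonoidalCategory MonObj AlgebraicGeometry TopologicalSpace
open TorsAlgLib (tb Tower)

namespace AVAmpleLib

variable {k : Type u} [Field k] [IsAlgClosed k] (A : Over (Spec (CommRingCat.of k))) [GrpObj A] [IsCommMonObj A]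
  [IsProper A.hom] [GeometricallyIntegral A.hom]

/-- The points, written additively. -/
abbrev Pts : Type u := Additive (𝟙_ (Over (Spec (CommRingCat.of k))) ⟶ A)

/-- `A[n](k)` as an additive group. -/
def tbEquiv (n : ℕ) : tb (Pts A) n ≃ tors A n :=
  Equiv.subtypeEquiv Additive.toMul fun _ => Iff.rfl

theorem natCard_tb (n : ℕ) : Nat.card (tb (Pts A) n) = Nat.card (tors A n) := Nat.card_congr (tbEquiv A n)

theorem pts_divisible {n : ℕ} (hn : 0 < n) (x : Pts A) : ∃ y : Pts A, n • y = x := by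
  obtain ⟨b, hb⟩ := exists_pow_eq A hn x.toMul
  exact ⟨Additive.ofMul b, hb⟩

theorem exists_tower (l : ℕ) [Fact l.Prime] :
    ∃ r, Nonempty (Tower (Pts A) l r) ∧ Nat.card (tors A l) = l ^ r := by
  have hl := (Fact.out : l.Prime).pos
  haveI := finite_tors A hl
  haveI : Finite (tb (Pts A) l) := Finite.of_equiv _ (tbEquiv A l).symm
  obtain ⟨r, hT, hc⟩ := Tower.exists_tower (M := Pts A) (l := l) (pts_divisible A hl)
  exact ⟨r, hT, (natCard_tb A l).symm.trans hc⟩

theorem nonempty_tower {g : ℕ} (hg : topologicalKrullDim A.left = (g : ℕ)) (l : ℕ) [Fact l.Prime] (hl : (l : k) ≠ 0) :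
    Nonempty (Tower (Pts A) l (2 * g)) := by
  obtain ⟨r, hT, hc⟩ := exists_tower A l
  rw [natCard_tors A hg l hl] at hc
  rwa [← Nat.pow_right_injective (Fact.out : l.Prime).two_le hc] at hT

theorem nonempty_mulEquiv {g : ℕ} (hg : topologicalKrullDim A.left = (g : ℕ)) (n : ℕ) (hn : (n : k) ≠ 0) :
    Nonempty (tors A n ≃* Multiplicative (Fin (2 * g) → ZMod n)) := by
  have hn0 : 0 < n := Nat.pos_of_ne_zero fun h => hn (by rw [h, Nat.cast_zero])
  obtain ⟨e⟩ := TorsAlgLib.nonempty_equiv_zmod_pow (M := Pts A) (fun p x hp => pts_divisible A hp.pos x) n hn0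
    (r := 2 * g) fun p hp hd => (natCard_tb A p).trans (natCard_tors A hg p fun h => hn (by
      obtain ⟨c, rfl⟩ := hd
      rw [Nat.cast_mul, h, zero_mul]))
  exact ⟨{ toFun := fun a => Multiplicative.ofAdd (e ⟨Additive.ofMul a.1, a.2⟩)
           invFun := fun v => ⟨(e.symm v.toAdd).1.toMul, (e.symm v.toAdd).2⟩
           left_inv := fun a => Subtype.ext (congrArg (fun z : tb (Pts A) n => z.1.toMul) (e.symm_apply_apply _))
           right_inv := fun v => congrArg Multiplicative.ofAdd (e.apply_symm_apply v.toAdd)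
           map_mul' := fun a b => congrArg Multiplicative.ofAdd (e.map_add ⟨_, a.2⟩ ⟨_, b.2⟩) }⟩

theorem exists_pRank {g : ℕ} (hg : topologicalKrullDim A.left = (g : ℕ)) (p : ℕ) [Fact p.Prime] [CharP k p] :
    ∃ i, i ≤ g ∧ Nonempty (Tower (Pts A) p i) := by
  obtain ⟨i, hT, hc⟩ := exists_tower A p
  refine ⟨i, ?_, hT⟩
  have := hc ▸ natCard_tors_prime_le A hg p
  exact (Nat.pow_le_pow_iff_right (Fact.out : p.Prime).one_lt).mp this

theorem natCard_tors_dvd {g : ℕ} (hg : topologicalKrullDim A.left = (g : ℕ)) (hg0 : 0 < g) (n : ℕ) (hn : 0 < n) :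
    Nat.card (tors A n) ∣ n ^ (2 * g) ∧ ((n : k) = 0 → Nat.card (tors A n) ≠ n ^ (2 * g)) := by
  induction n using Nat.recOnPrimeCoprime with
  | zero => exact absurd hn (lt_irrefl 0)
  | prime_pow p e hp =>
    by_cases hpe : ((p ^ e : ℕ) : k) = 0
    · haveI := Fact.mk hp
      have he : 0 < e := Nat.pos_of_ne_zero fun h => by simp [h] at hpe
      have hp0 : (p : k) = 0 := eq_zero_of_pow_eq_zero (n := e) (by exact_mod_cast hpe)
      haveI : CharP k p := (CharP.charP_iff_prime_eq_zero hp).mpr hp0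
      obtain ⟨i, hi, ⟨T⟩⟩ := exists_pRank A hg p
      rw [← natCard_tb, T.natCard_eq hp.ne_zero, ← pow_mul]
      have hlt : e * i < e * (2 * g) := Nat.mul_lt_mul_of_pos_left (by omega) he
      exact ⟨pow_dvd_pow _ hlt.le, fun _ h => hlt.ne (Nat.pow_right_injective hp.two_le h)⟩
    · rw [natCard_tors A hg _ hpe]
      exact ⟨dvd_rfl, fun h => absurd h hpe⟩
  | coprime a b ha hb hab iha ihb =>
    obtain ⟨ha', ha''⟩ := iha (by omega)
    obtain ⟨hb', hb''⟩ := ihb (by omega)
    have hc : Nat.card (tors A (a * b)) = Nat.card (tors A a) * Nat.card (tors A b) := by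
      rw [← natCard_tb, ← natCard_tb, ← natCard_tb, ← Nat.card_prod]
      exact (Nat.card_congr (TorsAlgLib.tbMulEquiv hab).toEquiv).symm
    rw [hc, mul_pow]
    refine ⟨mul_dvd_mul ha' hb', fun h0 h => ?_⟩
    have hapos : 0 < a ^ (2 * g) := pow_pos (by omega) _
    have hbpos : 0 < b ^ (2 * g) := pow_pos (by omega) _
    have hla := Nat.le_of_dvd hapos ha'
    have hlb := Nat.le_of_dvd hbpos hb'
    rcases mul_eq_zero.mp (show (a : k) * (b : k) = 0 by exact_mod_cast h0) with hz | hz
    · have := Nat.mul_lt_mul_of_lt_of_le (lt_of_le_of_ne hla (ha'' hz)) hlb hbpos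
      omega
    · have := Nat.mul_lt_mul_of_le_of_lt hla (lt_of_le_of_ne hlb (hb'' hz)) hapos
      omega

end AVAmpleLib

end
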