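import Groth.Agent.NormFin.CurveCriteria
import Groth.Agent.FibDimLib.Formula
import Groth.Agent.FibDimLib.ClosureDim

/-!
Curves through a closed point avoiding a closed subset.
-/

set_option autoImplicit false
set_option linter.style.haveILetI false
set_option maxHeartbeats 1000000

noncomputable section

universe u

open CategoryTheory AlgebraicGeometry TopologicalSpace

namespace AVAmpleLib

/-- A quotient of an affine domain by a prime immediately below a maximal ideal is one-dimensional. -/
theorem dim_quotient_eq_one {k R : Type u} [Field k] [CommRing R] [Algebra k R] [Algebra.FiniteType k R]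
    (q z : Ideal R) [q.IsPrime] [z.IsMaximal] (hqz : q < z)
    (himm : ∀ P : Ideal R, P.IsPrime → q ≤ P → P ≤ z → P = q ∨ P = z) : ringKrullDim (R ⧸ q) = 1 := by
  haveI : IsNoetherianRing R := Algebra.FiniteType.isNoetherianRing k R
  let m : Ideal (R ⧸ q) := z.map (Ideal.Quotient.mk q)
  haveI hm : m.IsMaximal := Ideal.IsMaximal.map_of_surjective_of_ker_le Ideal.Quotient.mk_surjective (by
    rw [Ideal.mk_ker]; exact hqz.le)
  have hmc : m.comap (Ideal.Quotient.mk q) = z := by
    rw [Ideal.comap_map_of_surjective' _ Ideal.Quotient.mk_surjective, Ideal.mk_ker, sup_eq_left.2 hqz.le]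
  have h1 : m.height = 1 := by
    refine le_antisymm ((Ideal.height_le_iff (n := 1)).2 fun P hP hPm => ?_) ?_
    · haveI := hP
      have hb : P = ⊥ := by
        rcases himm (P.comap (Ideal.Quotient.mk q)) inferInstance
          (by
            conv_lhs => rw [← Ideal.mk_ker (I := q)]
            exact Ideal.comap_mono bot_le)
          (hmc ▸ Ideal.comap_mono hPm.le) with e | e
        · refine (Ideal.comap_injective_of_surjective _ Ideal.Quotient.mk_surjective) (e.trans ?_)
          rw [← RingHom.ker_eq_comap_bot, Ideal.mk_ker]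
        · exact absurd (Ideal.comap_injective_of_surjective _ Ideal.Quotient.mk_surjective (e.trans hmc.symm)) hPm.ne
      rw [hb, Ideal.height_bot]
      exact_mod_cast Nat.one_pos
    · rw [Order.one_le_iff_pos, pos_iff_ne_zero, Ne, Ideal.height_eq_zero_iff_eq_bot]
      intro e
      have := congrArg (Ideal.comap (Ideal.Quotient.mk q)) e
      rw [hmc, ← RingHom.ker_eq_comap_bot, Ideal.mk_ker] at this
      exact hqz.ne this.symm
  haveI : Algebra.FiniteType k (R ⧸ q) :=
    Algebra.FiniteType.of_surjective (Ideal.Quotient.mkₐ k q) Ideal.Quotient.mk_surjective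
  have h2 := FibDimLib.ringKrullDim_quotient_add_height_affine k (R ⧸ q) m
  letI := Ideal.Quotient.field m
  rw [ringKrullDim_eq_zero_of_field, zero_add, h1] at h2
  exact h2.symm

/-- Through a closed point of an integral variety passes a curve not contained in a given proper closed subset. -/
theorem exists_curve_not_mem {k : Type u} [Field k] {X : Scheme.{u}} [IsIntegral X] (s : X ⟶ Spec (CommRingCat.of k))
    [LocallyOfFiniteType s] (e : X) (he : IsClosed ({e} : Set X)) {F : Set X} (hF : IsClosed F) (heF : e ∈ F)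
    (hne : F ≠ Set.univ) :
    ∃ y : X, y ∉ F ∧ y ⤳ e ∧ topologicalKrullDim (closure ({y} : Set X)) = 1 := by
  obtain ⟨V, hV, heV, -⟩ := exists_isAffineOpen_mem_and_subset (U := (⊤ : X.Opens)) (Opens.mem_top e)
  letI : Algebra k Γ(X, V) := ((s.appLE ⊤ V le_top).hom.comp
    (Scheme.ΓSpecIso (CommRingCat.of k)).inv.hom).toAlgebra
  letI := (s.appLE ⊤ V le_top).hom.toAlgebra
  haveI : Algebra.FiniteType k Γ(X, V) :=
    (s.finiteType_appLE (isAffineOpen_top _) hV le_top).comp (RingHom.FiniteType.of_surjective _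
      (ConcreteCategory.bijective_of_isIso (Scheme.ΓSpecIso (CommRingCat.of k)).inv).2)
  haveI : IsNoetherianRing Γ(X, V) := Algebra.FiniteType.isNoetherianRing k _
  have hηF : genericPoint X ∉ F := fun h => hne (Set.eq_univ_of_univ_subset (by
    rw [← (genericPoint_spec X).def]
    exact closure_minimal (Set.singleton_subset_iff.2 h) hF))
  have hηV : genericPoint X ∈ V := ((genericPoint_spec X).mem_open_set_iff V.2).2 ⟨e, Set.mem_univ e, heV⟩
  obtain ⟨h, hle, hηh⟩ := hV.exists_basicOpen_le (V := ⟨Fᶜ, hF.isOpen_compl⟩) ⟨genericPoint X, hηF⟩ hηV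
  let z := hV.primeIdealOf ⟨e, heV⟩
  let η := hV.primeIdealOf ⟨genericPoint X, hηV⟩
  haveI : z.asIdeal.IsMaximal := hV.primeIdealOf_isMaximal_of_isClosed ⟨e, heV⟩ he
  have hmem : ∀ p : PrimeSpectrum Γ(X, V), hV.fromSpec p ∈ X.basicOpen h ↔ h ∉ p.asIdeal := fun p =>
    Iff.trans Iff.rfl (Iff.of_eq (congrArg (fun U : (Spec Γ(X, V)).Opens => p ∈ U) (hV.fromSpec_preimage_basicOpen h)))
  have hη : h ∉ η.asIdeal := (hmem η).1 (by rw [hV.fromSpec_primeIdealOf]; exact hηh)
  have hz : h ∈ z.asIdeal := by
    by_contra hh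
    have := hle ((hmem z).2 hh)
    rw [hV.fromSpec_primeIdealOf] at this
    exact this heF
  have hle' : η.asIdeal ≤ z.asIdeal := by
    refine (PrimeSpectrum.le_iff_specializes η z).2 ?_
    refine (hV.fromSpec.isOpenEmbedding.isInducing.specializes_iff (x := η) (y := z)).1 ?_
    rw [hV.fromSpec_primeIdealOf, hV.fromSpec_primeIdealOf]
    exact (genericPoint_spec X).specializes trivial
  obtain ⟨q, hq, hηq, hqz, hhq, himm⟩ :=
    NormFinLib.exists_prime_immediate_notMem z.asIdeal h hz η.asIdeal hle' hη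
  refine ⟨hV.fromSpec ⟨q, hq⟩, fun hqF => hle ((hmem ⟨q, hq⟩).2 hhq) hqF, ?_, ?_⟩
  · have := ((PrimeSpectrum.le_iff_specializes ⟨q, hq⟩ z).mp hqz.le).map hV.fromSpec.continuous
    rwa [hV.fromSpec_primeIdealOf] at this
  · have hxV : hV.fromSpec ⟨q, hq⟩ ∈ V := hV.range_fromSpec.le ⟨_, rfl⟩
    rw [FibDimLib.topologicalKrullDim_closure_eq_affine s hV hxV]
    have hp : hV.primeIdealOf ⟨_, hxV⟩ = ⟨q, hq⟩ :=
      hV.fromSpec.isOpenEmbedding.injective (hV.fromSpec_primeIdealOf _)
    rw [hp]
    exact dim_quotient_eq_one (k := k) q z.asIdeal hqz himm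

end AVAmpleLib

end
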