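import Groth.Agent.AVAmpleLib.HomDiv
import Groth.Agent.AVAmpleLib.CurveThrough
import Groth.Agent.GenusZeroLib.Degrees
import Groth.Agent.SerreVanLib.CurveAmple
import Groth.Agent.CurvLib.Euler
import Groth.Agent.CurvLib.Finite0
import Groth.Prelude.Def_EndTate

/-!
Degree forms on homomorphisms of abelian varieties attached to curves.
-/

set_option autoImplicit false
set_option linter.style.haveILetI false
set_option backward.isDefEq.respectTransparency false
set_option maxHeartbeats 1000000

noncomputable section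

universe u

open CategoryTheory CategoryTheory.Limits MonoidalCategory CartesianMonoidalCategory MonObj AlgebraicGeometry TopologicalSpace
open Groth.Agent CubeConsLib

namespace AVAmpleLib

variable {k : Type u} [Field k]

/-- The degree of an invertible module on a curve over `k`. -/
def cdeg (V : Over (Spec (CommRingCat.of k))) (M : V.left.Modules) : ℤ :=
  letI : V.left.Over (Spec (CommRingCat.of k)) := ⟨V.hom⟩
  Curv2.deg k V.left M 1

section Degree

variable (V : Over (Spec (CommRingCat.of k))) [IsProper V.hom] [IsIntegral V.left]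

theorem cdeg_congr {M N : V.left.Modules} (e : M ≅ N) : cdeg V M = cdeg V N := by
  letI : V.left.Over (Spec (CommRingCat.of k)) := ⟨V.hom⟩
  exact CurvLib.deg_congr e 1

/-- The degree as a function of classes. -/
def D (x : PicA V.left) : ℤ := by
  classical
  exact if h : ∃ (M : V.left.Modules) (hM : PicF.IsInvertible M), clA hM = x then cdeg V h.choose else 0

theorem D_clA {M : V.left.Modules} (hM : PicF.IsInvertible M) : D V (clA hM) = cdeg V M := by
  have h : ∃ (N : V.left.Modules) (hN : PicF.IsInvertible N), clA hN = clA hM := ⟨M, hM, rfl⟩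
  rw [D, dif_pos h]
  obtain ⟨hN, e⟩ := h.choose_spec
  exact cdeg_congr V ((clA_eq_iff hN hM).1 e).some

/-- The classes of invertible modules. -/
def clRange : AddSubgroup (PicA V.left) where
  carrier := {x | ∃ (M : V.left.Modules) (hM : PicF.IsInvertible M), clA hM = x}
  zero_mem' := ⟨_, isInvertible_one _, clA_one _⟩
  add_mem' := by
    rintro _ _ ⟨M, hM, rfl⟩ ⟨N, hN, rfl⟩
    exact ⟨_, _, clA_tensor hM hN⟩
  neg_mem' := by
    rintro _ ⟨M, hM, rfl⟩
    exact ⟨_, _, clA_dual hM⟩

variable {V} in
theorem P_mem {A : Over (Spec (CommRingCat.of k))} {L : A.left.Modules} (hL : PicF.IsInvertible L) (f : V ⟶ A) :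
    P hL f ∈ clRange V := ⟨_, _, (P_eq hL f).symm⟩

variable (hdim : topologicalKrullDim V.left = 1)

include hdim in
theorem D_add {x y : PicA V.left} (hx : x ∈ clRange V) (hy : y ∈ clRange V) : D V (x + y) = D V x + D V y := by
  obtain ⟨M, hM, rfl⟩ := hx
  obtain ⟨N, hN, rfl⟩ := hy
  letI : V.left.Over (Spec (CommRingCat.of k)) := ⟨V.hom⟩
  haveI : IsProper (V.left ↘ Spec (CommRingCat.of k)) := inferInstanceAs (IsProper V.hom)
  rw [← clA_tensor hM hN, D_clA, D_clA, D_clA]
  exact GenusZeroLib.deg_tensor k hdim hM hN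

include hdim in
theorem D_zero : D V 0 = 0 := by
  have h := D_add V hdim (zero_mem (clRange V)) (zero_mem (clRange V))
  rw [add_zero] at h
  linarith

end Degree

variable [IsAlgClosed k]

/-- A curve through the origin. -/
structure Crv (A : Over (Spec (CommRingCat.of k))) [GrpObj A] where
  V : Over (Spec (CommRingCat.of k))
  j : V ⟶ A
  closed : IsClosedImmersion j.left
  integral : IsIntegral V.left
  dim : topologicalKrullDim V.left = 1
  origin : GrpField.unitPt A ∈ Set.range j.left

variable {A B : Over (Spec (CommRingCat.of k))} [GrpObj A] [GrpObj B] [IsProper A.hom] [IsProper B.hom]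
  [GeometricallyIntegral A.hom] [GeometricallyIntegral B.hom] (c : Crv A)

omit [GrpObj B] [IsProper B.hom] [GeometricallyIntegral A.hom] [GeometricallyIntegral B.hom] in
theorem Crv.proper : IsProper c.V.hom := by
  haveI := c.closed
  rw [← Over.w c.j]
  infer_instance

/-- A homomorphism is non-constant on some curve through the origin. -/
theorem exists_crv (φ : A ⟶ B) [IsMonHom φ] (hφ : φ ≠ 1) : ∃ c : Crv A, c.j ≫ φ ≠ 1 := by
  haveI : IsIntegral A.left := GeometricallyIntegral.isIntegral_of_subsingleton A.hom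
  have he : GrpField.unitPt A ∈ φ.left ⁻¹' {GrpField.unitPt B} := by
    rw [← pt_one (B := A), pt_mem_ker_iff, MonObj.one_comp]
  have hne : φ.left ⁻¹' {GrpField.unitPt B} ≠ Set.univ := fun h => hφ (hom_ext_of_points φ 1 fun a => by
    rw [MonObj.comp_one, ← pt_mem_ker_iff, h]
    exact Set.mem_univ _)
  have hec : IsClosed ({GrpField.unitPt A} : Set A.left) := by
    rw [← pt_one]
    exact AVRigidLib.isClosed_pt _
  have hF : IsClosed (φ.left ⁻¹' {GrpField.unitPt B}) :=
    IsClosed.preimage φ.left.continuous (by rw [← pt_one]; exact AVRigidLib.isClosed_pt _)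
  obtain ⟨y, hyF, hye, hd⟩ := exists_curve_not_mem A.hom _ hec hF he hne
  obtain ⟨Z, i, hi, hint, hr⟩ := DevissLib.exists_integral_closed isClosed_closure
    (isIrreducible_singleton (x := y)).closure
  let V : Over (Spec (CommRingCat.of k)) := Over.mk (i ≫ A.hom)
  let j : V ⟶ A := Over.homMk i rfl
  refine ⟨⟨V, j, hi, hint, ?_, ?_⟩, fun h => ?_⟩
  · show topologicalKrullDim Z = 1
    rw [i.isClosedEmbedding.isEmbedding.toHomeomorph.isHomeomorph.topologicalKrullDim_eq, hr]
    exact hd
  · exact hr.ge hye.mem_closure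
  · apply hyF
    obtain ⟨z, hz⟩ := hr.ge (subset_closure (rfl : y ∈ ({y} : Set A.left)))
    rw [Set.mem_preimage, Set.mem_singleton_iff, ← hz, ← pt_one]
    have h2 := congrArg CommaMorphism.left h
    rw [Hom.one_def] at h2
    change i ≫ φ.left = (toUnit V).left ≫ (η[B] : 𝟙_ (Over (Spec (CommRingCat.of k))) ⟶ B).left at h2
    have h3 := congrArg (fun m : Z ⟶ B.left => m z) h2
    rw [pt_one, GrpField.unitPt]
    exact h3.trans (congrArg (η[B] : 𝟙_ (Over (Spec (CommRingCat.of k))) ⟶ B).left
      (Subsingleton.elim (α := PrimeSpectrum k) _ _))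

variable {L : B.left.Modules} (hL : PicF.IsInvertible L)

/-- The degree of the pullback to a curve. -/
def cq (f : A ⟶ B) : ℤ :=
  haveI := c.proper
  haveI := c.integral
  D c.V (P hL (c.j ≫ f))

omit [GeometricallyIntegral A.hom] in
theorem cq_one : cq c hL 1 = 0 := by
  haveI := c.proper
  haveI := c.integral
  rw [cq, MonObj.comp_one, P_zero, D_zero _ c.dim]

omit [GeometricallyIntegral A.hom] in
theorem cq_cube (f g h : A ⟶ B) :
    cq c hL (f * g * h) + cq c hL f + cq c hL g + cq c hL h =
      cq c hL (f * g) + cq c hL (f * h) + cq c hL (g * h) := by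
  haveI := c.proper
  haveI := c.integral
  have e := congrArg (D c.V) (cube_field hL (c.j ≫ f) (c.j ≫ g) (c.j ≫ h))
  simp only [← MonObj.comp_mul] at e
  have m := fun z : A ⟶ B => P_mem hL (c.j ≫ z)
  rw [D_add _ c.dim (add_mem (add_mem (m _) (m _)) (m _)) (m _), D_add _ c.dim (add_mem (m _) (m _)) (m _),
    D_add _ c.dim (m _) (m _), D_add _ c.dim (add_mem (m _) (m _)) (m _), D_add _ c.dim (m _) (m _)] at e
  exact e

omit [GeometricallyIntegral A.hom] in
theorem cq_congr {f g : A ⟶ B} (h : c.j ≫ f = c.j ≫ g) : cq c hL f = cq c hL g := by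
  rw [cq, cq, h]

omit [GrpObj B] [GeometricallyIntegral A.hom] [GeometricallyIntegral B.hom] in
theorem cq_pos_of_isFinite (hA : CohB1.IsAmple L) (f : A ⟶ B) [IsFinite (c.j ≫ f).left] : 0 < cq c hL f := by
  haveI := c.proper
  haveI := c.integral
  letI : c.V.left.Over (Spec (CommRingCat.of k)) := ⟨c.V.hom⟩
  haveI : IsProper (c.V.left ↘ Spec (CommRingCat.of k)) := inferInstanceAs (IsProper c.V.hom)
  rw [cq, P_eq, D_clA]
  exact SerreVanLib.deg_pos_of_isAmple c.dim (AmpleDevLib.isAmple_pb (c.j ≫ f).left hL hA)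

omit [GeometricallyIntegral A.hom] in
theorem isFinite_crv (f : A ⟶ B) [IsMonHom f] (hf : c.j ≫ f ≠ 1) : IsFinite (c.j ≫ f).left := by
  haveI := c.proper
  haveI := c.integral
  haveI : LocallyOfFiniteType c.V.hom := inferInstance
  let r := (c.j ≫ f).left
  haveI : IsProper r := by
    haveI : IsProper (r ≫ B.hom) := by rw [Over.w]; infer_instance
    exact IsProper.of_comp r B.hom
  haveI : IsLocallyNoetherian c.V.left := LocallyOfFiniteType.isLocallyNoetherian c.V.hom
  haveI : CompactSpace c.V.left := QuasiCompact.compactSpace_of_compactSpace c.V.hom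
  haveI : IsNoetherian c.V.left := {}
  have hsmall : ∀ T : Set c.V.left, IsClosed T → genericPoint c.V.left ∉ T →
      T.Finite ∧ ∀ x ∈ T, IsClosed ({x} : Set c.V.left) := fun T hT hη =>
    CurvLib.finite_isClosed_of_dim_le_zero hT (CurvLib.topologicalKrullDim_le_zero_of_lt c.dim hT fun h =>
      hη (h ▸ Set.mem_univ _))
  have hconst : ¬ IsClosed ({r (genericPoint c.V.left)} : Set B.left) := by
    intro hcl
    have hall : ∀ x, r x = r (genericPoint c.V.left) := fun x =>
      (((genericPoint_spec c.V.left).specializes (Set.mem_univ x)).map r.continuous).mem_closed hcl rfl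
    obtain ⟨o, ho⟩ := c.origin
    have hro : r o = GrpField.unitPt B := by
      show f.left (c.j.left o) = _
      rw [ho, ← pt_one, ← pt_one]
      exact congrArg pt (MonObj.one_comp f)
    exact hf (hom_ext_of_points (A := c.V) _ _ fun a => pt_injective (by
      rw [MonObj.comp_one, pt_one, ← hro]
      exact (hall _).trans (hall o).symm))
  have hη : ∀ x, IsClosed ({x} : Set c.V.left) → r x ≠ r (genericPoint c.V.left) := fun x hx e =>
    hconst (e ▸ by simpa using r.isClosedMap _ hx)
  haveI : LocallyQuasiFinite r := by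
    refine LocallyQuasiFinite.of_finite_preimage_singleton r fun y => ?_
    by_cases hy : IsClosed ({y} : Set B.left)
    · exact (hsmall _ (hy.preimage r.continuous) fun h => hconst ((Set.mem_singleton_iff.1 h : r _ = y).symm ▸ hy)).1
    · refine (Set.finite_singleton (genericPoint c.V.left)).subset fun x hx => ?_
      by_contra hne
      apply hy
      rw [← show r x = y from hx]
      have hxc : IsClosed ({x} : Set c.V.left) := (hsmall (closure {x}) isClosed_closure fun h =>
        hne (((specializes_iff_mem_closure.2 h).antisymm ((genericPoint_spec c.V.left).specializes (Set.mem_univ x))).eq)).2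
          x (subset_closure rfl)
      simpa using r.isClosedMap _ hxc
  exact IsFinite.of_isProper_of_locallyQuasiFinite r

theorem cq_pos (hA : CohB1.IsAmple L) (f : A ⟶ B) [IsMonHom f] (hf : c.j ≫ f ≠ 1) : 0 < cq c hL f :=
  haveI := isFinite_crv c f hf
  cq_pos_of_isFinite c hL hA f

theorem cq_nonneg (hA : CohB1.IsAmple L) (f : A ⟶ B) [IsMonHom f] : 0 ≤ cq c hL f := by
  by_cases hf : c.j ≫ f = 1
  · rw [cq_congr c hL (g := 1) (by rw [hf, MonObj.comp_one]), cq_one]
  · exact (cq_pos c hL hA f hf).le

variable [IsCommMonObj A] [IsCommMonObj B]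

/-- The symmetric biadditive form of a curve. -/
def form : EndAV.Hom A B →+ EndAV.Hom A B →+ ℤ :=
  AddMonoidHom.mk' (fun φ => AddMonoidHom.mk'
    (fun ψ => cq c hL (φ.toHom * ψ.toHom) - cq c hL φ.toHom - cq c hL ψ.toHom)
    fun ψ χ => by
      show cq c hL (φ.toHom * (ψ.toHom * χ.toHom)) - _ - cq c hL (ψ.toHom * χ.toHom) = _
      have e := cq_cube c hL φ.toHom ψ.toHom χ.toHom
      rw [← _root_.mul_assoc]
      linarith)
    fun φ ψ => AddMonoidHom.ext fun χ => by
      show cq c hL (φ.toHom * ψ.toHom * χ.toHom) - cq c hL (φ.toHom * ψ.toHom) - _ = _ + _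
      simp only [AddMonoidHom.mk'_apply]
      have e := cq_cube c hL φ.toHom ψ.toHom χ.toHom
      linarith

theorem form_apply (φ ψ : EndAV.Hom A B) :
    form c hL φ ψ = cq c hL (φ.toHom * ψ.toHom) - cq c hL φ.toHom - cq c hL ψ.toHom := rfl

theorem form_symm (φ ψ : EndAV.Hom A B) : form c hL φ ψ = form c hL ψ φ := by
  rw [form_apply, form_apply, mul_comm]; ring

theorem form_eq_zero {φ : EndAV.Hom A B} (h : c.j ≫ φ.toHom = 1) (ψ : EndAV.Hom A B) : form c hL φ ψ = 0 := by
  rw [form_apply, cq_congr c hL (g := ψ.toHom) (by rw [MonObj.comp_mul, h, _root_.one_mul]),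
    cq_congr c hL (f := φ.toHom) (g := 1) (by rw [h, MonObj.comp_one]), cq_one]
  ring

theorem form_self (φ : EndAV.Hom A B) :
    form c hL φ φ = cq c hL φ.toHom + cq c hL φ.toHom⁻¹ := by
  have h1 := form_apply c hL φ (-φ)
  have h2 : (-φ).toHom = φ.toHom⁻¹ := rfl
  rw [map_neg, h2, mul_inv_cancel, cq_one] at h1
  linarith

theorem form_self_nonneg (hA : CohB1.IsAmple L) (φ : EndAV.Hom A B) : 0 ≤ form c hL φ φ := by
  rw [form_self]
  haveI : IsMonHom φ.toHom⁻¹ := inferInstanceAs (IsMonHom (-φ).toHom)
  exact add_nonneg (cq_nonneg c hL hA _) (cq_nonneg c hL hA _)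

theorem form_self_pos (hA : CohB1.IsAmple L) (φ : EndAV.Hom A B) (h : c.j ≫ φ.toHom ≠ 1) :
    0 < form c hL φ φ := by
  rw [form_self]
  haveI : IsMonHom φ.toHom⁻¹ := inferInstanceAs (IsMonHom (-φ).toHom)
  exact add_pos_of_pos_of_nonneg (cq_pos c hL hA _ h) (cq_nonneg c hL hA _)

end AVAmpleLib

end
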