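import Mathlib

/-!
The cokernel of an injective map of free lattices over the `l`-adic integers.
-/

set_option autoImplicit false
set_option linter.style.haveILetI false

noncomputable section

namespace AVAmpleLib

variable {l : ℕ} [Fact l.Prime]

theorem natCard_quotient_span {a : ℤ_[l]} (ha : a ≠ 0) :
    Nat.card (ℤ_[l] ⧸ Ideal.span ({a} : Set ℤ_[l])) = l ^ a.valuation := by
  conv_lhs => rw [PadicInt.unitCoeff_spec ha]
  rw [Ideal.span_singleton_mul_left_unit (Units.isUnit _), ← PadicInt.ker_toZModPow,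
    Nat.card_congr (RingHom.quotientKerEquivOfSurjective (ZMod.ringHom_surjective _)).toEquiv, Nat.card_zmod]

theorem valuation_of_associated {a b : ℤ_[l]} (h : Associated a b) : a.valuation = b.valuation := by
  obtain ⟨u, rfl⟩ := h
  by_cases ha : a = 0
  · simp [ha]
  rw [PadicInt.valuation_mul ha u.ne_zero]
  have hu : (u : ℤ_[l]).valuation = 0 := by
    have h1 : ((u : ℤ_[l]) * ((u⁻¹ : ℤ_[l]ˣ) : ℤ_[l])).valuation = 0 := by simp
    rw [PadicInt.valuation_mul u.ne_zero u⁻¹.ne_zero] at h1
    omega
  rw [hu, add_zero]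

theorem valuation_prod {ι : Type*} (s : Finset ι) {a : ι → ℤ_[l]} (ha : ∀ i ∈ s, a i ≠ 0) :
    (∏ i ∈ s, a i).valuation = ∑ i ∈ s, (a i).valuation := by
  classical
  induction s using Finset.induction_on with
  | empty => simp
  | insert i s hi ih =>
    rw [Finset.prod_insert hi, Finset.sum_insert hi,
      PadicInt.valuation_mul (ha i (Finset.mem_insert_self i s))
        (Finset.prod_ne_zero_iff.2 fun j hj => ha j (Finset.mem_insert_of_mem hj)),
      ih fun j hj => ha j (Finset.mem_insert_of_mem hj)]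

variable {ι M N : Type*} [Fintype ι] [DecidableEq ι] [AddCommGroup M] [Module ℤ_[l] M] [AddCommGroup N]
  [Module ℤ_[l] N] (bM : Module.Basis ι ℤ_[l] M) (bN : Module.Basis ι ℤ_[l] N) (f : M →ₗ[ℤ_[l]] N)

theorem injective_of_det_ne_zero (h : (LinearMap.toMatrix bM bN f).det ≠ 0) : Function.Injective f := by
  rw [← LinearMap.ker_eq_bot, LinearMap.ker_eq_bot']
  intro x hx
  have h1 : (LinearMap.toMatrix bM bN f).mulVec (bM.repr x) = 0 := by
    rw [LinearMap.toMatrix_mulVec_repr, hx, map_zero]
    rfl
  have := Matrix.eq_zero_of_mulVec_eq_zero h h1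
  exact bM.repr.map_eq_zero_iff.1 (DFunLike.coe_injective this)

/-- An injective endomorphism of lattices has cokernel of order `l ^ v(det)`. -/
theorem natCard_coker (h : (LinearMap.toMatrix bM bN f).det ≠ 0) :
    Nat.card (N ⧸ LinearMap.range f) = l ^ (LinearMap.toMatrix bM bN f).det.valuation := by
  classical
  have hinj := injective_of_det_ne_zero bM bN f h
  haveI : Module.Finite ℤ_[l] M := Module.Finite.of_basis bM
  haveI : Module.Free ℤ_[l] M := Module.Free.of_basis bM
  have hrk : Module.finrank ℤ_[l] (LinearMap.range f) = Module.finrank ℤ_[l] N := by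
    rw [LinearMap.finrank_range_of_inj hinj, Module.finrank_eq_card_basis bM, Module.finrank_eq_card_basis bN]
  let a := Submodule.smithNormalFormCoeffs bN hrk
  let bT := Submodule.smithNormalFormTopBasis bN hrk
  let bR := Submodule.smithNormalFormBotBasis bN hrk
  have ha : ∀ i, a i ≠ 0 := Submodule.smithNormalFormCoeffs_ne_zero bN hrk
  rw [Nat.card_congr ((LinearMap.range f).quotientEquivPiSpan bN hrk).toEquiv, Nat.card_pi,
    Finset.prod_congr rfl fun i _ => natCard_quotient_span (ha i), Finset.prod_pow_eq_pow_sum,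
    ← valuation_prod _ fun i _ => ha i]
  congr 1
  refine valuation_of_associated ?_
  let g : M ≃ₗ[ℤ_[l]] LinearMap.range f := LinearEquiv.ofInjective f hinj
  have hf : f = (LinearMap.range f).subtype ∘ₗ (g : M →ₗ[ℤ_[l]] LinearMap.range f) := LinearMap.ext fun x => rfl
  have hdiag : LinearMap.toMatrix bR bT (LinearMap.range f).subtype = Matrix.diagonal a := by
    ext i j
    rw [LinearMap.toMatrix_apply, Submodule.subtype_apply, Submodule.smithNormalFormBotBasis_def, map_smul,
      Module.Basis.repr_self, Finsupp.smul_single, smul_eq_mul, mul_one, Matrix.diagonal_apply, Finsupp.single_apply]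
    by_cases hij : i = j
    · subst hij; simp [a]
    · simp [hij, Ne.symm hij]
  have hP : ∀ (b b' : Module.Basis ι ℤ_[l] N), IsUnit (LinearMap.toMatrix b b' LinearMap.id).det := fun b b' =>
    IsUnit.of_mul_eq_one (LinearMap.toMatrix b' b LinearMap.id).det (by
      rw [← Matrix.det_mul, ← LinearMap.toMatrix_comp b' b b', LinearMap.id_comp, LinearMap.toMatrix_id, Matrix.det_one])
  have hG : IsUnit (LinearMap.toMatrix bM bR (g : M →ₗ[ℤ_[l]] LinearMap.range f)).det :=
    g.isUnit_det bM bR
  have key : LinearMap.toMatrix bM bN f = LinearMap.toMatrix bT bN LinearMap.id * Matrix.diagonal a *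
      LinearMap.toMatrix bM bR (g : M →ₗ[ℤ_[l]] LinearMap.range f) := by
    rw [← hdiag, ← LinearMap.toMatrix_comp, ← LinearMap.toMatrix_comp, LinearMap.id_comp, ← hf]
  rw [key, Matrix.det_mul, Matrix.det_mul, Matrix.det_diagonal]
  exact ((associated_mul_unit_left _ _ hG).trans (associated_unit_mul_left _ _ (hP bT bN))).symm

/-- The determinant kills the cokernel. -/
theorem pow_smul_mem_range (h : (LinearMap.toMatrix bM bN f).det ≠ 0) (y : N) :
    ((l : ℤ_[l]) ^ (LinearMap.toMatrix bM bN f).det.valuation) • y ∈ LinearMap.range f := by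
  set T := LinearMap.toMatrix bM bN f
  obtain ⟨c, hc⟩ : T.det ∣ (l : ℤ_[l]) ^ T.det.valuation := by
    conv_lhs => rw [PadicInt.unitCoeff_spec h]
    exact (Units.mul_left_dvd).2 dvd_rfl
  refine ⟨bM.equivFun.symm (c • T.adjugate.mulVec (bN.repr y)), bN.repr.injective (DFunLike.coe_injective ?_)⟩
  rw [← LinearMap.toMatrix_mulVec_repr bM bN f, hc]
  have : ⇑(bM.repr (bM.equivFun.symm (c • T.adjugate.mulVec (bN.repr y)))) = c • T.adjugate.mulVec (bN.repr y) :=
    bM.equivFun.apply_symm_apply _
  rw [this, map_smul, Matrix.mulVec_smul, Matrix.mulVec_mulVec, Matrix.mul_adjugate, Matrix.smul_mulVec, Matrix.one_mulVec,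
    smul_smul, mul_comm]
  rfl

end AVAmpleLib

end
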