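import Groth.Agent.AVAmpleLib.BcTate
import Mathlib.LinearAlgebra.FreeModule.PID

/-!
Tate modules over fields: lattices and closed immersions.
-/

set_option autoImplicit false
set_option linter.style.haveILetI false
set_option backward.isDefEq.respectTransparency false
set_option maxHeartbeats 1000000

noncomputable section

universe u

open CategoryTheory CategoryTheory.Limits MonoidalCategory CartesianMonoidalCategory MonObj AlgebraicGeometry TopologicalSpace

namespace AVAmpleLib

variable {k : Type u} [Field k] (Ω : Type u) [Field Ω] [Algebra k Ω] [IsAlgClosed Ω]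
  (A : Over (Spec (CommRingCat.of k))) [GrpObj A] [IsCommMonObj A] [IsProper A.hom] [GeometricallyIntegral A.hom]

attribute [local instance] grpBc commBc

theorem tate_free_finite_finrank_ext {g : ℕ} (hg : topologicalKrullDim A.left = (g : ℕ)) (l : ℕ) [Fact l.Prime]
    (hl : (l : Ω) ≠ 0) :
    Module.Free ℤ_[l] (AbDual.TateMod A l (SGA7.pt (K := k) Ω)) ∧
      Module.Finite ℤ_[l] (AbDual.TateMod A l (SGA7.pt (K := k) Ω)) ∧
        Module.finrank ℤ_[l] (AbDual.TateMod A l (SGA7.pt (K := k) Ω)) = 2 * g := by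
  haveI : IsProper ((bcF Ω).obj A).hom := inferInstanceAs (IsProper (pullback.snd A.hom _))
  haveI : GeometricallyIntegral ((bcF Ω).obj A).hom := inferInstanceAs (GeometricallyIntegral (pullback.snd A.hom _))
  obtain ⟨h1, h2, h3⟩ := tate_free_finite_finrank ((bcF Ω).obj A) ((dim_pullback_eq A).trans hg) l hl
  exact ⟨Module.Free.of_equiv (tateBc Ω A l).symm, Module.Finite.equiv (tateBc Ω A l).symm,
    ((tateBc Ω A l).finrank_eq).trans h3⟩

theorem exists_dim_field (A : Over (Spec (CommRingCat.of k))) [IsProper A.hom] [GeometricallyIntegral A.hom] :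
    ∃ g : ℕ, topologicalKrullDim A.left = (g : ℕ) := by
  haveI : IsIntegral A.left := GeometricallyIntegral.isIntegral_of_subsingleton A.hom
  let ξ := Spec.map (CommRingCat.ofHom (algebraMap k (AlgebraicClosure k)))
  let A' := (bcF (AlgebraicClosure k)).obj A
  haveI : IsProper A'.hom := inferInstanceAs (IsProper (pullback.snd A.hom ξ))
  haveI : IsIntegral A'.left := GeometricallyIntegral.isIntegral_of_subsingleton (pullback.snd A.hom ξ)
  obtain ⟨g, hg⟩ := exists_dim A'
  exact ⟨g, (dim_pullback_eq (L := AlgebraicClosure k) A).symm.trans hg⟩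

omit [IsProper A.hom] [GeometricallyIntegral A.hom] in
/-- A monomorphism gives an injective map of Tate modules with saturated range. -/
theorem tateMap_mono {S : Scheme.{u}} {A B T : Over S} [GrpObj A] [IsCommMonObj A] [GrpObj B] [IsCommMonObj B]
    (i : A ⟶ B) [IsMonHom i] [Mono i] (l : ℕ) [Fact l.Prime] :
    Function.Injective (AbDual.tateMapₗ (l := l) (T := T) i) ∧
      ∀ y : AbDual.TateMod B l T, (l : ℤ_[l]) • y ∈ LinearMap.range (AbDual.tateMapₗ (l := l) (T := T) i) →
        y ∈ LinearMap.range (AbDual.tateMapₗ (l := l) (T := T) i) := by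
  have hinj : Function.Injective (fun x : Additive (T ⟶ A) => Additive.ofMul (x.toMul ≫ i)) := fun a b h =>
    Additive.toMul.injective ((cancel_mono i).1 (Additive.ofMul.injective h))
  refine ⟨fun x y h => AbDual.TateMod.ext fun n => hinj (congrArg
    (fun z : AbDual.TateMod B l T => (z : ℕ → Additive (T ⟶ B)) n) h), fun y ⟨x, hx⟩ => ?_⟩
  rw [Nat.cast_smul_eq_nsmul ℤ_[l]] at hx
  have hx' : ∀ n, Additive.ofMul (((x : ℕ → Additive (T ⟶ A)) n).toMul ≫ i) = l • (y : ℕ → Additive (T ⟶ B)) n :=
    fun n => (congrArg (fun z : AbDual.TateMod B l T => (z : ℕ → Additive (T ⟶ B)) n) hx).trans rfl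
  refine ⟨⟨fun n => (x : ℕ → Additive (T ⟶ A)) (n + 1), ⟨fun n => hinj ?_, fun n => x.compat (n + 1)⟩⟩,
    AbDual.TateMod.ext fun n => (hx' (n + 1)).trans (y.compat n)⟩
  show Additive.ofMul (((l ^ n) • (x : ℕ → Additive (T ⟶ A)) (n + 1)).toMul ≫ i) =
    Additive.ofMul ((0 : Additive (T ⟶ A)).toMul ≫ i)
  rw [AbDual.nsmul_comp, hx', y.compat, y.torsion]
  exact (congrArg Additive.ofMul (MonObj.one_comp i)).symm

theorem free_coker {B : Over (Spec (CommRingCat.of k))} [GrpObj B] [IsCommMonObj B] [IsProper B.hom]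
    [GeometricallyIntegral B.hom] (i : A ⟶ B) [IsMonHom i] [Mono i] (l : ℕ) [Fact l.Prime] (hl : (l : Ω) ≠ 0) :
    Module.Free ℤ_[l] (AbDual.TateMod B l (SGA7.pt (K := k) Ω) ⧸
        LinearMap.range (AbDual.tateMapₗ (l := l) (T := SGA7.pt (K := k) Ω) i)) := by
  obtain ⟨g, hg⟩ := exists_dim_field B
  obtain ⟨-, hfin, -⟩ := tate_free_finite_finrank_ext Ω B hg l hl
  set R := LinearMap.range (AbDual.tateMapₗ (l := l) (T := SGA7.pt (K := k) Ω) i)
  have hsat := (tateMap_mono (T := SGA7.pt (K := k) Ω) i l).2
  haveI : Module.IsTorsionFree ℤ_[l] (AbDual.TateMod B l (SGA7.pt (K := k) Ω) ⧸ R) := by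
    rw [Module.isTorsionFree_iff_smul_eq_zero]
    intro c q hq
    induction q using Submodule.Quotient.induction_on with
    | H y =>
      rw [← Submodule.Quotient.mk_smul, Submodule.Quotient.mk_eq_zero] at hq
      by_cases hc : c = 0
      · exact Or.inl hc
      · refine Or.inr ((Submodule.Quotient.mk_eq_zero R).2 ?_)
        rw [PadicInt.unitCoeff_spec hc, mul_smul, Submodule.smul_mem_iff_of_isUnit R (Units.isUnit _)] at hq
        revert hq
        generalize c.valuation = m
        intro hq
        induction m generalizing y with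
        | zero => simpa using hq
        | succ m ih =>
          rw [pow_succ, mul_smul] at hq
          exact hsat y (ih _ hq)
  exact Module.free_of_finite_type_torsion_free'

end AVAmpleLib

end
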