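import Groth.Agent.AVAmpleLib.KerDeg
import Groth.Agent.AVAmpleLib.DetCard
import Groth.Agent.AVAmpleLib.TateLattice
import Groth.Agent.AVAmpleLib.MulDegree
import Groth.Agent.FibDimLib.Comps

/-!
The `l`-part of the degree of an isogeny is the valuation of the determinant on Tate modules.
-/

set_option autoImplicit false
set_option linter.style.haveILetI false
set_option backward.isDefEq.respectTransparency false
set_option maxHeartbeats 1000000

noncomputable section

universe u

open CategoryTheory CategoryTheory.Limits MonoidalCategory CartesianMonoidalCategory MonObj AlgebraicGeometry TopologicalSpace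
open Groth.Agent

namespace AVAmpleLib

/-- A finite morphism of irreducible varieties of the same dimension is surjective. -/
theorem surjective_of_finite_dim {X Y : Scheme.{u}} [IrreducibleSpace Y] (f : X ⟶ Y) [IsFinite f] {g : ℕ}
    (hX : topologicalKrullDim X = (g : ℕ)) (hY : topologicalKrullDim Y = (g : ℕ)) : Surjective f := by
  have hcl : IsClosed (Set.range f) := f.isClosedMap.isClosed_range
  suffices h : genericPoint Y ∈ Set.range f from ⟨fun y => by
    have h2 := closure_minimal (Set.singleton_subset_iff.2 h) hcl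
    rw [(genericPoint_spec Y).def] at h2
    exact h2 (Set.mem_univ y)⟩
  by_contra h
  have hlt := HilbPolyLib.dim_lt_of_notMem hcl (fun y _ => by rw [(genericPoint_spec Y).def]; trivial) h
    (Y := Set.univ) (Set.subset_univ _) (d := g) (by
      rw [IsHomeomorph.topologicalKrullDim_eq _ (Homeomorph.Set.univ Y).isHomeomorph, hY]
      exact_mod_cast Nat.lt_succ_self g)
  obtain ⟨c, hc⟩ := FibDimLib.exists_specChain hX.ge
  refine absurd ?_ (not_le.2 hlt)
  haveI : QuasiSober (Set.range f) := hcl.isClosedEmbedding_subtypeVal.quasiSober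
  refine FibDimLib.IsSpecChain.le_topologicalKrullDim (c := fun i => (⟨f (c i), Set.mem_range_self _⟩ : Set.range f))
    ⟨fun i j e => ?_, fun i j h => Topology.IsInducing.subtypeVal.specializes_iff.mp ((hc.2 i j h).map f.continuous)⟩
  have key : ∀ i j, i ≤ j → f (c i) = f (c j) → c i = c j := fun i j h e =>
    (f.isDiscrete_preimage_singleton (f (c i))).eq_of_specializes (hc.2 i j h) rfl e.symm
  rcases le_total i j with h | h
  · exact hc.1 (key i j h (congrArg Subtype.val e))
  · exact (hc.1 (key j i h (congrArg Subtype.val e).symm)).symm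

variable {k : Type u} [Field k] {A B : Over (Spec (CommRingCat.of k))} [GrpObj A] [GrpObj B]
  [IsProper A.hom] [IsProper B.hom] [GeometricallyIntegral A.hom] [GeometricallyIntegral B.hom]

theorem flat_of_isFinite (α : A ⟶ B) [IsMonHom α] [IsFinite α.left] {g : ℕ}
    (hA : topologicalKrullDim A.left = (g : ℕ)) (hB : topologicalKrullDim B.left = (g : ℕ)) :
    Flat α.left ∧ Surjective α.left := by
  haveI : IsIntegral B.left := GeometricallyIntegral.isIntegral_of_subsingleton B.hom
  haveI := surjective_of_finite_dim α.left hA hB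
  haveI : LocallyOfFinitePresentation A.hom := LocallyOfFinitePresentation.iff_locallyOfFiniteType.2 inferInstance
  haveI := smooth_hom B
  exact ⟨AbSchLib.flat_of_surjective α, inferInstance⟩

theorem finrank_const (α : A ⟶ B) [IsFinite α.left] [Flat α.left] (b b' : B.left) :
    α.left.finrank b = α.left.finrank b' := by
  haveI : IsIntegral B.left := GeometricallyIntegral.isIntegral_of_subsingleton B.hom
  haveI : IsLocallyNoetherian B.left := LocallyOfFiniteType.isLocallyNoetherian B.hom
  haveI : LocallyOfFinitePresentation α.left := LocallyOfFinitePresentation.iff_locallyOfFiniteType.2 inferInstance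
  exact (Scheme.Hom.isLocallyConstant_finrank α.left).apply_eq_of_preconnectedSpace b b'

theorem natCard_torsion_eq {G : Type*} [AddCommGroup G] [Finite G] (l : ℕ) [Fact l.Prime] {n : ℕ}
    (hn : padicValNat l (Nat.card G) ≤ n) :
    Nat.card (nsmulAddMonoidHom (α := G) (l ^ n)).ker = l ^ padicValNat l (Nat.card G) := by
  classical
  have hl := (Fact.out : l.Prime)
  let H := (nsmulAddMonoidHom (α := G) (l ^ n)).ker
  let P : Sylow l (Multiplicative G) := default
  have hfac : (Nat.card G).factorization l = padicValNat l (Nat.card G) := Nat.factorization_def _ hl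
  have hP : Nat.card P = l ^ padicValNat l (Nat.card G) := by
    rw [← hfac]; exact P.card_eq_multiplicity
  have hle : (P : Subgroup (Multiplicative G)) ≤ H.toSubgroup := fun x hx => by
    show (l ^ n) • x.toAdd = 0
    obtain ⟨d, hd⟩ := pow_dvd_pow l hn
    have h1 : x ^ Nat.card P = 1 := congrArg Subtype.val (pow_card_eq_one' (x := (⟨x, hx⟩ : P)))
    rw [hP] at h1
    rw [hd, mul_comm, mul_nsmul', show (l ^ padicValNat l (Nat.card G)) • x.toAdd = 0 from h1, smul_zero]
  have hgrp : IsPGroup l H.toSubgroup := fun x => ⟨n, Subtype.ext x.2⟩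
  have he := P.is_maximal' hgrp hle
  rw [← hP]
  exact Nat.card_congr ((Equiv.subtypeEquiv Multiplicative.ofAdd fun a => Iff.rfl).trans (Equiv.setCongr
    (by rw [he] : (H.toSubgroup : Set (Multiplicative G)) = (P : Subgroup (Multiplicative G)))))

variable [IsAlgClosed k] [IsCommMonObj A] [IsCommMonObj B] (l : ℕ) [Fact l.Prime]

/-- Composition with a homomorphism on rational points. -/
def ptsMap (α : A ⟶ B) [IsMonHom α] : Pts A →+ Pts B :=
  AddMonoidHom.mk' (fun a => Additive.ofMul (a.toMul ≫ α)) fun a b =>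
    congrArg Additive.ofMul (MonObj.mul_comp a.toMul b.toMul α)

theorem finite_ker_ptsMap (α : A ⟶ B) [IsMonHom α] [IsFinite α.left] : Finite (ptsMap α).ker := by
  haveI := ((isFinite_iff_finite_ker α).1 inferInstance).to_subtype
  exact Finite.of_injective (fun a => (⟨pt a.1.toMul, (pt_mem_ker_iff α _).2 a.2⟩ : ↥(α.left ⁻¹' {GrpField.unitPt B})))
    fun a b h => Subtype.ext (Additive.toMul.injective (pt_injective (congrArg Subtype.val h)))

variable {g : ℕ} {bA : Module.Basis (Fin (2 * g)) ℤ_[l] (Tate A l)} {bB : Module.Basis (Fin (2 * g)) ℤ_[l] (Tate B l)}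

/-- The `l`-part of the number of points of the kernel. -/
theorem padicValNat_card_ker (hl : (l : k) ≠ 0) (hA : topologicalKrullDim A.left = (g : ℕ))
    (hB : topologicalKrullDim B.left = (g : ℕ)) (α : A ⟶ B) [IsMonHom α] [IsFinite α.left]
    (hdet : (LinearMap.toMatrix bA bB (AbDual.tateMapₗ (l := l) α)).det ≠ 0) :
    padicValNat l (Nat.card (ptsMap α).ker) =
      (LinearMap.toMatrix bA bB (AbDual.tateMapₗ (l := l) α)).det.valuation := by
  haveI := finite_ker_ptsMap α
  set f := AbDual.tateMapₗ (l := l) (T := 𝟙_ (Over (Spec (CommRingCat.of k)))) α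
  set v := (LinearMap.toMatrix bA bB f).det.valuation
  set n := max v (padicValNat l (Nat.card (ptsMap α).ker))
  let πA : Tate A l →+ Pts A := AbDual.TateMod.component A l _ n
  let πB : Tate B l →+ Pts B := AbDual.TateMod.component B l _ n
  have hrA : ∀ a : Pts A, a ∈ πA.range ↔ (l ^ n) • a = 0 := fun a =>
    ⟨fun ⟨x, hx⟩ => hx ▸ x.torsion n, fun h => exists_component_eq A l n a.toMul h⟩
  have hrB : ∀ a : Pts B, a ∈ πB.range ↔ (l ^ n) • a = 0 := fun a =>
    ⟨fun ⟨x, hx⟩ => hx ▸ x.torsion n, fun h => exists_component_eq B l n a.toMul h⟩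
  have hl0 : ((l ^ n : ℕ) : k) ≠ 0 := by rw [Nat.cast_pow]; exact pow_ne_zero n hl
  have hcA : Nat.card πA.range = (l ^ n) ^ (2 * g) := by
    rw [← natCard_tors A hA _ hl0]
    exact Nat.card_congr (Equiv.subtypeEquiv Additive.toMul fun a => (hrA a).trans (AbDual.mem_torsPts A _).symm)
  have hcB : Nat.card πB.range = (l ^ n) ^ (2 * g) := by
    rw [← natCard_tors B hB _ hl0]
    exact Nat.card_congr (Equiv.subtypeEquiv Additive.toMul fun a => (hrB a).trans (AbDual.mem_torsPts B _).symm)
  let R : AddSubgroup (Pts B) := (LinearMap.range f).toAddSubgroup.map πB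
  let χ : πA.range →+ Pts B := (ptsMap α).comp πA.range.subtype
  have hχ : χ.range = R := by
    ext b
    constructor
    · rintro ⟨⟨a, x, hx⟩, rfl⟩
      exact ⟨f x, ⟨x, rfl⟩, by subst hx; rfl⟩
    · rintro ⟨y, ⟨x, rfl⟩, rfl⟩
      exact ⟨⟨_, x, rfl⟩, rfl⟩
  have h1 : Nat.card πA.range = Nat.card R * Nat.card χ.ker := by
    rw [χ.ker.card_eq_card_quotient_mul_card_addSubgroup,
      Nat.card_congr (QuotientAddGroup.quotientKerEquivRange χ).toEquiv, hχ]
  have hkerle : πB.ker ≤ (LinearMap.range f).toAddSubgroup := fun x hx => by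
    have hx' : (x : ℕ → Pts B) n = 0 := hx
    have hstep : ∀ j m, (l ^ j) • (x : ℕ → Pts B) (m + j) = (x : ℕ → Pts B) m := fun j m => by
      induction j with
      | zero => rw [pow_zero, one_nsmul, add_zero]
      | succ j ih => rw [pow_succ, mul_comm, mul_nsmul', ← ih, ← smul_comm (l ^ j) l, ← add_assoc, x.compat]
    let y : Tate B l := ⟨fun m => (x : ℕ → Pts B) (m + n),
      ⟨fun m => by
        show (l ^ m) • (x : ℕ → Pts B) (m + n) = 0
        rw [add_comm m n, hstep m n, hx'],
        fun m => by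
        show l • (x : ℕ → Pts B) (m + 1 + n) = (x : ℕ → Pts B) (m + n)
        rw [show m + 1 + n = m + n + 1 by omega]; exact x.compat (m + n)⟩⟩
    have hy : x = (l ^ n) • y := AbDual.TateMod.ext fun m => (hstep n m).symm
    have hxy : x = ((l : ℤ_[l]) ^ n) • y := by
      rw [hy, ← Nat.cast_smul_eq_nsmul ℤ_[l], Nat.cast_pow]
    obtain ⟨d, hd⟩ := pow_dvd_pow (l : ℤ_[l]) (le_max_left v (padicValNat l (Nat.card (ptsMap α).ker)))
    rw [hxy, hd, mul_comm, mul_smul]
    exact Submodule.smul_mem _ d (pow_smul_mem_range bA bB f hdet y)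
  have hidx : R.relIndex πB.range = l ^ v := by
    rw [← AddSubgroup.index_comap, AddSubgroup.comap_map_eq_self hkerle, ← natCard_coker bA bB f hdet]
    rfl
  have h2 : Nat.card R * l ^ v = Nat.card πB.range := by
    rw [← hidx, AddSubgroup.relIndex, AddSubgroup.index,
      (R.addSubgroupOf πB.range).card_eq_card_quotient_mul_card_addSubgroup, mul_comm,
      Nat.card_congr (AddSubgroup.addSubgroupOfEquivOfLe (AddSubgroup.map_le_range πB _)).toEquiv]
  have hpos : 0 < Nat.card R := Nat.pos_of_ne_zero fun h0 => by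
    rw [h0, zero_mul, hcB] at h2
    exact pow_ne_zero _ (pow_ne_zero _ (Fact.out : l.Prime).ne_zero) h2.symm
  have h3 : Nat.card χ.ker = l ^ v := Nat.eq_of_mul_eq_mul_left hpos (by rw [h2, ← h1, hcA, hcB])
  have h4 : Nat.card (nsmulAddMonoidHom (α := (ptsMap α).ker) (l ^ n)).ker = Nat.card χ.ker :=
    Nat.card_congr
      { toFun := fun a => ⟨⟨a.1.1, (hrA _).2 (congrArg Subtype.val a.2)⟩, a.1.2⟩
        invFun := fun a => ⟨⟨a.1.1, a.2⟩, Subtype.ext ((hrA _).1 a.1.2)⟩
        left_inv := fun _ => rfl
        right_inv := fun _ => rfl }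
  rw [natCard_torsion_eq l (le_max_right _ _), h3] at h4
  exact Nat.pow_right_injective (Fact.out : l.Prime).two_le h4

/-- The `l`-part of the degree. -/
theorem padicValNat_finrank (hl : (l : k) ≠ 0) (hA : topologicalKrullDim A.left = (g : ℕ))
    (hB : topologicalKrullDim B.left = (g : ℕ)) (α : A ⟶ B) [IsMonHom α] [IsFinite α.left] (b : B.left)
    (bA : Module.Basis (Fin (2 * g)) ℤ_[l] (Tate A l)) (bB : Module.Basis (Fin (2 * g)) ℤ_[l] (Tate B l)) :
    padicValNat l (α.left.finrank b) = (LinearMap.toMatrix bA bB (AbDual.tateMapₗ (l := l) α)).det.valuation := by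
  haveI := (flat_of_isFinite α hA hB).1
  haveI := finite_ker_ptsMap α
  have hdet : (LinearMap.toMatrix bA bB (AbDual.tateMapₗ (l := l) α)).det ≠ 0 := by
    intro h0
    obtain ⟨v, hv, hv0⟩ := Matrix.exists_mulVec_eq_zero_iff.2 h0
    have h1 : bB.repr (AbDual.tateMapₗ (l := l) α (bA.equivFun.symm v)) = 0 := DFunLike.coe_injective (by
      rw [← LinearMap.toMatrix_mulVec_repr bA bB,
        show ⇑(bA.repr (bA.equivFun.symm v)) = v from bA.equivFun.apply_symm_apply v, hv0]
      rfl)
    refine hv ?_
    have h2 : bA.equivFun.symm v = 0 := tateMap_injective_of_isFinite α l inferInstance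
      ((bB.repr.map_eq_zero_iff.1 h1).trans (map_zero _).symm)
    exact (bA.equivFun.symm.map_eq_zero_iff).1 h2
  rw [← padicValNat_card_ker l hl hA hB α hdet]
  obtain ⟨q, _⟩ : ∃ q, ExpChar k q := ⟨ringExpChar k, inferInstance⟩
  obtain ⟨e, he⟩ := exists_finrank_eq_card_ker q α
  rw [finrank_const α b (GrpField.unitPt B), he]
  have hc : Nat.card {a : 𝟙_ (Over (Spec (CommRingCat.of k))) ⟶ A // a ≫ α = 1} = Nat.card (ptsMap α).ker :=
    Nat.card_congr (Equiv.subtypeEquiv Additive.ofMul fun a => Iff.rfl)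
  rw [hc]
  have hne : Nat.card (ptsMap α).ker ≠ 0 := Nat.card_pos.ne'
  have hq : ¬ l ∣ q := fun hdvd => by
    rcases (inferInstance : ExpChar k q) with _ | hq
    · exact (Fact.out : l.Prime).one_lt.ne' (Nat.dvd_one.1 hdvd)
    · exact hl ((CharP.cast_eq_zero_iff k q l).2 ((Nat.prime_dvd_prime_iff_eq Fact.out hq).1 hdvd ▸ dvd_rfl))
  rw [padicValNat.mul hne (pow_ne_zero e (expChar_pos k q).ne'),
    padicValNat.eq_zero_of_not_dvd (fun h => hq ((Fact.out : l.Prime).dvd_of_dvd_pow h)), add_zero]

end AVAmpleLib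

end
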