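import Groth.Agent.AVAmpleLib.EulerPoly
import Groth.Agent.AVAmpleLib.DegDet

/-!
The degree of a homomorphism is a homogeneous polynomial function.
-/

set_option autoImplicit false
set_option linter.style.haveILetI false
set_option linter.unusedSectionVars false
set_option backward.isDefEq.respectTransparency false
set_option maxHeartbeats 1000000

noncomputable section

universe u

open CategoryTheory CategoryTheory.Limits MonoidalCategory CartesianMonoidalCategory MonObj AlgebraicGeometry TopologicalSpace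
open CubeConsLib

namespace AVAmpleLib

variable {k : Type u} [Field k]

theorem isIntegral_left (A : Over (Spec (CommRingCat.of k))) [GeometricallyIntegral A.hom] : IsIntegral A.left :=
  GeometricallyIntegral.isIntegral_of_subsingleton A.hom

attribute [local instance] isIntegral_left

theorem lofp_hom (A : Over (Spec (CommRingCat.of k))) [IsProper A.hom] : LocallyOfFinitePresentation A.hom :=
  LocallyOfFinitePresentation.iff_locallyOfFiniteType.2 inferInstance

theorem flat_hom (A : Over (Spec (CommRingCat.of k))) [GrpObj A] [IsProper A.hom] [GeometricallyIntegral A.hom] :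
    Flat A.hom := by
  haveI := smooth_hom A
  infer_instance

attribute [local instance] lofp_hom flat_hom

section Forms

variable {A B : Over (Spec (CommRingCat.of k))} [GrpObj A] [IsCommMonObj A] [IsProper A.hom] [GeometricallyIntegral A.hom]
  [GrpObj B] [IsCommMonObj B] [IsProper B.hom] [GeometricallyIntegral B.hom]

/-- A chosen symmetric ample module. -/
def symL (B : Over (Spec (CommRingCat.of k))) [GrpObj B] [IsProper B.hom] [GeometricallyIntegral B.hom] :
    B.left.Modules := (exists_symmetric_ample B).choose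

theorem symL_ample (B : Over (Spec (CommRingCat.of k))) [GrpObj B] [IsProper B.hom] [GeometricallyIntegral B.hom] :
    CohB1.IsAmple (symL B) := (exists_symmetric_ample B).choose_spec.1

/-- The pullback class of the symmetric ample module. -/
def cls (φ : EndAV.Hom A B) : PicA A.left := P (symL_ample B).1 φ.toHom

theorem cls_mem (φ : EndAV.Hom A B) : cls φ ∈ clRange A := P_mem _ _

theorem cls_neg (φ : EndAV.Hom A B) : cls (-φ) = cls φ := by
  have hsym : P (symL_ample B).1 ((𝟙 B)⁻¹ : B ⟶ B) = clA (symL_ample B).1 := by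
    rw [P_eq, clA_eq_iff]
    exact ⟨(exists_symmetric_ample B).choose_spec.2.some.symm⟩
  rw [cls, EndAV.Hom.toHom_neg, show φ.toHom⁻¹ = φ.toHom ≫ (𝟙 B)⁻¹ by rw [GrpObj.comp_inv, Category.comp_id],
    ← pullA_P, hsym]
  rfl

theorem cls_zero : cls (0 : EndAV.Hom A B) = 0 := P_zero _

theorem cls_cube (f g h : EndAV.Hom A B) :
    cls (f + g + h) + cls f + cls g + cls h = cls (f + g) + cls (f + h) + cls (g + h) := by
  have := CubeConsLib.cube (symL_ample B).1 f.toHom g.toHom h.toHom
  rw [P_zero, add_zero] at this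
  exact this

theorem cls_two (f : EndAV.Hom A B) : cls (f + f) = (4 : ℤ) • cls f := by
  have h := cls_cube f f (-f)
  rw [add_neg_cancel, cls_zero, add_neg_cancel_right, cls_neg, add_zero, add_zero] at h
  rw [show (4 : ℤ) • cls f = cls f + cls f + cls f + cls f by abel]
  exact h.symm

/-- The bilinear form of the pullback classes. -/
def bil : EndAV.Hom A B →+ EndAV.Hom A B →+ PicA A.left :=
  AddMonoidHom.mk' (fun f => AddMonoidHom.mk' (fun g => cls (f + g) - cls f - cls g) (fun g h => by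
    have := cls_cube f g h
    rw [← eq_sub_iff_add_eq, ← eq_sub_iff_add_eq, ← eq_sub_iff_add_eq] at this
    rw [← add_assoc, this]
    abel)) (fun f f' => AddMonoidHom.ext fun h => by
      have := cls_cube f f' h
      rw [← eq_sub_iff_add_eq, ← eq_sub_iff_add_eq, ← eq_sub_iff_add_eq] at this
      simp only [AddMonoidHom.mk'_apply, AddMonoidHom.add_apply]
      rw [this]
      abel)

theorem bil_self (f : EndAV.Hom A B) : bil f f = (2 : ℤ) • cls f := by
  simp only [bil, AddMonoidHom.mk'_apply, cls_two]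
  abel

theorem bil_mem (f g : EndAV.Hom A B) : bil f g ∈ clRange A :=
  sub_mem (sub_mem (cls_mem _) (cls_mem _)) (cls_mem _)

/-- The degree, extended by the top self-intersection. -/
def ndeg (g : ℕ) (φ : EndAV.Hom A B) : ℚ := top A g (cls φ) / top B g (clA (symL_ample B).1)

variable {g : ℕ} (hA : topologicalKrullDim A.left = (g : ℕ)) (hB : topologicalKrullDim B.left = (g : ℕ))

include hA in
theorem exists_ndegPoly {m : ℕ} (φ : Fin m → EndAV.Hom A B) :
    ∃ R : MvPolynomial (Fin m) ℚ, R.IsHomogeneous (2 * g) ∧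
      ∀ a : Fin m → ℤ, ndeg g (∑ i, a i • φ i) = MvPolynomial.eval (fun i => (a i : ℚ)) R := by
  let e : Fin (m * m) ≃ Fin m × Fin m := finProdFinEquiv.symm
  obtain ⟨T, hT, hT'⟩ := exists_topPoly hA (x := fun p : Fin (m * m) => bil (φ (e p).1) (φ (e p).2))
    fun _ => bil_mem _ _
  refine ⟨MvPolynomial.C ((2 : ℚ) ^ g * top B g (clA (symL_ample B).1))⁻¹ *
      MvPolynomial.bind₁ (fun p => MvPolynomial.X (e p).1 * MvPolynomial.X (e p).2) T, ?_, fun a => ?_⟩
  · exact ((hT.aeval _ fun p => (MvPolynomial.isHomogeneous_X ℚ _).mul (MvPolynomial.isHomogeneous_X ℚ _))).C_mul _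
  · set x := ∑ i, a i • φ i with hx
    have h1 : bil x x = ∑ p, (a (e p).1 * a (e p).2) • bil (φ (e p).1) (φ (e p).2) := by
      rw [Equiv.sum_comp e fun q => (a q.1 * a q.2) • bil (φ q.1) (φ q.2), Fintype.sum_prod_type, hx]
      simp only [map_sum, AddMonoidHom.finsetSum_apply, map_zsmul, AddMonoidHom.coe_smul, Pi.smul_apply,
        Finset.smul_sum, smul_smul]
      rw [Finset.sum_comm]
      refine Finset.sum_congr rfl fun i _ => Finset.sum_congr rfl fun j _ => ?_
      rw [mul_comm]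
    have h2 : (2 : ℚ) ^ g * top A g (cls x) = MvPolynomial.eval (fun p => ((a (e p).1 * a (e p).2 : ℤ) : ℚ)) T := by
      rw [← hT', ← h1, bil_self, top_zsmul hA (cls_mem x)]
      norm_num
    rw [map_mul, MvPolynomial.eval_C, ndeg]
    change _ = _ * MvPolynomial.eval₂Hom (RingHom.id ℚ) _ _
    rw [MvPolynomial.eval₂Hom_bind₁]
    simp only [map_mul, MvPolynomial.eval₂Hom_X']
    rw [show MvPolynomial.eval₂Hom (RingHom.id ℚ) (fun p => (a (e p).1 : ℚ) * (a (e p).2 : ℚ)) T =
      (2 : ℚ) ^ g * top A g (cls x) by rw [h2]; push_cast; rfl, mul_inv, mul_comm ((2 : ℚ) ^ g)⁻¹, div_eq_inv_mul]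
    field_simp

include hA hB in
theorem ndeg_eq_finrank (φ : EndAV.Hom A B) [IsFinite φ.toHom.left] (b : B.left) :
    ndeg g φ = (φ.toHom.left.finrank b : ℚ) := by
  haveI := (flat_of_isFinite φ.toHom hA hB).1
  rw [finrank_const φ.toHom b (genericPoint B.left), ndeg,
    show top A g (cls φ) = _ from (top_pullA φ.toHom hA hB ⟨_, _, rfl⟩).2,
    mul_div_assoc, div_self (top_pos (symL_ample B) hB).ne', _root_.mul_one]

variable {D : Over (Spec (CommRingCat.of k))} [GrpObj D] [IsCommMonObj D] [IsProper D.hom] [GeometricallyIntegral D.hom]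

include hA hB in
theorem ndeg_comp (φ : EndAV.Hom A B) [IsFinite φ.toHom.left] (ψ : EndAV.Hom B D) :
    ndeg g (φ ≫ ψ : EndAV.Hom A D) = ndeg g φ * ndeg g ψ := by
  haveI := (flat_of_isFinite φ.toHom hA hB).1
  rw [ndeg_eq_finrank hA hB φ (genericPoint B.left), ndeg, ndeg,
    show cls (φ ≫ ψ : EndAV.Hom A D) = pullA φ.toHom.left (cls ψ) from (pullA_P _ φ.toHom ψ.toHom).symm,
    (top_pullA φ.toHom hA hB (cls_mem ψ)).2, mul_div_assoc]

variable [IsAlgClosed k]

theorem isFinite_iff_injective (l : ℕ) [Fact l.Prime] (hl : (l : k) ≠ 0) (φ : EndAV.Hom A B) :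
    IsFinite φ.toHom.left ↔
      Function.Injective (AbDual.tateMapₗ (l := l) (T := 𝟙_ (Over (Spec (CommRingCat.of k)))) φ.toHom) :=
  ⟨tateMap_injective_of_isFinite φ.toHom l, isFinite_of_tateMap_injective φ.toHom l hl⟩

theorem isFinite_iff_det_ne_zero (l : ℕ) [Fact l.Prime] (hl : (l : k) ≠ 0) {J : Type*} [Fintype J] [DecidableEq J]
    (bA : Module.Basis J ℤ_[l] (Tate A l)) (bB : Module.Basis J ℤ_[l] (Tate B l)) (φ : EndAV.Hom A B) :
    IsFinite φ.toHom.left ↔ (LinearMap.toMatrix bA bB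
      (EndAV.Hom.tateMap l (𝟙_ (Over (Spec (CommRingCat.of k)))) φ)).det ≠ 0 := by
  rw [isFinite_iff_injective l hl]
  refine ⟨fun hinj h0 => ?_, injective_of_det_ne_zero bA bB _⟩
  obtain ⟨v, hv, hv0⟩ := Matrix.exists_mulVec_eq_zero_iff.2 h0
  refine hv ((bA.equivFun.symm.map_eq_zero_iff).1 ((injective_iff_map_eq_zero _).1 hinj _ ?_))
  refine bB.repr.map_eq_zero_iff.1 (DFunLike.coe_injective ?_)
  show ⇑(bB.repr (EndAV.Hom.tateMap l (𝟙_ (Over (Spec (CommRingCat.of k)))) φ (bA.equivFun.symm v))) = _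
  rw [← LinearMap.toMatrix_mulVec_repr bA bB,
    show ⇑(bA.repr (bA.equivFun.symm v)) = v from bA.equivFun.apply_symm_apply v, hv0]
  rfl

include hA hB in
/-- Homomorphisms which are not isogenies have degree zero, once some isogeny exists. -/
theorem ndeg_eq_zero (σ φ : EndAV.Hom A B) [IsFinite σ.toHom.left] (hφ : ¬ IsFinite φ.toHom.left) : ndeg g φ = 0 := by
  obtain ⟨l, hlp, hl⟩ := exists_prime_ne_zero k
  obtain ⟨hfA, hfA', hrA⟩ := tate_free_finite_finrank A hA l hl
  obtain ⟨hfB, hfB', hrB⟩ := tate_free_finite_finrank B hB l hl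
  let bA := Module.finBasisOfFinrankEq ℤ_[l] (Tate A l) hrA
  let bB := Module.finBasisOfFinrankEq ℤ_[l] (Tate B l) hrB
  let M : EndAV.Hom A B → Matrix (Fin (2 * g)) (Fin (2 * g)) ℤ_[l] := fun ψ =>
    LinearMap.toMatrix bA bB (EndAV.Hom.tateMap l (𝟙_ (Over (Spec (CommRingCat.of k)))) ψ)
  have hlin : ∀ t : ℕ, M (φ + t • σ) = M φ + (t : ℤ_[l]) • M σ := fun t => by
    simp only [M, map_add, map_nsmul, Nat.cast_smul_eq_nsmul]
  let q : Polynomial ℤ_[l] := ((Polynomial.X : Polynomial ℤ_[l]) • (M σ).map Polynomial.C + (M φ).map Polynomial.C).det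
  have hq : ∀ c, q.eval c = (M φ + c • M σ).det := fun c => by
    rw [← Polynomial.coe_evalRingHom, RingHom.map_det]
    congr 1
    ext i j
    simp [Matrix.add_apply, Matrix.smul_apply]
    ring
  have hq0 : q.eval 0 = 0 := by
    rw [hq, zero_smul, add_zero]
    exact not_not.1 fun h => hφ ((isFinite_iff_det_ne_zero l hl bA bB φ).2 h)
  have hqne : q ≠ 0 := fun h => by
    have h1 := Polynomial.coeff_det_X_add_C_card (M σ) (M φ)
    rw [show ((Polynomial.X : Polynomial ℤ_[l]) • (M σ).map Polynomial.C + (M φ).map Polynomial.C).det = q from rfl, h,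
      Polynomial.coeff_zero] at h1
    exact (isFinite_iff_det_ne_zero l hl bA bB σ).1 inferInstance h1.symm
  obtain ⟨q', hq'⟩ : Polynomial.X ∣ q := by
    rw [Polynomial.X_dvd_iff, Polynomial.coeff_zero_eq_eval_zero]
    exact hq0
  obtain ⟨R, hR, hR'⟩ := exists_ndegPoly hA ![φ, σ]
  let p : Polynomial ℚ := MvPolynomial.aeval ![1, Polynomial.X] R
  have hp : ∀ t : ℕ, p.eval (t : ℚ) = ndeg g (φ + t • σ) := fun t => by
    have := hR' ![1, (t : ℤ)]
    simp only [Fin.sum_univ_two, Matrix.cons_val_zero, Matrix.cons_val_one, one_zsmul, natCast_zsmul] at this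
    rw [this, ← Polynomial.coe_evalRingHom]
    show Polynomial.evalRingHom (t : ℚ) (MvPolynomial.aeval _ R) = _
    rw [MvPolynomial.aeval_def, MvPolynomial.eval₂_comp_left,
      show (Polynomial.evalRingHom (t : ℚ)).comp (algebraMap ℚ (Polynomial ℚ)) = RingHom.id ℚ from
        RingHom.ext fun q => by simp, MvPolynomial.eval₂_id]
    congr 2
    funext i
    fin_cases i <;> simp
  obtain ⟨b₀, hb₀, hb⟩ := IsLocalization.integerNormalization_spec (nonZeroDivisors ℤ) p
  let b : nonZeroDivisors ℤ := ⟨b₀, hb₀⟩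
  set P := IsLocalization.integerNormalization (nonZeroDivisors ℤ) p
  have hP : ∀ t : ℕ, ((P.eval (t : ℤ) : ℤ) : ℚ) = (b : ℤ) * p.eval (t : ℚ) := fun t => by
    have := congrArg (Polynomial.eval (t : ℚ)) hb
    rw [Polynomial.eval_smul, zsmul_eq_mul, Polynomial.eval_natCast_map] at this
    simpa using this
  suffices h0 : P.eval 0 = 0 by
    have := hP 0
    rw [Nat.cast_zero, h0, Int.cast_zero, hp, zero_nsmul, add_zero, eq_comm, mul_eq_zero] at this
    exact this.resolve_left (by exact_mod_cast nonZeroDivisors.coe_ne_zero b)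
  have hinj : Function.Injective fun j : ℕ => ((l : ℤ_[l]) ^ j) := fun i j h => by
    have := congrArg PadicInt.valuation h
    simpa [PadicInt.valuation_pow] using this
  obtain ⟨N, hN⟩ : ∃ N, ∀ j, N ≤ j → q.eval ((l : ℤ_[l]) ^ j) ≠ 0 := by
    have hfin : Set.Finite {j : ℕ | q.eval ((l : ℤ_[l]) ^ j) = 0} :=
      Set.Finite.of_finite_image ((Polynomial.finite_setOfPred_isRoot hqne).subset (by rintro _ ⟨j, hj, rfl⟩; exact hj))
        hinj.injOn
    obtain ⟨N, hN⟩ := hfin.bddAbove
    exact ⟨N + 1, fun j hj h => by have := hN h; omega⟩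
  refine Int.eq_zero_of_abs_lt_dvd (m := (l : ℤ) ^ (N + (P.eval 0).natAbs)) ?_ ?_
  · set j := N + (P.eval 0).natAbs
    have hne := hN j (Nat.le_add_right _ _)
    set ψ := φ + (l ^ j) • σ
    have hψ : M ψ = M φ + ((l : ℤ_[l]) ^ j) • M σ := by rw [hlin, Nat.cast_pow]
    haveI : IsFinite ψ.toHom.left := (isFinite_iff_det_ne_zero l hl bA bB ψ).2 (by
      show (M ψ).det ≠ 0
      rwa [hψ, ← hq])
    have hv : j ≤ padicValNat l (ψ.toHom.left.finrank (genericPoint B.left)) := by
      rw [padicValNat_finrank l hl hA hB ψ.toHom (genericPoint B.left) bA bB]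
      show j ≤ (M ψ).det.valuation
      rw [hψ, ← hq, hq', Polynomial.eval_mul, Polynomial.eval_X, PadicInt.valuation_mul (pow_ne_zero _ (by
        exact_mod_cast hlp.out.ne_zero)) (fun h => hne (by rw [hq', Polynomial.eval_mul, h, mul_zero])),
        PadicInt.valuation_pow, PadicInt.valuation_p, _root_.mul_one]
      exact Nat.le_add_right _ _
    have hdvd : (l : ℤ) ^ j ∣ P.eval ((l ^ j : ℕ) : ℤ) := by
      have h1 : P.eval ((l ^ j : ℕ) : ℤ) = (b : ℤ) * ψ.toHom.left.finrank (genericPoint B.left) := by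
        have := hP (l ^ j)
        rw [hp, ndeg_eq_finrank hA hB ψ (genericPoint B.left)] at this
        exact_mod_cast this
      rw [h1]
      refine Dvd.dvd.mul_left ?_ _
      exact_mod_cast (pow_dvd_pow l hv).trans pow_padicValNat_dvd
    have h2 := P.sub_dvd_eval_sub ((l ^ j : ℕ) : ℤ) 0
    rw [sub_zero, Nat.cast_pow] at h2
    rw [Nat.cast_pow] at hdvd
    simpa using dvd_sub hdvd h2
  · calc |P.eval 0| = ((P.eval 0).natAbs : ℤ) := Int.abs_eq_natAbs _
      _ < (l : ℤ) ^ (N + (P.eval 0).natAbs) := by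
        exact_mod_cast lt_of_lt_of_le (Nat.lt_pow_self hlp.out.one_lt)
          (Nat.pow_le_pow_right hlp.out.pos (Nat.le_add_left _ N))

include hA hB in
/-- The degree as a homogeneous polynomial. -/
theorem exists_degreePoly {m : ℕ} (φ : Fin m → EndAV.Hom A B) :
    ∃ R : MvPolynomial (Fin m) ℚ, R.IsHomogeneous (2 * g) ∧ ∀ a : Fin m → ℤ,
      (IsFinite (∑ i, a i • φ i).toHom.left → ∀ b : B.left,
        ((∑ i, a i • φ i).toHom.left.finrank b : ℚ) = MvPolynomial.eval (fun i => (a i : ℚ)) R) ∧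
      (¬ IsFinite (∑ i, a i • φ i).toHom.left → MvPolynomial.eval (fun i => (a i : ℚ)) R = 0) := by
  by_cases h : ∃ a : Fin m → ℤ, IsFinite (∑ i, a i • φ i).toHom.left
  · obtain ⟨c, hc⟩ := h
    obtain ⟨R, hR, hR'⟩ := exists_ndegPoly hA φ
    refine ⟨R, hR, fun a => ⟨fun hf b => ?_, fun hf => ?_⟩⟩
    · rw [← hR', ndeg_eq_finrank hA hB _ b]
    · rw [← hR', ndeg_eq_zero hA hB (∑ i, c i • φ i) _ hf]
  · exact ⟨0, MvPolynomial.isHomogeneous_zero _ _ _, fun a => ⟨fun hf => (h ⟨a, hf⟩).elim, fun _ => map_zero _⟩⟩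

end Forms

end AVAmpleLib

end
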