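import Groth.Agent.S1573
import Groth.Agent.S1700
import Groth.Agent.DevissLib.ClosedImm
import Mathlib.AlgebraicGeometry.Stalk

/-!
The complement of a dense affine open is an effective Cartier divisor when the local rings are factorial.
-/

set_option autoImplicit false
set_option maxRecDepth 8000

noncomputable section

universe u

open CategoryTheory AlgebraicGeometry TopologicalSpace

namespace AVAmpleLib

theorem isAffineHom_ι {X : Scheme.{u}}
    (hΔ : ∀ V W : X.Opens, IsAffineOpen V → IsAffineOpen W → IsAffineOpen (V ⊓ W))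
    {U : X.Opens} (hU : IsAffineOpen U) : IsAffineHom U.ι :=
  ⟨fun V hV => by
    rw [← U.ι.isAffineOpen_iff_of_isOpenImmersion, U.ι.image_preimage_eq_opensRange_inf, Scheme.Opens.opensRange_ι]
    exact hΔ _ _ hU hV⟩

theorem not_assoc_of_not_min {R : Type u} [CommRing R] [IsLocalRing R] [IsNoetherianRing R]
    [_root_.IsReduced R]
    (h : IsAssociatedPrime (IsLocalRing.maximalIdeal R) R) :
    IsLocalRing.maximalIdeal R ∈ minimalPrimes R := by
  by_contra hm
  rw [isAssociatedPrime_iff_exists_injective_linearMap] at h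
  obtain ⟨-, φ, hφ⟩ := h
  let y : R := φ 1
  have hy : ∀ a ∈ IsLocalRing.maximalIdeal R, a * y = 0 := fun a ha => by
    rw [← smul_eq_mul, ← φ.map_smul]
    have : a • (1 : R ⧸ IsLocalRing.maximalIdeal R) = 0 := by
      rw [Algebra.smul_def, mul_one]
      exact Ideal.Quotient.eq_zero_iff_mem.2 ha
    rw [this, map_zero]
  have hy0 : y ≠ 0 := fun e => one_ne_zero (hφ (e.trans φ.map_zero.symm))
  refine hy0 ?_
  have : y ∈ nilradical R := by
    rw [nilradical_eq_sInf]
    refine Ideal.mem_sInf.2 fun {p} hp => ?_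
    have hp' : p.IsPrime := hp
    obtain ⟨q, hq, hqp⟩ := Ideal.exists_minimalPrimes_le (I := (⊥ : Ideal R)) (J := p) bot_le
    refine hqp ?_
    have hne : q ≠ IsLocalRing.maximalIdeal R := fun e => hm (e ▸ hq)
    obtain ⟨a, ha, haq⟩ : ∃ a ∈ IsLocalRing.maximalIdeal R, a ∉ q := by
      by_contra! hc
      exact hne (le_antisymm (IsLocalRing.le_maximalIdeal hq.1.1.ne_top) hc)
    exact (hq.1.1.mem_or_mem (show a * y ∈ q by rw [hy a ha]; exact q.zero_mem)).resolve_left haq
  exact IsReduced.eq_zero y this

theorem exists_effCartier_compl {X : Scheme.{u}} [IsNoetherian X]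
    (U : X.Opens) [IsAffineHom U.ι] (hdense : Dense (U : Set X))
    (hufd : ∀ x : X, x ∉ U → IsDomain (X.presheaf.stalk x) ∧ UniqueFactorizationMonoid (X.presheaf.stalk x)) :
    ∃ D : X.IdealSheafData, BlowUp.IsEffCartierIdeal D ∧ (D.support : Set X) = (U : Set X)ᶜ := by
  let C : Closeds X := ⟨(U : Set X)ᶜ, U.2.isClosed_compl⟩
  let D := Scheme.IdealSheafData.vanishingIdeal C
  have hsupp : (D.support : Set X) = (U : Set X)ᶜ := by
    rw [Scheme.IdealSheafData.coe_support_vanishingIdeal]
    rfl
  haveI : AlgebraicGeometry.IsReduced D.subscheme := DevissLib.isReduced_vanishingIdeal' _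
  haveI : IsLocallyNoetherian D.subscheme := LocallyOfFiniteType.isLocallyNoetherian D.subschemeι
  refine ⟨D, Groth.Agent.S1700.result X D ?_ ?_ (fun x hx => hufd x ?_), hsupp⟩
  · intro z hz z' hz'
    have hmin := not_assoc_of_not_min hz
    have hr : z' ∈ Set.range (D.subscheme.fromSpecStalk z) := by
      rw [Scheme.range_fromSpecStalk]; exact hz'
    obtain ⟨p, rfl⟩ := hr
    have hp : p = IsLocalRing.closedPoint _ := PrimeSpectrum.ext
      (le_antisymm (IsLocalRing.le_maximalIdeal p.isPrime.ne_top) (hmin.2 ⟨p.isPrime, bot_le⟩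
        (IsLocalRing.le_maximalIdeal p.isPrime.ne_top)))
    rw [hp]
    exact Scheme.fromSpecStalk_closedPoint
  · intro z hz
    have hzU : D.subschemeι z ∉ U := fun h => by
      have : D.subschemeι z ∈ (D.support : Set X) := by
        rw [← Scheme.IdealSheafData.range_subschemeι]; exact ⟨z, rfl⟩
      rw [hsupp] at this
      exact this h
    refine (Groth.Agent.S1573.result X U (D.subschemeι z) hzU fun y hy hyz => ?_).2 hdense
    obtain ⟨w, rfl⟩ : y ∈ Set.range D.subschemeι := by
      rw [Scheme.IdealSheafData.range_subschemeι, hsupp]; exact hy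
    exact congrArg D.subschemeι (hz w (D.subschemeι.isClosedEmbedding.isInducing.specializes_iff.1 hyz))
  · have : x ∈ (D.support : Set X) := hx
    rw [hsupp] at this
    exact this

end AVAmpleLib
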