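import Groth.Agent.AVAmpleLib.DegDet
import Groth.Agent.H0Lib.Group
import Groth.Agent.S7948
import Mathlib.AlgebraicGeometry.Group.Affine
import Mathlib.AlgebraicGeometry.Sites.Fpqc

/-!
Finite group schemes over a field are killed by their rank, and isogenies have quasi-inverses.
-/

set_option autoImplicit false
set_option linter.style.haveILetI false
set_option backward.isDefEq.respectTransparency false
set_option maxHeartbeats 1000000

noncomputable section

universe u

open CategoryTheory CategoryTheory.Limits MonoidalCategory CartesianMonoidalCategory MonObj AlgebraicGeometry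

namespace AVAmpleLib

variable {k : Type u} [Field k]

/-- A finite group scheme over a field is killed by a positive integer. -/
theorem exists_pow_eq_one_of_finite (N : Over (Spec (CommRingCat.of k))) [GrpObj N] [IsFinite N.hom] :
    ∃ n : ℕ, 0 < n ∧ (𝟙 N) ^ n = 1 := by
  haveI : IsAffine N.left := isAffine_of_isAffineHom N.hom
  obtain ⟨H, ⟨e⟩⟩ : (hopfSpec (CommRingCat.of k)).essImage (Grp.mk N) :=
    (essImage_hopfSpec (R := CommRingCat.of k) (G := Grp.mk N)).2 inferInstance
  let B := H.unop.X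
  letI : CommRing B := H.unop.commRing
  letI : HopfAlgebra k B := H.unop.hopfAlgebra
  let v : (Spec (CommRingCat.of B)).asOver (Spec (CommRingCat.of k)) ≅ N := (Grp.forget _).mapIso e
  haveI : IsMonHom v.hom := e.hom.hom.isMonHom_hom
  haveI : IsFinite (Spec.map (CommRingCat.ofHom (algebraMap k B))) := by
    haveI : IsIso v.hom.left := inferInstanceAs (IsIso ((Over.forget _).map v.hom))
    rw [show Spec.map (CommRingCat.ofHom (algebraMap k B)) = v.hom.left ≫ N.hom from (Over.w v.hom).symm]
    infer_instance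
  haveI : Module.Finite k B := RingHom.finite_algebraMap.1 ((IsFinite.SpecMap_iff (CommRingCat.ofHom (algebraMap k B))).1 inferInstance)
  haveI : Nontrivial B := (Bialgebra.counitAlgHom k B).toRingHom.domain_nontrivial
  refine ⟨Module.finrank k B, Module.finrank_pos, ?_⟩
  have h1 : WithConv.toConv (AlgHom.id k B) ^ Module.finrank k B = 1 :=
    Groth.Agent.S7948.result k B _ (fun p => by rw [Module.rankAtStalk_eq_finrank_of_free]; rfl) B (AlgHom.id k B)
  have h2 := congrArg (Spec.mapMulEquiv (R := k) (S := B) (T := B)) h1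
  rw [map_pow, map_one] at h2
  have h3 : Spec.mapMulEquiv (R := k) (S := B) (T := B) (WithConv.toConv (AlgHom.id k B)) = 𝟙 _ := by
    ext1
    show Spec.map (CommRingCat.ofHom (AlgHom.id k B).toRingHom) = _
    rw [show (AlgHom.id k B).toRingHom = RingHom.id B from rfl, CommRingCat.ofHom_id, Spec.map_id]
    rfl
  rw [h3] at h2
  have h4 := congrArg (fun t => t ≫ v.hom) h2
  simp only [MonObj.pow_comp, Category.id_comp, MonObj.one_comp] at h4
  rw [← cancel_epi v.hom, MonObj.comp_pow, Category.comp_id, h4, MonObj.comp_one]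

variable {A B C : Over (Spec (CommRingCat.of k))} [GrpObj A] [GrpObj B] [GrpObj C]

/-- A homomorphism killing the kernel of a flat surjective finite homomorphism factors through it. -/
theorem exists_desc_flat [IsProper B.hom] [GeometricallyIntegral B.hom] [IsSeparated C.hom]
    (f : A ⟶ B) [IsMonHom f] [IsFinite f.left] [Flat f.left] [Surjective f.left]
    (φ : A ⟶ C) [IsMonHom φ]
    (hker : ∀ {T : Over (Spec (CommRingCat.of k))} (a : T ⟶ A), a ≫ f = 1 → a ≫ φ = 1) :
    ∃ ψ : B ⟶ C, IsMonHom ψ ∧ f ≫ ψ = φ := by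
  have key : ∀ {Z : Over (Spec (CommRingCat.of k))} (g₁ g₂ : Z ⟶ A), g₁ ≫ f = g₂ ≫ f → g₁ ≫ φ = g₂ ≫ φ := by
    intro Z g₁ g₂ hg
    have h0 := hker (g₁ * g₂⁻¹) (by rw [MonObj.mul_comp, GrpObj.inv_comp, hg, mul_inv_cancel])
    rwa [MonObj.mul_comp, GrpObj.inv_comp, mul_inv_eq_one] at h0
  haveI : EffectiveEpi f.left := inferInstance
  have hl : ∀ {Z : Scheme.{u}} (g₁ g₂ : Z ⟶ A.left), g₁ ≫ f.left = g₂ ≫ f.left → g₁ ≫ φ.left = g₂ ≫ φ.left := by
    intro Z g₁ g₂ hg
    have hw : g₂ ≫ A.hom = g₁ ≫ A.hom := by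
      rw [← Over.w f, ← Category.assoc, ← hg, Category.assoc]
    exact congrArg CommaMorphism.left
      (key (Over.homMk g₁ rfl : Over.mk (g₁ ≫ A.hom) ⟶ A) (Over.homMk g₂ hw) (Over.OverMorphism.ext hg))
  haveI : Epi f.left := inferInstance
  let ψ : B ⟶ C := Over.homMk (EffectiveEpi.desc f.left φ.left hl) (by
    rw [← cancel_epi f.left, EffectiveEpi.fac_assoc, Over.w, Over.w])
  have hψ : f ≫ ψ = φ := Over.OverMorphism.ext (EffectiveEpi.fac f.left φ.left hl)
  refine ⟨ψ, ?_, hψ⟩
  haveI := H0Lib.geometricallyConnected_of_integral B.hom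
  haveI : LocallyOfFinitePresentation B.hom := LocallyOfFinitePresentation.iff_locallyOfFiniteType.2 inferInstance
  refine H0Lib.isMonHom_of_one_comp ψ ?_
  rw [← IsMonHom.one_hom f, Category.assoc, hψ, IsMonHom.one_hom]

/-- An isogeny has a quasi-inverse. -/
theorem exists_quasi_inverse [IsCommMonObj A] [IsCommMonObj B] [IsProper A.hom] [GeometricallyIntegral A.hom]
    [IsProper B.hom] [GeometricallyIntegral B.hom] (f : A ⟶ B) [IsMonHom f] [IsFinite f.left] [Surjective f.left] :
    ∃ (n : ℕ) (ψ : B ⟶ A), 0 < n ∧ IsMonHom ψ ∧ f ≫ ψ = 𝟙 A ^ n ∧ ψ ≫ f = 𝟙 B ^ n := by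
  haveI : LocallyOfFinitePresentation A.hom := LocallyOfFinitePresentation.iff_locallyOfFiniteType.2 inferInstance
  haveI := smooth_hom B
  haveI : Flat f.left := AbSchLib.flat_of_surjective f
  let e : Spec (CommRingCat.of k) ⟶ B.left := (η[B] : 𝟙_ (Over (Spec (CommRingCat.of k))) ⟶ B).left
  let N : Over (Spec (CommRingCat.of k)) := Over.mk (pullback.snd f.left e)
  let i : N ⟶ A := Over.homMk (pullback.fst f.left e) (by
    show pullback.fst f.left e ≫ A.hom = pullback.snd f.left e
    have he : e ≫ B.hom = 𝟙 (Spec (CommRingCat.of k)) := Over.w (η[B] : 𝟙_ (Over (Spec (CommRingCat.of k))) ⟶ B)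
    rw [← Over.w f, ← Category.assoc, pullback.condition, Category.assoc, he, Category.comp_id])
  haveI : IsClosedImmersion e := isClosedImmersion_of_comp_eq_id B.hom e (Over.w _)
  haveI : IsClosedImmersion i.left := inferInstanceAs (IsClosedImmersion (pullback.fst f.left e))
  haveI : Mono i.left := inferInstance
  haveI : Mono i := Functor.mono_of_mono_map (Over.forget _) (inferInstanceAs (Mono i.left))
  have hfac : ∀ {T : Over (Spec (CommRingCat.of k))} (a : T ⟶ A), a ≫ f = 1 → ∃ t : T ⟶ N, t ≫ i = a := by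
    intro T a ha
    have hl : a.left ≫ f.left = T.hom ≫ e := by
      rw [← Over.comp_left, ha, Hom.one_def, Over.comp_left]
      rfl
    exact ⟨Over.homMk (pullback.lift a.left T.hom hl) (pullback.lift_snd _ _ _),
      Over.OverMorphism.ext (pullback.lift_fst _ _ _)⟩
  have hif : i ≫ f = 1 := Over.OverMorphism.ext (by
    rw [Over.comp_left, Hom.one_def, Over.comp_left]
    exact pullback.condition)
  obtain ⟨m, hm⟩ := hfac ((fst N N ≫ i) * (snd N N ≫ i)) (by
    rw [MonObj.mul_comp, Category.assoc, Category.assoc, hif, MonObj.comp_one, MonObj.comp_one, _root_.mul_one])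
  obtain ⟨o, ho⟩ := hfac (1 : 𝟙_ (Over (Spec (CommRingCat.of k))) ⟶ A) (MonObj.one_comp f)
  obtain ⟨v, hv⟩ := hfac i⁻¹ (by rw [GrpObj.inv_comp, hif, inv_one])
  letI : GrpObj N :=
    { one := o
      mul := m
      one_mul := by
        rw [← cancel_mono i]
        simp [hm, ho, MonObj.comp_mul, MonObj.comp_one, leftUnitor_hom]
      mul_one := by
        rw [← cancel_mono i]
        simp [hm, ho, MonObj.comp_mul, MonObj.comp_one, rightUnitor_hom]
      mul_assoc := by
        rw [← cancel_mono i]
        simp [hm, MonObj.comp_mul, _root_.mul_assoc]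
      inv := v
      left_inv := by
        rw [← cancel_mono i]
        simp [hm, ho, hv, MonObj.comp_mul, GrpObj.comp_inv, MonObj.comp_one]
      right_inv := by
        rw [← cancel_mono i]
        simp [hm, ho, hv, MonObj.comp_mul, GrpObj.comp_inv, MonObj.comp_one] }
  haveI : IsMonHom i :=
    { one_hom := ho.trans (by rw [Hom.one_def, toUnit_unique (toUnit _) (𝟙 _), Category.id_comp])
      mul_hom := hm.trans (by rw [Hom.mul_def]; congr 1) }
  haveI : IsFinite N.hom := inferInstanceAs (IsFinite (pullback.snd f.left e))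
  obtain ⟨n, hn, hNn⟩ := exists_pow_eq_one_of_finite N
  haveI : IsMonHom (𝟙 A ^ n) := by
    rw [← zpow_natCast]
    exact AbSchLib.isMonHom_zpow A (n : ℤ)
  obtain ⟨ψ, hψm, hψ⟩ := exists_desc_flat f (𝟙 A ^ n) fun a ha => by
    obtain ⟨t, rfl⟩ := hfac a ha
    rw [Category.assoc, MonObj.comp_pow, Category.comp_id, show i ^ n = (𝟙 N ^ n) ≫ i by
      rw [MonObj.pow_comp, Category.id_comp], hNn, MonObj.one_comp, MonObj.comp_one]
  refine ⟨n, ψ, hn, hψm, hψ, ?_⟩
  haveI : Epi f.left := inferInstance
  haveI : Epi f := Functor.epi_of_epi_map (Over.forget _) (inferInstanceAs (Epi f.left))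
  rw [← cancel_epi f, ← Category.assoc, hψ, MonObj.pow_comp, MonObj.comp_pow, Category.id_comp, Category.comp_id]

end AVAmpleLib

end
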