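import Groth.Agent.AVAmpleLib.EndInt
import Groth.Agent.GrpHomLib.Image
import Mathlib.RingTheory.Artinian.Module

/-!
Images of homomorphisms of abelian varieties, and endomorphisms of simple ones.
-/

set_option autoImplicit false
set_option linter.style.haveILetI false
set_option backward.isDefEq.respectTransparency false
set_option maxHeartbeats 1000000

noncomputable section

universe u

open CategoryTheory CategoryTheory.Limits MonoidalCategory CartesianMonoidalCategory MonObj AlgebraicGeometry TopologicalSpace
open scoped TensorProduct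

namespace AVAmpleLib

variable {k : Type u} [Field k]

/-- The target of a surjective, scheme theoretically dominant morphism from a geometrically integral scheme. -/
theorem geometricallyIntegral_of_dominant {A C : Over (Spec (CommRingCat.of k))} (p : A ⟶ C) [GeometricallyIntegral A.hom]
    [IsSchemeTheoreticallyDominant p.left] [QuasiCompact p.left] [Surjective p.left] : GeometricallyIntegral C.hom := by
  suffices H : ∀ (F : Type u) [Field F] [Algebra k F],
      IsIntegral (pullback C.hom (Spec.map (CommRingCat.ofHom (algebraMap k F)))) by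
    rw [GeometricallyIntegral.eq_geometricallyReduced_inf_geometricallyIrreducible]
    refine ⟨⟨geometrically_iff_of_commRing_of_isClosedUnderIsomorphisms.mpr fun F _ _ => ?_⟩,
      ⟨geometrically_iff_of_commRing_of_isClosedUnderIsomorphisms.mpr fun F _ _ => ?_⟩⟩ <;>
    · haveI := H F
      infer_instance
  intro F _ _
  let g := Spec.map (CommRingCat.ofHom (algebraMap k F))
  haveI : Flat g := by
    rw [HasRingHomProperty.Spec_iff (P := @Flat)]
    show RingHom.Flat (algebraMap k F)
    rw [RingHom.flat_algebraMap_iff]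
    infer_instance
  haveI : IsIntegral (pullback A.hom g) :=
    GeometricallyIntegral.geometrically_isIntegral g _ _ (IsPullback.of_hasPullback _ _)
  let q := ((Over.pullback g).map p).left
  have hq : IsPullback q (pullback.fst A.hom g) (pullback.fst C.hom g) p.left := by
    refine IsPullback.of_right (h₁₂ := pullback.snd C.hom g) (v₁₃ := g) (h₂₂ := C.hom) ?_ ?_
      (IsPullback.of_hasPullback C.hom g).flip
    · rw [Over.w p, show q ≫ pullback.snd C.hom g = pullback.snd A.hom g from Over.w ((Over.pullback g).map p)]
      exact (IsPullback.of_hasPullback A.hom g).flip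
    · exact pullback.lift_fst _ _ _
  haveI : Flat (pullback.fst C.hom g) := MorphismProperty.pullback_fst _ _ inferInstance
  haveI : IsIntegral ((Over.pullback g).obj A).left := inferInstanceAs (IsIntegral (pullback A.hom g))
  haveI : QuasiCompact q := MorphismProperty.of_isPullback hq.flip ‹QuasiCompact p.left›
  haveI : IsSchemeTheoreticallyDominant q := IsSchemeTheoreticallyDominant.of_isPullback hq.flip
  haveI : Surjective q := MorphismProperty.of_isPullback hq.flip ‹Surjective p.left›
  haveI : IsReduced (pullback C.hom g) := IsSchemeTheoreticallyDominant.isReduced q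
  haveI : Nonempty ↥(pullback C.hom g) := ⟨q (Classical.arbitrary _)⟩
  haveI : IrreducibleSpace ↥(pullback C.hom g) := by
    have h : IsPreirreducible (Set.univ : Set ↥(pullback C.hom g)) := by
      rw [← q.surjective.range_eq, ← Set.image_univ]
      exact (IrreducibleSpace.isIrreducible_univ _).2.image _ q.continuous.continuousOn
    exact { isPreirreducible_univ := h, toNonempty := inferInstance }
  exact isIntegral_of_irreducibleSpace_of_isReduced _

variable {A : Over (Spec (CommRingCat.of k))} [GrpObj A] [IsCommMonObj A] [IsProper A.hom] [GeometricallyIntegral A.hom]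

/-- A nonzero endomorphism of a simple abelian variety is dominant, so can be cancelled. -/
theorem eq_one_of_comp_eq_one
    (hsimple : ∀ (B : Over (Spec (CommRingCat.of k))) [GrpObj B] [GeometricallyIntegral B.hom] (i : B ⟶ A) [IsMonHom i]
      [IsClosedImmersion i.left], Subsingleton B.left ∨ IsIso i)
    (f : A ⟶ A) [IsMonHom f] (hf : f ≠ 1) (ψ : A ⟶ A) (h : f ≫ ψ = 1) : ψ = 1 := by
  haveI : IsIntegral A.left := GeometricallyIntegral.isIntegral_of_subsingleton A.hom
  haveI := isProper_endo A f
  obtain ⟨C, _, i, p, hi, hp, hpi, hcl, hdom, hqc, hsurj⟩ := Groth.Agent.GrpHom.exists_image f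
  haveI := geometricallyIntegral_of_dominant p
  rcases hsimple C i with hsub | hiso
  · exfalso
    apply hf
    haveI : IsSeparated C.hom := by rw [← Over.w i]; infer_instance
    haveI : IsIntegral C.left := GeometricallyIntegral.isIntegral_of_subsingleton C.hom
    let e : Spec (CommRingCat.of k) ⟶ C.left := (η[C] : 𝟙_ (Over (Spec (CommRingCat.of k))) ⟶ C).left
    haveI : IsClosedImmersion e := isClosedImmersion_of_comp_eq_id C.hom e (Over.w _)
    haveI : Surjective e := ⟨fun c => ⟨IsLocalRing.closedPoint k, hsub.elim _ _⟩⟩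
    haveI := isIso_of_isClosedImmersion_of_surjective e
    haveI : IsIso (η[C] : 𝟙_ (Over (Spec (CommRingCat.of k))) ⟶ C) := by
      haveI : IsIso ((Over.forget _).map (η[C] : 𝟙_ (Over (Spec (CommRingCat.of k))) ⟶ C)) := inferInstanceAs (IsIso e)
      exact isIso_of_reflects_iso _ (Over.forget _)
    have hp1 : p = 1 := by
      rw [Hom.one_def, ← cancel_mono (inv (η[C] : 𝟙_ (Over (Spec (CommRingCat.of k))) ⟶ C))]
      exact toUnit_unique _ _
    rw [← hpi, hp1, MonObj.one_comp]
  · haveI : IsIso i.left := inferInstanceAs (IsIso ((Over.forget _).map i))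
    haveI : IsDominant f.left := by
      rw [← hpi, Over.comp_left]
      haveI : Surjective (p.left ≫ i.left) := inferInstance
      infer_instance
    refine Over.OverMorphism.ext (ext_of_isDominant_of_isSeparated A.hom (by rw [Over.w, Over.w]) f.left ?_)
    rw [← Over.comp_left, ← Over.comp_left, h, MonObj.comp_one]

/-- Every element of `End⁰` is a rational multiple of an endomorphism. -/
theorem exists_tmul (x : EndAV.End0 A) : ∃ (q : ℚ) (φ : EndAV.End A), x = q ⊗ₜ[ℤ] φ := by
  induction x using TensorProduct.induction_on with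
  | zero => exact ⟨0, 0, (TensorProduct.zero_tmul _ _).symm⟩
  | tmul q φ => exact ⟨q, φ, rfl⟩
  | add x y hx hy =>
    obtain ⟨q, φ, rfl⟩ := hx
    obtain ⟨r, ψ, rfl⟩ := hy
    refine ⟨((q.den * r.den : ℤ) : ℚ)⁻¹, (q.num * r.den) • φ + (r.num * q.den) • ψ, ?_⟩
    rw [TensorProduct.tmul_add, ← TensorProduct.smul_tmul, ← TensorProduct.smul_tmul]
    have hq : (q.den : ℚ) ≠ 0 := by exact_mod_cast q.den_nz
    have hr : (r.den : ℚ) ≠ 0 := by exact_mod_cast r.den_nz
    congr 2
    · rw [zsmul_eq_mul]
      push_cast
      conv_lhs => rw [← Rat.num_div_den q]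
      field_simp
    · rw [zsmul_eq_mul]
      push_cast
      conv_lhs => rw [← Rat.num_div_den r]
      field_simp

theorem isUnit_end0
    (hsimple : ∀ (B : Over (Spec (CommRingCat.of k))) [GrpObj B] [GeometricallyIntegral B.hom] (i : B ⟶ A) [IsMonHom i]
      [IsClosedImmersion i.left], Subsingleton B.left ∨ IsIso i)
    (x : EndAV.End0 A) (hx : x ≠ 0) : IsUnit x := by
  haveI := fg_end A
  haveI : Module.Finite ℚ (EndAV.End0 A) := inferInstanceAs (Module.Finite ℚ (ℚ ⊗[ℤ] EndAV.End A))
  haveI : IsArtinianRing (EndAV.End0 A) := IsArtinianRing.of_finite ℚ _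
  rw [IsArtinianRing.isUnit_iff_mem_nonZeroDivisors]
  have hmul : ∀ φ ψ : EndAV.End A, φ * ψ = 0 → φ = 0 ∨ ψ = 0 := fun φ ψ h => by
    refine or_iff_not_imp_right.2 fun hψ => EndAV.Hom.ext ?_
    refine eq_one_of_comp_eq_one hsimple ψ.toHom (fun e => hψ (EndAV.Hom.ext e)) φ.toHom ?_
    rw [← EndAV.End.toHom_mul, h]
    rfl
  have key : ∀ y z : EndAV.End0 A, y * z = 0 → y = 0 ∨ z = 0 := fun y z h => by
    obtain ⟨q, φ, rfl⟩ := exists_tmul y
    obtain ⟨r, ψ, rfl⟩ := exists_tmul z
    by_cases hqr : q * r = 0
    · rcases mul_eq_zero.1 hqr with rfl | rfl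
      · exact Or.inl (TensorProduct.zero_tmul _ _)
      · exact Or.inr (TensorProduct.zero_tmul _ _)
    · rw [Algebra.TensorProduct.tmul_mul_tmul] at h
      have h2 : (1 : ℚ) ⊗ₜ[ℤ] (φ * ψ) = 0 := by
        have := congrArg (fun w : EndAV.End0 A => (q * r)⁻¹ • w) h
        rw [smul_zero, TensorProduct.smul_tmul', smul_eq_mul, inv_mul_cancel₀ hqr] at this
        exact this
      rcases hmul φ ψ (toEnd0_injective (h2.trans (map_zero (EndAV.toEnd0 (A := A))).symm)) with rfl | rfl
      · exact Or.inl (TensorProduct.tmul_zero _ _)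
      · exact Or.inr (TensorProduct.tmul_zero _ _)
  exact mem_nonZeroDivisors_iff.2 ⟨fun y hy => (key x y hy).resolve_left hx,
    fun y hy => (key y x hy).resolve_right hx⟩

end AVAmpleLib

end
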