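import Groth.Agent.AVAmpleLib.Complement
import Groth.Agent.AVAmpleLib.IsogInv
import Groth.Agent.AVAmpleLib.Simple
import Groth.Agent.AVAmpleLib.MulFinite
import Mathlib.RingTheory.Artinian.Module

/-!
The rational endomorphism algebra of an abelian variety is von Neumann regular, hence semisimple.
-/

set_option autoImplicit false
set_option linter.style.haveILetI false
set_option backward.isDefEq.respectTransparency false
set_option maxHeartbeats 2000000
set_option synthInstance.maxHeartbeats 200000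

noncomputable section

universe u

open CategoryTheory CategoryTheory.Limits MonoidalCategory CartesianMonoidalCategory MonObj AlgebraicGeometry TopologicalSpace
open Groth.Agent
open scoped TensorProduct

namespace AVAmpleLib

variable {k : Type u} [Field k] {A : Over (Spec (CommRingCat.of k))} [GrpObj A] [IsCommMonObj A] [IsProper A.hom]
  [GeometricallyIntegral A.hom]

/-- Morphisms from a reduced scheme agreeing on all points in an algebraically closed field are equal. -/
theorem hom_ext_of_geomPts (Ω : Type u) [Field Ω] [Algebra k Ω] [IsAlgClosed Ω] {X Y : Over (Spec (CommRingCat.of k))}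
    [GeometricallyIntegral X.hom] [LocallyOfFiniteType X.hom] [LocallyOfFiniteType Y.hom] [IsSeparated Y.hom] (f g : X ⟶ Y)
    (h : ∀ x : SGA7.pt (K := k) Ω ⟶ X, x ≫ f = x ≫ g) : f = g := by
  haveI : GeometricallyIntegral ((bcF Ω).obj X).hom := inferInstanceAs (GeometricallyIntegral (pullback.snd X.hom _))
  haveI : IsIntegral ((bcF Ω).obj X).left := GeometricallyIntegral.isIntegral_of_subsingleton ((bcF Ω).obj X).hom
  haveI : LocallyOfFiniteType ((bcF Ω).obj X).hom := inferInstanceAs (LocallyOfFiniteType (pullback.snd X.hom _))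
  haveI : LocallyOfFiniteType ((bcF Ω).obj Y).hom := inferInstanceAs (LocallyOfFiniteType (pullback.snd Y.hom _))
  haveI : IsSeparated ((bcF Ω).obj Y).hom := inferInstanceAs (IsSeparated (pullback.snd Y.hom _))
  refine map_injective Ω (hom_ext_of_points _ _ fun c => ?_)
  obtain ⟨x, rfl⟩ := (bcPt_bijective Ω).2 c
  rw [← bcPt_comp, ← bcPt_comp, h x]

/-- Endomorphisms have quasi-inverses in the sense of von Neumann regularity. -/
theorem exists_regular (φ : EndAV.End A) : ∃ (m : ℕ) (ψ : EndAV.End A), 0 < m ∧ φ * ψ * φ = m • φ := by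
  let Ω := AlgebraicClosure k
  haveI : IsIntegral A.left := GeometricallyIntegral.isIntegral_of_subsingleton A.hom
  haveI := isProper_endo A φ.toHom
  obtain ⟨I, _, i, p, hi, hp, hpi, hcl, hdom, hqc, hsurj⟩ := Groth.Agent.GrpHom.exists_image φ.toHom
  haveI := geometricallyIntegral_of_dominant p
  haveI : IsProper I.hom := by rw [← Over.w i]; infer_instance
  haveI : IsCommMonObj I := CubeConsLib.isCommMonObj_field
  haveI : IsClosedImmersion (η[I] : 𝟙_ (Over (Spec (CommRingCat.of k))) ⟶ I).left :=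
    isClosedImmersion_of_comp_eq_id I.hom _ (Over.w _)
  let D : Set A.left := p.left ⁻¹' Set.range (η[I] : 𝟙_ (Over (Spec (CommRingCat.of k))) ⟶ I).left
  have hD : IsClosed D := (Scheme.Hom.isClosedEmbedding _).isClosed_range.preimage p.left.continuous
  have hmem : ∀ a : SGA7.pt (K := k) Ω ⟶ A, imgPt a ∈ D ↔ a ≫ p = 1 := fun a => by
    rw [← imgPt_eq_unit_iff, imgPt_comp]
    rfl
  obtain ⟨N, _, emb, hemb, hembcl, hNp, hNg, hND, F, hF, hFD⟩ := exists_torsClosure D hD ((hmem 1).2 (MonObj.one_comp p))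
    (fun a b ha hb => (hmem _).2 (by rw [MonObj.mul_comp, (hmem a).1 ha, (hmem b).1 hb, _root_.mul_one]))
    (fun a ha => (hmem _).2 (by rw [GrpObj.inv_comp, (hmem a).1 ha, inv_one]))
  obtain ⟨C, _, j, hCp, hCg, hj, hjcl, hsurjC, hfinC⟩ := exists_complement emb
  haveI : IsCommMonObj N := CubeConsLib.isCommMonObj_field
  haveI : IsCommMonObj C := CubeConsLib.isCommMonObj_field
  let s : N ⊗ C ⟶ A := (fst N C ≫ emb) * (snd N C ≫ j)
  haveI : IsMonHom (fst N C ≫ emb) := inferInstance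
  haveI : IsMonHom (snd N C ≫ j) := inferInstance
  haveI : IsProper (N ⊗ C).hom := inferInstanceAs (IsProper (pullback.fst N.hom C.hom ≫ N.hom))
  haveI : GeometricallyIntegral (N ⊗ C).hom := CubeConsLib.geometricallyIntegral_prod N.hom C.hom
  haveI : IsCommMonObj (N ⊗ C) := CubeConsLib.isCommMonObj_field
  haveI hs : IsMonHom s :=
    inferInstanceAs (IsMonHom (EndAV.Hom.toHom (EndAV.Hom.of (fst N C ≫ emb) + EndAV.Hom.of (snd N C ≫ j))))
  haveI : IsMonHom (j ≫ p) := inferInstance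
  have hembp : emb ≫ p = 1 := hom_ext_of_geomPts Ω _ _ fun x => by
    rw [MonObj.comp_one, ← Category.assoc]
    exact (hmem _).1 (hND x)
  -- finite surjective from the complement of the kernel to the image
  let q := j ≫ p
  haveI : Surjective q.left := by
    have h : s ≫ p = snd N C ≫ q := by
      rw [MonObj.mul_comp, Category.assoc, Category.assoc, hembp, MonObj.comp_one, _root_.one_mul]
    haveI : Surjective (s ≫ p).left := by rw [Over.comp_left]; infer_instance
    haveI : Surjective ((snd N C).left ≫ q.left) := by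
      rw [← Over.comp_left, ← h]
      infer_instance
    exact Surjective.of_comp (snd N C).left q.left
  haveI hp' : ∀ (Z : Over (Spec (CommRingCat.of k))) [IsProper Z.hom], IsProper ((bcF Ω).obj Z).hom := fun Z _ =>
    inferInstanceAs (IsProper (pullback.snd Z.hom _))
  haveI hg' : ∀ (Z : Over (Spec (CommRingCat.of k))) [GeometricallyIntegral Z.hom],
      GeometricallyIntegral ((bcF Ω).obj Z).hom := fun Z _ =>
    inferInstanceAs (GeometricallyIntegral (pullback.snd Z.hom _))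
  letI : ∀ (Z : Over (Spec (CommRingCat.of k))) [GrpObj Z], GrpObj ((bcF Ω).obj Z) := fun Z _ => Functor.grpObjObj
  haveI : IsFinite q.left := by
    rw [← isFinite_bc_iff Ω q]
    haveI : IsCommMonObj ((bcF Ω).obj C) := CubeConsLib.isCommMonObj_field
    haveI : IsCommMonObj ((bcF Ω).obj I) := CubeConsLib.isCommMonObj_field
    haveI : IsCommMonObj ((bcF Ω).obj A) := CubeConsLib.isCommMonObj_field
    haveI : IsCommMonObj ((bcF Ω).obj (N ⊗ C)) := CubeConsLib.isCommMonObj_field
    haveI : IsMonHom ((bcF Ω).map q) := inferInstanceAs (IsMonHom ((bcF Ω).map (j ≫ p)))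
    haveI : IsMonHom ((bcF Ω).map s) := inferInstance
    haveI : IsFinite ((bcF Ω).map s).left := (isFinite_bc_iff Ω s).2 hfinC
    have hK : {x : SGA7.pt (K := k) Ω ⟶ N ⊗ C | x ≫ s = 1}.Finite := by
      refine Set.Finite.of_finite_image (f := fun x => AVRigidLib.pt (ptsMulEquiv Ω _ x))
        (((isFinite_iff_finite_ker ((bcF Ω).map s)).1 inferInstance).subset ?_) fun x _ y _ h =>
          (ptsMulEquiv Ω _).injective (AVRigidLib.ext_pt h)
      rintro _ ⟨x, hx, rfl⟩
      refine (pt_mem_ker_iff ((bcF Ω).map s) _).2 ?_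
      exact ((bcPt_comp Ω x s).symm.trans (congrArg (bcPt Ω) hx)).trans (map_one (ptsMulEquiv Ω A))
    refine isFinite_of_finite_pts _ ?_
    let c₀ : (SGA7.pt (K := k) Ω ⟶ A) → (SGA7.pt (K := k) Ω ⟶ C) := fun f =>
      Classical.epsilon fun c => ∃ ν, c ≫ j = f * (ν ≫ emb)
    refine (((hF.prod hK).image fun fx : (SGA7.pt (K := k) Ω ⟶ A) × (SGA7.pt (K := k) Ω ⟶ N ⊗ C) =>
      c₀ fx.1 * (fx.2 ≫ snd N C)).image (ptsMulEquiv Ω C)).subset fun a ha => ?_
    obtain ⟨c, rfl⟩ := (ptsMulEquiv Ω C).surjective a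
    have hc : imgPt (c ≫ j) ∈ D := (hmem _).2 ((ptsMulEquiv Ω I).injective (by
      rw [map_one, Category.assoc]
      exact (bcPt_comp Ω c q).trans ha))
    obtain ⟨f, hf, ν, hν⟩ := hFD _ hc
    obtain ⟨ν₀, hν₀⟩ : ∃ ν₀, c₀ f ≫ j = f * (ν₀ ≫ emb) :=
      Classical.epsilon_spec (p := fun c => ∃ ν, c ≫ j = f * (ν ≫ emb)) ⟨c, ν, hν⟩
    refine ⟨c, ⟨(f, lift (ν⁻¹ * ν₀) ((c₀ f)⁻¹ * c)), ⟨hf, ?_⟩, ?_⟩, rfl⟩
    · show lift (ν⁻¹ * ν₀) ((c₀ f)⁻¹ * c) ≫ s = 1
      rw [MonObj.comp_mul, lift_fst_assoc, lift_snd_assoc, MonObj.mul_comp, MonObj.mul_comp, GrpObj.inv_comp,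
        GrpObj.inv_comp, hν, hν₀]
      simp [mul_comm, mul_left_comm]
    · show c₀ f * (lift (ν⁻¹ * ν₀) ((c₀ f)⁻¹ * c) ≫ snd N C) = c
      rw [lift_snd, mul_inv_cancel_left]
  obtain ⟨m, r, hm, hr, hqr, hrq⟩ := exists_quasi_inverse q
  -- a projection to the image
  obtain ⟨C', _, j', hC'p, hC'g, hj', hj'cl, hs'surj, hs'fin⟩ := exists_complement i
  haveI : IsCommMonObj C' := CubeConsLib.isCommMonObj_field
  let s' : I ⊗ C' ⟶ A := (fst I C' ≫ i) * (snd I C' ≫ j')
  haveI : IsProper (I ⊗ C').hom := inferInstanceAs (IsProper (pullback.fst I.hom C'.hom ≫ I.hom))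
  haveI : GeometricallyIntegral (I ⊗ C').hom := CubeConsLib.geometricallyIntegral_prod I.hom C'.hom
  haveI : IsCommMonObj (I ⊗ C') := CubeConsLib.isCommMonObj_field
  haveI : IsMonHom (fst I C' ≫ i) := inferInstance
  haveI : IsMonHom (snd I C' ≫ j') := inferInstance
  haveI : IsMonHom s' :=
    inferInstanceAs (IsMonHom (EndAV.Hom.toHom (EndAV.Hom.of (fst I C' ≫ i) + EndAV.Hom.of (snd I C' ≫ j'))))
  haveI : IsFinite s'.left := hs'fin
  haveI : Surjective s'.left := hs'surj
  obtain ⟨m', v, hm', hv, hsv, hvs⟩ := exists_quasi_inverse s'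
  haveI := hv
  haveI := hr
  let π : A ⟶ I := v ≫ fst I C'
  have hiπ : i ≫ π = 𝟙 I ^ m' := by
    have h : lift (𝟙 I) (1 : I ⟶ C') ≫ s' = i := by
      rw [MonObj.comp_mul, lift_fst_assoc, lift_snd_assoc, Category.id_comp, MonObj.one_comp, _root_.mul_one]
    calc i ≫ π = lift (𝟙 I) (1 : I ⟶ C') ≫ (s' ≫ v) ≫ fst I C' := by
          conv_lhs => rw [← h]
          simp only [π, Category.assoc]
      _ = 𝟙 I ^ m' := by
          rw [hsv, MonObj.pow_comp, Category.id_comp, MonObj.comp_pow, lift_fst]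
  refine ⟨m * m', EndAV.End.of (π ≫ r ≫ j), Nat.mul_pos hm hm', EndAV.End.ext ?_⟩
  rw [EndAV.End.toHom_mul, EndAV.End.toHom_mul, EndAV.End.toHom_of, EndAV.End.toHom_nsmul, ← hpi]
  have hrjp : r ≫ j ≫ p = 𝟙 I ^ m := hrq
  calc (p ≫ i) ≫ (π ≫ r ≫ j) ≫ p ≫ i = p ≫ (i ≫ π) ≫ (r ≫ j ≫ p) ≫ i := by simp only [Category.assoc]
    _ = (p ≫ i) ^ (m * m') := by
      rw [hiπ, hrjp, MonObj.pow_comp (f := 𝟙 I) (g := i), Category.id_comp, MonObj.comp_pow,
        MonObj.pow_comp (f := 𝟙 I) (g := i), Category.id_comp, ← pow_mul, MonObj.comp_pow, Nat.mul_comm m']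

/-- The rational endomorphism algebra is semisimple. -/
theorem isSemisimpleRing_end0 : IsSemisimpleRing (EndAV.End0 A) := by
  haveI := fg_end A
  haveI : Module.Finite ℚ (EndAV.End0 A) := inferInstanceAs (Module.Finite ℚ (ℚ ⊗[ℤ] EndAV.End A))
  haveI : IsArtinianRing (EndAV.End0 A) := IsArtinianRing.of_finite ℚ _
  have hreg : ∀ x : EndAV.End0 A, ∃ y, x * y * x = x := by
    intro x
    obtain ⟨q, φ, rfl⟩ := exists_tmul x
    obtain ⟨m, ψ, hm, hψ⟩ := exists_regular φ
    rcases eq_or_ne q 0 with rfl | hq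
    · exact ⟨0, by rw [TensorProduct.zero_tmul, mul_zero]⟩
    refine ⟨((q * m)⁻¹) ⊗ₜ ψ, ?_⟩
    rw [Algebra.TensorProduct.tmul_mul_tmul, Algebra.TensorProduct.tmul_mul_tmul, hψ, ← natCast_zsmul,
      ← TensorProduct.smul_tmul, zsmul_eq_mul]
    congr 1
    have hm0 : (m : ℚ) ≠ 0 := by exact_mod_cast hm.ne'
    push_cast
    field_simp
  rw [IsArtinianRing.isSemisimpleRing_iff_jacobson, eq_bot_iff]
  intro x hx
  obtain ⟨y, hy⟩ := hreg x
  haveI : IsSemiprimaryRing (EndAV.End0 A) := inferInstance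
  obtain ⟨n, hn⟩ := IsSemiprimaryRing.isNilpotent (R := EndAV.End0 A)
  have he : ∀ i : ℕ, (y * x) ^ (i + 1) = y * x := fun i => by
    induction i with
    | zero => rw [pow_one]
    | succ i ih => rw [pow_succ, ih, _root_.mul_assoc y x, ← _root_.mul_assoc x y x, hy]
  have h0 : (y * x) ^ n ∈ (Ring.jacobson (EndAV.End0 A)) ^ n := Ideal.pow_mem_pow (Ideal.mul_mem_left _ y hx) n
  rw [hn] at h0
  have h1 : y * x = 0 := by
    rcases n with _ | i
    · rw [pow_zero] at h0
      rw [← _root_.mul_one (y * x), show (1 : EndAV.End0 A) = 0 from h0, mul_zero]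
    · rw [← he i]
      exact h0
  show x = 0
  rw [← hy, _root_.mul_assoc, h1, mul_zero]

end AVAmpleLib

end
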