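import Groth.Agent.AVAmpleLib.CurveForm
import Groth.Agent.AVAmpleLib.Degree

/-!
Euler characteristics as polynomials in classes of invertible modules.
-/

set_option autoImplicit false
set_option linter.style.haveILetI false
set_option backward.isDefEq.respectTransparency false
set_option maxHeartbeats 1000000

noncomputable section

universe u

open CategoryTheory CategoryTheory.Limits AlgebraicGeometry TopologicalSpace
open CubeConsLib

namespace AVAmpleLib

theorem coeff_aeval_line {r : ℕ} (Q : MvPolynomial (Fin r) ℚ) (z : Fin r → ℚ) (g : ℕ) :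
    (MvPolynomial.aeval (fun i => Polynomial.C (z i) * Polynomial.X) Q).coeff g =
      MvPolynomial.eval z (MvPolynomial.homogeneousComponent g Q) := by
  classical
  induction Q using MvPolynomial.induction_on' with
  | monomial u a =>
    have h : (u.prod fun i e => (Polynomial.C (z i) * Polynomial.X) ^ e) =
        Polynomial.C (u.prod fun i e => z i ^ e) * Polynomial.X ^ u.degree := by
      simp only [Finsupp.prod, Finsupp.degree_apply, mul_pow, Finset.prod_mul_distrib, Finset.prod_pow_eq_pow_sum,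
        map_prod, map_pow]
    rw [MvPolynomial.aeval_monomial, h, Polynomial.algebraMap_eq, ← mul_assoc, ← map_mul,
      Polynomial.coeff_C_mul, Polynomial.coeff_X_pow, MvPolynomial.homogeneousComponent_apply]
    by_cases hd : g = u.degree
    · subst hd
      rw [if_pos rfl, mul_one, Finset.sum_eq_single u]
      · simp [MvPolynomial.eval_monomial]
      · intro b _ hb; simp [Ne.symm hb]
      · intro hu; simp only [Finset.mem_filter, MvPolynomial.mem_support_iff, MvPolynomial.coeff_monomial, if_true,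
          and_true, not_not] at hu; simp [hu]
    · rw [if_neg hd, mul_zero, map_sum]
      refine (Finset.sum_eq_zero fun b hb => ?_).symm
      rw [Finset.mem_filter] at hb
      have : u ≠ b := by rintro rfl; exact hd hb.2.symm
      simp [this]
  | add p q hp hq => simp [map_add, hp, hq]

theorem natDegree_aeval_line {r : ℕ} (Q : MvPolynomial (Fin r) ℚ) (z : Fin r → ℚ) {g : ℕ} (hQ : Q.totalDegree ≤ g) :
    (MvPolynomial.aeval (fun i => Polynomial.C (z i) * Polynomial.X) Q).natDegree ≤ g := by
  refine Polynomial.natDegree_le_iff_coeff_eq_zero.2 fun n hn => ?_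
  rw [coeff_aeval_line, MvPolynomial.homogeneousComponent_eq_zero n Q (lt_of_le_of_lt hQ hn), map_zero]

theorem eval_aeval_line {r : ℕ} (Q : MvPolynomial (Fin r) ℚ) (z : Fin r → ℚ) (m : ℚ) :
    (MvPolynomial.aeval (fun i => Polynomial.C (z i) * Polynomial.X) Q).eval m = MvPolynomial.eval (fun i => z i * m) Q := by
  rw [← Polynomial.coe_evalRingHom, MvPolynomial.aeval_def, MvPolynomial.eval₂_comp_left,
    show (Polynomial.evalRingHom m).comp (algebraMap ℚ (Polynomial ℚ)) = RingHom.id ℚ from RingHom.ext fun q => by simp]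
  simp [Function.comp_def, MvPolynomial.eval₂_id]

section Chi

variable {k : Type u} [Field k] (V : Over (Spec (CommRingCat.of k))) [IsProper V.hom] [IsIntegral V.left]

/-- The Euler characteristic of an invertible module. -/
def chiMod (M : V.left.Modules) : ℤ :=
  letI : V.left.Over (Spec (CommRingCat.of k)) := ⟨V.hom⟩
  Curv2.euler k V.left M

/-- The Euler characteristic as a function of classes. -/
def chi (x : PicA V.left) : ℤ := by
  classical
  exact if h : ∃ (M : V.left.Modules) (hM : PicF.IsInvertible M), clA hM = x then chiMod V h.choose else 0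

theorem chi_clA {M : V.left.Modules} (hM : PicF.IsInvertible M) : chi V (clA hM) = chiMod V M := by
  have h : ∃ (N : V.left.Modules) (hN : PicF.IsInvertible N), clA hN = clA hM := ⟨M, hM, rfl⟩
  rw [chi, dif_pos h]
  obtain ⟨hN, e⟩ := h.choose_spec
  letI : V.left.Over (Spec (CommRingCat.of k)) := ⟨V.hom⟩
  exact CurvLib.euler_congr ((clA_eq_iff hN hM).1 e).some

variable {V} {g : ℕ} (hg : topologicalKrullDim V.left = (g : ℕ))

include hg in
theorem exists_natPoly {r : ℕ} {x : Fin r → PicA V.left} (hx : ∀ i, x i ∈ clRange V) {c : PicA V.left}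
    (hc : c ∈ clRange V) : ∃ Q : MvPolynomial (Fin r) ℚ, Q.totalDegree ≤ g ∧
      ∀ n : Fin r → ℕ, (chi V (c + ∑ i, n i • x i) : ℚ) = MvPolynomial.eval (fun i => (n i : ℚ)) Q := by
  letI : V.left.Over (Spec (CommRingCat.of k)) := ⟨V.hom⟩
  haveI : IsProper (V.left ↘ Spec (CommRingCat.of k)) := inferInstanceAs (IsProper V.hom)
  have hmem : ∀ n : Fin r → ℕ, c + ∑ i, n i • x i ∈ clRange V := fun n =>
    add_mem hc (sum_mem fun i _ => nsmul_mem (hx i) _)
  choose L hL hLx using hx
  choose W hW hWx using hmem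
  obtain ⟨P, hP, hP'⟩ := HilbPolyLib.exists_mvPolynomial (HilbPolyLib.hilbFun_mem (k := k) (W := W) hW hL
    (fun n i => by
      rw [← clA_eq_iff (hW _) (HilbPolyLib.isInvertible_tensor (hL i) (hW n)), clA_tensor (hL i) (hW n), hWx, hWx, hLx]
      have : ∑ j, Function.update n i (n i + 1) j • x j = x i + ∑ j, n j • x j := by
        rw [← Finset.add_sum_erase _ _ (Finset.mem_univ i), ← Finset.add_sum_erase _ (fun j => n j • x j) (Finset.mem_univ i),
          Function.update_self, succ_nsmul', add_assoc]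
        congr 2
        exact Finset.sum_congr rfl fun j hj => by rw [Function.update_of_ne (Finset.ne_of_mem_erase hj)]
      rw [this, add_left_comm])
    (g + 1) (Coh.structureModule V.left) (DevissLib.isCoh_structureModule _) (by
      rw [dim_support_structureModule, hg]; exact_mod_cast Nat.lt_succ_self g))
  refine ⟨P, hP, fun n => ?_⟩
  rw [← hP' n, HilbPolyLib.hilbFun, ← hWx n, chi_clA, chiMod]
  exact congrArg Int.cast (CurvLib.euler_congr (HilbPolyLib.swapIso _ _ ≪≫ HilbPolyLib.unitLeft _).symm)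

include hg in
/-- Snapper's theorem on classes. -/
theorem exists_chiPoly {r : ℕ} {x : Fin r → PicA V.left} (hx : ∀ i, x i ∈ clRange V) :
    ∃ Q : MvPolynomial (Fin r) ℚ, Q.totalDegree ≤ g ∧
      ∀ z : Fin r → ℤ, (chi V (∑ i, z i • x i) : ℚ) = MvPolynomial.eval (fun i => (z i : ℚ)) Q := by
  obtain ⟨Q, hQ, hQ0⟩ := exists_natPoly hg hx (zero_mem (clRange V))
  refine ⟨Q, hQ, fun z => ?_⟩
  let N : Fin r → ℕ := fun i => (z i).natAbs
  obtain ⟨P, -, hP⟩ := exists_natPoly hg hx (c := -∑ i, N i • x i)
    (neg_mem (sum_mem fun i _ => nsmul_mem (hx i) _))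
  let σ : MvPolynomial (Fin r) ℚ →ₐ[ℚ] MvPolynomial (Fin r) ℚ :=
    MvPolynomial.bind₁ fun i => MvPolynomial.X i + MvPolynomial.C (N i : ℚ)
  have hσ : ∀ (v : Fin r → ℚ) (p : MvPolynomial (Fin r) ℚ),
      MvPolynomial.eval v (σ p) = MvPolynomial.eval (fun i => v i + (N i : ℚ)) p := fun v p => by
    change MvPolynomial.eval₂Hom (RingHom.id ℚ) v (σ p) = _
    rw [MvPolynomial.eval₂Hom_bind₁]
    simp
  have he : σ P = Q := by
    refine MvPolynomial.funext_set (fun _ => Set.range ((↑) : ℕ → ℚ))
      (fun _ => Set.infinite_range_of_injective Nat.cast_injective) fun v hv => ?_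
    choose n hn using fun i => hv i (Set.mem_univ i)
    obtain rfl : (fun i => (n i : ℚ)) = v := funext hn
    rw [hσ, ← hQ0 n, zero_add]
    have := hP (n + N)
    simp only [Pi.add_apply, Nat.cast_add] at this
    rw [← this]
    congr 2
    simp only [add_nsmul, Finset.sum_add_distrib]
    abel
  rw [← he, hσ]
  have hnn : ∀ i, 0 ≤ z i + (N i : ℤ) := fun i => by simp only [N]; omega
  have hc : ∀ i, (((z i + N i).toNat : ℕ) : ℚ) = (z i : ℚ) + (N i : ℚ) := fun i => by
    have := Int.toNat_of_nonneg (hnn i)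
    exact_mod_cast congrArg (fun w : ℤ => (w : ℚ)) this
  have h := hP fun i => (z i + N i).toNat
  simp only [hc] at h
  rw [← h]
  congr 2
  rw [neg_add_eq_sub, eq_sub_iff_add_eq, ← Finset.sum_add_distrib]
  refine Finset.sum_congr rfl fun i _ => ?_
  rw [← natCast_zsmul (x i) ((z i + N i).toNat), Int.toNat_of_nonneg (hnn i), add_zsmul, natCast_zsmul]

/-- The top self-intersection, up to a factorial. -/
def top (V : Over (Spec (CommRingCat.of k))) [IsProper V.hom] [IsIntegral V.left] (g : ℕ) (x : PicA V.left) : ℚ := by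
  classical
  exact if h : ∃ P : Polynomial ℚ, P.natDegree ≤ g ∧ ∀ m : ℕ, (chi V (m • x) : ℚ) = P.eval (m : ℚ)
    then h.choose.coeff g else 0

theorem top_eq {x : PicA V.left} {P : Polynomial ℚ} (hP : P.natDegree ≤ g)
    (hP' : ∀ m : ℕ, (chi V (m • x) : ℚ) = P.eval (m : ℚ)) : top V g x = P.coeff g := by
  have h : ∃ P : Polynomial ℚ, P.natDegree ≤ g ∧ ∀ m : ℕ, (chi V (m • x) : ℚ) = P.eval (m : ℚ) := ⟨P, hP, hP'⟩
  rw [top, dif_pos h, HilbPolyLib.eq_of_eval_nat fun m => (h.choose_spec.2 m).symm.trans (hP' m)]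

include hg in
theorem exists_top_poly {x : PicA V.left} (hx : x ∈ clRange V) :
    ∃ P : Polynomial ℚ, P.natDegree ≤ g ∧ (∀ m : ℤ, (chi V (m • x) : ℚ) = P.eval (m : ℚ)) ∧
      top V g x = P.coeff g := by
  obtain ⟨Q, hQ, hQ'⟩ := exists_chiPoly hg (x := fun _ : Fin 1 => x) fun _ => hx
  let P := MvPolynomial.aeval (fun _ : Fin 1 => Polynomial.C (1 : ℚ) * Polynomial.X) Q
  have hP : ∀ m : ℤ, (chi V (m • x) : ℚ) = P.eval (m : ℚ) := fun m => by
    have := hQ' fun _ => m
    rw [Fin.sum_univ_one] at this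
    rw [this, eval_aeval_line Q (fun _ => (1 : ℚ))]
    simp
  exact ⟨P, natDegree_aeval_line Q _ hQ, hP, top_eq (natDegree_aeval_line Q _ hQ) fun m => by
    have := hP m
    rwa [natCast_zsmul, Int.cast_natCast] at this⟩

include hg in
/-- The top self-intersection of combinations is the top homogeneous part. -/
theorem exists_topPoly {r : ℕ} {x : Fin r → PicA V.left} (hx : ∀ i, x i ∈ clRange V) :
    ∃ T : MvPolynomial (Fin r) ℚ, T.IsHomogeneous g ∧
      ∀ z : Fin r → ℤ, top V g (∑ i, z i • x i) = MvPolynomial.eval (fun i => (z i : ℚ)) T := by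
  obtain ⟨Q, hQ, hQ'⟩ := exists_chiPoly hg hx
  refine ⟨MvPolynomial.homogeneousComponent g Q, MvPolynomial.homogeneousComponent_isHomogeneous g Q, fun z => ?_⟩
  rw [← coeff_aeval_line]
  refine top_eq (natDegree_aeval_line Q _ hQ) fun m => ?_
  have := hQ' fun i => (m : ℤ) * z i
  rw [Finset.smul_sum]
  simp only [← natCast_zsmul _ m, ← mul_smul] at this ⊢
  rw [this, eval_aeval_line]
  congr 2
  funext i
  push_cast
  ring

include hg in
theorem top_zsmul {x : PicA V.left} (hx : x ∈ clRange V) (n : ℤ) : top V g (n • x) = (n : ℚ) ^ g * top V g x := by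
  obtain ⟨P, hP, hP', ht⟩ := exists_top_poly hg hx
  rw [ht, top_eq (P := P.comp (Polynomial.C (n : ℚ) * Polynomial.X)) ?_ fun m => ?_, Polynomial.comp_C_mul_X_coeff]
  · ring
  · refine Polynomial.natDegree_comp_le.trans ?_
    exact (Nat.mul_le_mul hP ((Polynomial.natDegree_C_mul_le _ _).trans Polynomial.natDegree_X.le)).trans (by simp)
  · rw [← natCast_zsmul, smul_smul, hP']
    simp [mul_comm]

end Chi

variable {k : Type u} [Field k] {V W : Over (Spec (CommRingCat.of k))} [IsProper V.hom] [IsIntegral V.left]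
  [IsProper W.hom] [IsIntegral W.left] {g : ℕ}

/-- Pullback along a finite flat morphism multiplies the top self-intersection by the degree. -/
theorem top_pullA (f : V ⟶ W) [IsFinite f.left] [Flat f.left] (hV : topologicalKrullDim V.left = (g : ℕ))
    (hW : topologicalKrullDim W.left = (g : ℕ)) {c : PicA W.left} (hc : c ∈ clRange W) :
    pullA f.left c ∈ clRange V ∧
      top V g (pullA f.left c) = (f.left.finrank (genericPoint W.left) : ℚ) * top W g c := by
  letI : V.left.Over (Spec (CommRingCat.of k)) := ⟨V.hom⟩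
  letI : W.left.Over (Spec (CommRingCat.of k)) := ⟨W.hom⟩
  haveI : IsProper (W.left ↘ Spec (CommRingCat.of k)) := inferInstanceAs (IsProper W.hom)
  haveI : IsProper (V.left ↘ Spec (CommRingCat.of k)) := inferInstanceAs (IsProper V.hom)
  haveI := CurvLib.isNoetherian k (X := W.left)
  obtain ⟨L, hL, rfl⟩ := hc
  refine ⟨⟨_, _, (pullA_clA f.left hL).symm⟩, ?_⟩
  have hO := DevissLib.isCoh_structureModule V.left
  have hOW := DevissLib.isCoh_structureModule W.left
  haveI : Coh.IsQCoh (Coh.structureModule V.left) := hO.1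
  set F := (Coh.push f.left).obj (Coh.structureModule V.left)
  have hF : Coh.IsCoh F := QCohLib.isCoh_push_finite f.left _ hO
  have hd : ∀ M : W.left.Modules, topologicalKrullDim (CohB1.support M) < ((g + 1 : ℕ) : WithBot ℕ∞) := fun M =>
    (topologicalKrullDim_subspace_le _ _).trans_lt (hW.le.trans_lt (by exact_mod_cast Nat.lt_succ_self g))
  obtain ⟨P, hPd, hP⟩ := HilbPolyLib.exists_isHilbPoly (k := k) hL hF (hd _)
  obtain ⟨Q, hQd, hQ⟩ := HilbPolyLib.exists_isHilbPoly (k := k) hL hOW (hd _)
  have hnat : ∀ {R : Polynomial ℚ}, R.degree < ((g + 1 : ℕ) : WithBot ℕ) → R.natDegree ≤ g := fun {R} h =>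
    Polynomial.natDegree_le_iff_degree_le.2 (Polynomial.degree_le_iff_coeff_zero _ _ |>.2 fun n hn =>
      Polynomial.coeff_eq_zero_of_degree_lt (h.trans_le (by exact_mod_cast hn)))
  have hQ' : ∀ m : ℕ, (chi W (m • clA hL) : ℚ) = Q.eval (m : ℚ) := fun m => by
    rw [← hQ m, HilbPolyLib.euler_twist, ← clA_pow hL m, chi_clA, chiMod]
    exact congrArg Int.cast (CurvLib.euler_congr (HilbPolyLib.swapIso _ _ ≪≫ HilbPolyLib.unitLeft _).symm)
  have hP' : ∀ m : ℕ, (chi V (m • pullA f.left (clA hL)) : ℚ) = P.eval (m : ℚ) := fun m => by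
    have hm := AmpleThLib.tensorPow_isInvertible hL m
    have hpm := AmpleDevLib.isInvertible_pb f.left hm
    rw [← map_nsmul, ← clA_pow hL m, pullA_clA, chi_clA, chiMod, ← hP m, HilbPolyLib.euler_twist]
    let e' := @asIso _ _ _ _ (ProjFormLib.projApp f.left (CohB1.tensorPow L m) (Coh.structureModule V.left))
      (ProjFormLib.isIso_projApp f.left (AmpleDevLib.isFinLocFree_of_isInvertible hm) _)
    haveI : Coh.IsQCoh (CohB1.tensorMod ((Scheme.Modules.pullback f.left).obj (CohB1.tensorPow L m))
        (Coh.structureModule V.left)) := (HilbPolyLib.isCoh_tensor hpm hO).1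
    rw [CurvLib.euler_congr (HilbPolyLib.swapIso _ _ ≪≫ HilbPolyLib.unitLeft _).symm,
      (PushLinLib.euler_push k f.left (Over.w f) (CohB1.tensorMod
        ((Scheme.Modules.pullback f.left).obj (CohB1.tensorPow L m)) (Coh.structureModule V.left))).2]
    exact congrArg Int.cast (CurvLib.euler_congr e'.symm)
  rw [top_eq (hnat hPd) hP', top_eq (hnat hQd) hQ']
  have h := alpha_eq_genRank_mul' (k := k) hL hW hF hP hQ
  rw [genRank_push_structure f.left, StabCat.alpha, StabCat.alpha, mul_left_comm] at h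
  exact mul_left_cancel₀ (by exact_mod_cast Nat.factorial_ne_zero g) h

/-- The top self-intersection of an ample class is positive. -/
theorem top_pos {L : V.left.Modules} (hA : CohB1.IsAmple L) (hV : topologicalKrullDim V.left = (g : ℕ)) :
    0 < top V g (clA hA.1) := by
  letI : V.left.Over (Spec (CommRingCat.of k)) := ⟨V.hom⟩
  haveI : IsProper (V.left ↘ Spec (CommRingCat.of k)) := inferInstanceAs (IsProper V.hom)
  have hO := DevissLib.isCoh_structureModule V.left
  obtain ⟨Q, hQd, hQ⟩ := HilbPolyLib.exists_isHilbPoly (k := k) hA.1 hO (d := g + 1)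
    ((topologicalKrullDim_subspace_le _ _).trans_lt (hV.le.trans_lt (by exact_mod_cast Nat.lt_succ_self g)))
  rw [top_eq (P := Q) (Polynomial.natDegree_le_iff_degree_le.2 (Polynomial.degree_le_iff_coeff_zero _ _ |>.2 fun n hn =>
    Polynomial.coeff_eq_zero_of_degree_lt (hQd.trans_le (by exact_mod_cast hn)))) fun m => ?_]
  · have := HilbPolyLib.alpha_pos hA hO hQ ((dim_support_structureModule V.left).trans hV)
    rw [StabCat.alpha] at this
    exact pos_of_mul_pos_right this (by positivity)
  · rw [← hQ m, HilbPolyLib.euler_twist, ← clA_pow hA.1 m, chi_clA, chiMod]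
    exact congrArg Int.cast (CurvLib.euler_congr (HilbPolyLib.swapIso _ _ ≪≫ HilbPolyLib.unitLeft _).symm)

end AVAmpleLib

end
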