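import Groth.Agent.AVAmpleLib.Ample
import Groth.Agent.AVAmpleLib.Divisor
import Groth.Agent.IntMultLib.Cartier
import Groth.Agent.S2821
import Groth.Agent.S1535
import Groth.Agent.S9815
import Mathlib.AlgebraicGeometry.Group.Smooth

/-!
Abelian varieties have (symmetric) ample invertible modules.
-/

set_option autoImplicit false
set_option maxRecDepth 8000
set_option maxHeartbeats 1000000
set_option linter.style.haveILetI false

noncomputable section

universe u

open CategoryTheory MonoidalCategory CartesianMonoidalCategory MonObj AlgebraicGeometry TopologicalSpace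
open CubeConsLib

namespace AVAmpleLib

variable {K : Type u} [Field K] (A : Over (Spec (CommRingCat.of K))) [GrpObj A]
  [IsProper A.hom] [GeometricallyIntegral A.hom]

theorem smooth_hom : Smooth A.hom := by
  haveI : GrpObj (Over.mk A.hom) := inferInstanceAs (GrpObj A)
  exact smooth_of_grpObj A.hom

theorem exists_ample : ∃ L : A.left.Modules, CohB1.IsAmple L := by
  haveI : IsIntegral A.left := GeometricallyIntegral.isIntegral_of_subsingleton A.hom
  haveI : IsLocallyNoetherian A.left := LocallyOfFiniteType.isLocallyNoetherian A.hom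
  haveI : CompactSpace A.left := QuasiCompact.compactSpace_of_compactSpace A.hom
  haveI : IsNoetherian A.left := ⟨⟩
  haveI : A.left.IsSeparated := ⟨by rw [← Limits.terminal.comp_from A.hom]; infer_instance⟩
  haveI := smooth_hom A
  letI : A.left.Over (Spec (CommRingCat.of K)) := ⟨A.hom⟩
  haveI : Smooth (A.left ↘ Spec (CommRingCat.of K)) := inferInstanceAs (Smooth A.hom)
  obtain ⟨U, hU, hxU, -⟩ := exists_isAffineOpen_mem_and_subset (X := A.left)
    (x := genericPoint A.left) (U := ⊤) trivial
  haveI := isAffineHom_ι (fun V W hV hW => hV.inf hW) hU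
  obtain ⟨I, hI, hsupp⟩ := exists_effCartier_compl U
    (U.2.dense ⟨_, hxU⟩) fun x _ => by
      haveI := Groth.Agent.S1535.result K A.left x
      exact Groth.Agent.S2821.result (A.left.presheaf.stalk x)
  have hi := IntMultLib.isInvertible_idealMod I hI
  obtain ⟨φ⟩ := MiscFlat6.nonempty_dualIso hi
  exact ⟨MiscFlat6.dual (ClSub.idealMod I), isAmple_of_effCartier (MiscFlat6.dual_isInvertible hi) hU ⟨_, hxU⟩
    hsupp ⟨KFlatLib.tensSwap (ClSub.idealMod I) (MiscFlat6.dual (ClSub.idealMod I)) ≪≫ φ⟩⟩

theorem isAmple_pullback_iso {B : Over (Spec (CommRingCat.of K))} (f : B ⟶ A) [IsIso f]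
    [CompactSpace B.left] {L : A.left.Modules} (h : CohB1.IsAmple L) :
    CohB1.IsAmple ((Scheme.Modules.pullback f.left).obj L) :=
  haveI : IsIso f.left := inferInstanceAs (IsIso ((Over.forget _).map f))
  Groth.Agent.S9815.result f.left f.left.isEmbedding L h

theorem exists_symmetric_ample : ∃ L : A.left.Modules, CohB1.IsAmple L ∧
    Nonempty (L ≅ (Scheme.Modules.pullback ((𝟙 A)⁻¹).left).obj L) := by
  obtain ⟨M, hM⟩ := exists_ample A
  haveI : CompactSpace A.left := hM.2.1
  have h2 := isAmple_pullback_iso A ((𝟙 A)⁻¹ : A ⟶ A) hM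
  refine ⟨CohB1.tensorMod M ((Scheme.Modules.pullback ((𝟙 A)⁻¹).left).obj M),
    MiscFlat6.isAmple_tensor hM h2, ?_⟩
  rw [← clA_eq_iff (HilbPolyLib.isInvertible_tensor hM.1 h2.1)
    (AmpleDevLib.isInvertible_pb _ (HilbPolyLib.isInvertible_tensor hM.1 h2.1)),
    ← pullA_clA _ (HilbPolyLib.isInvertible_tensor hM.1 h2.1), clA_tensor hM.1 h2.1, map_add,
    ← pullA_clA _ hM.1, pullA_comp, ← Over.comp_left, inv_inv_id, Over.id_left, pullA_id]
  exact add_comm _ _

end AVAmpleLib
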