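import Groth.Agent.AVAmpleLib.TateLattice

/-!
Divisibility of homomorphisms over arbitrary fields, and saturation of their span in the Tate modules.
-/

set_option autoImplicit false
set_option linter.style.haveILetI false
set_option backward.isDefEq.respectTransparency false
set_option maxHeartbeats 1000000

noncomputable section

universe u

open CategoryTheory CategoryTheory.Limits MonoidalCategory CartesianMonoidalCategory MonObj AlgebraicGeometry TopologicalSpace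

namespace AVAmpleLib

variable {k : Type u} [Field k] (Ω : Type u) [Field Ω] [Algebra k Ω] [IsAlgClosed Ω]
  {A B : Over (Spec (CommRingCat.of k))} [GrpObj A] [IsCommMonObj A] [IsProper A.hom] [GeometricallyIntegral A.hom]
  [GrpObj B] [IsCommMonObj B] [IsProper B.hom] [GeometricallyIntegral B.hom]

attribute [local instance] grpBc commBc

theorem eq_of_comp_pow {X : Over (Spec (CommRingCat.of Ω))} [GrpObj X] [IsCommMonObj X] [IsProper X.hom]
    [GeometricallyIntegral X.hom] {C : Over (Spec (CommRingCat.of Ω))} [LocallyOfFiniteType C.hom] [IsSeparated C.hom]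
    {n : ℕ} (hn : 0 < n) {a b : X ⟶ C} (h : (𝟙 X ^ n) ≫ a = (𝟙 X ^ n) ≫ b) : a = b := by
  haveI : IsIntegral X.left := GeometricallyIntegral.isIntegral_of_subsingleton X.hom
  refine hom_ext_of_points a b fun p => ?_
  obtain ⟨q, rfl⟩ := exists_pow_eq X hn p
  rw [show q ^ n = q ≫ (𝟙 X ^ n) by rw [MonObj.comp_pow, Category.comp_id], Category.assoc, Category.assoc, h]

/-- A homomorphism killing the geometric `n`-torsion is divisible by `n` over the ground field. -/
theorem exists_div_field {n : ℕ} (hn : (n : Ω) ≠ 0) (φ : A ⟶ B) [IsMonHom φ]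
    (hker : ∀ a ∈ tors ((bcF Ω).obj A) n, a ≫ (bcF Ω).map φ = 1) :
    ∃ ψ : A ⟶ B, IsMonHom ψ ∧ φ = (𝟙 A ^ n) ≫ ψ := by
  have hn0 : 0 < n := Nat.pos_of_ne_zero fun h => hn (by rw [h, Nat.cast_zero])
  have hnz : (n : ℤ) ≠ 0 := by exact_mod_cast hn0.ne'
  haveI : IsProper ((bcF Ω).obj A).hom := inferInstanceAs (IsProper (pullback.snd A.hom _))
  haveI : IsProper ((bcF Ω).obj B).hom := inferInstanceAs (IsProper (pullback.snd B.hom _))
  haveI : GeometricallyIntegral ((bcF Ω).obj A).hom := inferInstanceAs (GeometricallyIntegral (pullback.snd A.hom _))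
  haveI : GeometricallyIntegral ((bcF Ω).obj B).hom := inferInstanceAs (GeometricallyIntegral (pullback.snd B.hom _))
  obtain ⟨ψ', hψ', he'⟩ := exists_div hn ((bcF Ω).map φ) hker
  have hFf : (bcF Ω).map (𝟙 A ^ n) = 𝟙 ((bcF Ω).obj A) ^ n := by
    have h := map_pow (Functor.homMonoidHom (bcF Ω) : (A ⟶ A) →* _) (𝟙 A) n
    exact h.trans (congrArg (fun z => z ^ n) ((bcF Ω).map_id A))
  haveI : IsFinite (𝟙 A ^ n).left := by rw [← zpow_natCast]; exact isFinite_zpow A hnz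
  haveI : Flat (𝟙 A ^ n).left := by rw [← zpow_natCast]; exact flat_zpow A hnz
  haveI : Surjective (𝟙 A ^ n).left := by rw [← zpow_natCast]; exact surjective_zpow A hnz
  have key : ∀ {Z : Over (Spec (CommRingCat.of k))} (g₁ g₂ : Z ⟶ A),
      g₁ ≫ (𝟙 A ^ n) = g₂ ≫ (𝟙 A ^ n) → g₁ ≫ φ = g₂ ≫ φ := fun g₁ g₂ hg => by
    refine map_injective Ω ?_
    have h2 := congrArg (bcF Ω).map hg
    rw [Functor.map_comp, Functor.map_comp, hFf] at h2
    rw [Functor.map_comp, Functor.map_comp, he', ← Category.assoc, h2, Category.assoc]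
  have hl : ∀ {Z : Scheme.{u}} (g₁ g₂ : Z ⟶ A.left), g₁ ≫ (𝟙 A ^ n).left = g₂ ≫ (𝟙 A ^ n).left →
      g₁ ≫ φ.left = g₂ ≫ φ.left := by
    intro Z g₁ g₂ hg
    have hw : g₂ ≫ A.hom = g₁ ≫ A.hom := by
      rw [← Over.w (𝟙 A ^ n), ← Category.assoc, ← hg, Category.assoc]
    exact congrArg CommaMorphism.left
      (key (Over.homMk g₁ rfl : Over.mk (g₁ ≫ A.hom) ⟶ A) (Over.homMk g₂ hw) (Over.OverMorphism.ext hg))
  haveI : EffectiveEpi (𝟙 A ^ n).left := inferInstance
  let ψ : A ⟶ B := Over.homMk (EffectiveEpi.desc (𝟙 A ^ n).left φ.left hl) (by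
    rw [← cancel_epi (𝟙 A ^ n).left, EffectiveEpi.fac_assoc, Over.w, Over.w])
  have hψ : (𝟙 A ^ n) ≫ ψ = φ := Over.OverMorphism.ext (EffectiveEpi.fac _ φ.left hl)
  have hFψ : (bcF Ω).map ψ = ψ' := eq_of_comp_pow Ω hn0 (by rw [← hFf, ← Functor.map_comp, hψ, he', hFf])
  haveI := hψ'
  refine ⟨ψ, ?_, hψ.symm⟩
  have hmul : (fst A A * snd A A) ≫ ψ = (fst A A ≫ ψ) * (snd A A ≫ ψ) := map_injective Ω (by
    rw [Functor.map_comp, hFψ, Functor.map_mul, Functor.map_mul, MonObj.mul_comp, Functor.map_comp,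
      Functor.map_comp, hFψ])
  have hone : (1 : 𝟙_ (Over (Spec (CommRingCat.of k))) ⟶ A) ≫ ψ = 1 := map_injective Ω (by
    rw [Functor.map_comp, hFψ, Functor.map_one, MonObj.one_comp, Functor.map_one])
  constructor
  · rwa [Hom.one_def, Hom.one_def, toUnit_unique (toUnit _) (𝟙 _), Category.id_comp, Category.id_comp] at hone
  · rw [Hom.mul_def, lift_fst_snd, Category.id_comp, Hom.mul_def] at hmul
    rw [hmul]
    congr 1

theorem exists_component_eq_ext (l : ℕ) [Fact l.Prime] (m : ℕ)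
    (a : 𝟙_ (Over (Spec (CommRingCat.of Ω))) ⟶ (bcF Ω).obj A) (ha : a ^ (l ^ m) = 1) :
    ∃ x : AbDual.TateMod A l (SGA7.pt (K := k) Ω), bcPt Ω ((x : ℕ → Additive (SGA7.pt (K := k) Ω ⟶ A)) m).toMul = a := by
  haveI : IsProper ((bcF Ω).obj A).hom := inferInstanceAs (IsProper (pullback.snd A.hom _))
  haveI : GeometricallyIntegral ((bcF Ω).obj A).hom := inferInstanceAs (GeometricallyIntegral (pullback.snd A.hom _))
  obtain ⟨y, hy⟩ := exists_component_eq ((bcF Ω).obj A) l m a ha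
  obtain ⟨x, rfl⟩ := (tateBc Ω A l).surjective y
  exact ⟨x, Additive.ofMul.injective hy⟩

variable (l : ℕ) [Fact l.Prime]

/-- If `T(φ)` is divisible by `l` then so is `φ`. -/
theorem exists_eq_nsmul (hl : (l : Ω) ≠ 0) (φ : EndAV.Hom A B)
    (w : AbDual.TateMod A l (SGA7.pt (K := k) Ω) →ₗ[ℤ_[l]] AbDual.TateMod B l (SGA7.pt (K := k) Ω))
    (hw : EndAV.Hom.tateMap (A := A) (B := B) l (SGA7.pt Ω) φ = l • w) :
    ∃ ψ : EndAV.Hom A B, φ = l • ψ := by
  obtain ⟨ψ, hψ, he⟩ := exists_div_field Ω hl φ.toHom fun a ha => by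
    obtain ⟨x, hx⟩ := exists_component_eq_ext Ω l 1 a (by rw [pow_one]; exact ha)
    let P := AbDual.TateMod.component B l (SGA7.pt (K := k) Ω) 1
    have h1 := congrArg P (LinearMap.congr_fun hw x)
    rw [LinearMap.smul_apply, map_nsmul] at h1
    have h2 : (l ^ 1) • P (w x) = 0 := (w x).torsion 1
    rw [pow_one] at h2
    rw [h2] at h1
    change Additive.ofMul (((x : ℕ → Additive (SGA7.pt (K := k) Ω ⟶ A)) 1).toMul ≫ φ.toHom) = 0 at h1
    rw [← hx, ← bcPt_comp, show ((x : ℕ → Additive (SGA7.pt (K := k) Ω ⟶ A)) 1).toMul ≫ φ.toHom = 1 from Additive.ofMul.injective h1]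
    rw [bcPt, Functor.map_one, MonObj.comp_one]
  refine ⟨EndAV.Hom.of ψ, EndAV.Hom.ext ?_⟩
  rw [EndAV.Hom.toHom_nsmul, he]
  show _ = ψ ^ l
  rw [MonObj.pow_comp, Category.id_comp]

/-- The `ℤ_l`-span of the homomorphisms is saturated. -/
theorem mem_span_of_smul_mem (hl : (l : Ω) ≠ 0)
    (v : AbDual.TateMod A l (SGA7.pt (K := k) Ω) →ₗ[ℤ_[l]] AbDual.TateMod B l (SGA7.pt (K := k) Ω))
    (hv : (l : ℤ_[l]) • v ∈
      Submodule.span ℤ_[l] (Set.range (EndAV.Hom.tateMap (A := A) (B := B) l (SGA7.pt Ω)))) :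
    v ∈ Submodule.span ℤ_[l] (Set.range (EndAV.Hom.tateMap (A := A) (B := B) l (SGA7.pt Ω))) := by
  classical
  set T := EndAV.Hom.tateMap (A := A) (B := B) l (SGA7.pt Ω)
  obtain ⟨a, ha⟩ := Finsupp.mem_span_range_iff_exists_finsupp.1 hv
  choose d hd using fun φ => Ideal.mem_span_singleton'.mp (PadicInt.appr_spec 1 (a φ))
  set φ0 : EndAV.Hom A B := ∑ φ ∈ a.support, (a φ).appr 1 • φ
  set u := ∑ φ ∈ a.support, d φ • T φ
  have h0 : T φ0 = l • (v - u) := by
    rw [map_sum, ← Nat.cast_smul_eq_nsmul ℤ_[l] l, smul_sub, ← ha, Finsupp.sum, Finset.smul_sum,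
      ← Finset.sum_sub_distrib]
    refine Finset.sum_congr rfl fun φ _ => ?_
    rw [map_nsmul, ← Nat.cast_smul_eq_nsmul ℤ_[l], smul_smul, ← sub_smul]
    congr 1
    have := hd φ
    rw [pow_one] at this
    linear_combination this
  obtain ⟨ψ, hψ⟩ := exists_eq_nsmul Ω l hl φ0 _ h0
  rw [hψ, map_nsmul] at h0
  obtain ⟨g, hg⟩ := exists_dim_field B
  obtain ⟨hfree, -, -⟩ := tate_free_finite_finrank_ext Ω B hg l hl
  have h1 : T ψ = v - u := by
    refine LinearMap.ext fun x => ?_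
    have h2 := LinearMap.congr_fun h0 x
    simp only [LinearMap.smul_apply, ← Nat.cast_smul_eq_nsmul ℤ_[l]] at h2
    exact smul_right_injective _ (Nat.cast_ne_zero.2 (Fact.out : l.Prime).ne_zero) h2
  rw [eq_sub_iff_add_eq] at h1
  rw [← h1]
  exact add_mem (Submodule.subset_span ⟨ψ, rfl⟩)
    (Submodule.sum_mem _ fun φ _ => Submodule.smul_mem _ _ (Submodule.subset_span ⟨φ, rfl⟩))

end AVAmpleLib

end
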