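import Groth.Agent.WeilLib.Frob
import Mathlib.RingTheory.Artinian.Module
import Mathlib.RingTheory.SimpleModule.Basic
import Mathlib.AlgebraicGeometry.Morphisms.FlatRank

/-!
Finite schemes on which the `Q`-th power map is the identity.
-/

set_option autoImplicit false
set_option linter.style.haveILetI false
set_option linter.unusedSectionVars false
set_option backward.isDefEq.respectTransparency false
set_option maxHeartbeats 1000000

noncomputable section

universe u

open CategoryTheory CategoryTheory.Limits AlgebraicGeometry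
open WeilLib

namespace AVAmpleLib

variable {X : Scheme.{u}} {Φ : X ⟶ X} {Q : ℕ} (hb : ∀ x, Φ x = x)
  (hΦ : ∀ x a, stk Φ x x (hb x) a = a ^ Q)

include hb hΦ in
/-- Points with values in a field with `Q` elements are fixed. -/
theorem comp_eq_of_pow {L : Type u} [Field L] (hL : ∀ r : L, r ^ Q = r) (x : Spec (CommRingCat.of L) ⟶ X) :
    x ≫ Φ = x := by
  let s := Scheme.SpecToEquivOfField L X x
  have hx : x = Spec.map (X.residue s.1 ≫ s.2) ≫ X.fromSpecStalk s.1 := by
    rw [Spec.map_comp, Category.assoc]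
    exact ((Scheme.SpecToEquivOfField L X).symm_apply_apply x).symm
  rw [hx, comp_powEnd hb hΦ (X.residue s.1 ≫ s.2) (𝟙 _) fun r => (hL r).symm, Category.comp_id]

include hb hΦ in
/-- Sections of a closed subscheme fixed by the `Q`-th power map satisfy `b ^ Q = b`. -/
theorem pow_eq_self_of_comp_eq {K : Scheme.{u}} (j : K ⟶ X) [IsClosedImmersion j] (hj : j ≫ Φ = j)
    (U : K.Opens) (b : Γ(K, U)) : b ^ Q = b := by
  refine TopCat.Presheaf.section_ext K.sheaf U _ _ fun z hz => ?_
  show K.presheaf.germ U z hz (b ^ Q) = K.presheaf.germ U z hz b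
  rw [map_pow]
  have hsurj : Function.Surjective (stk j z (j z) rfl) := by
    rw [← stk_self]; exact j.stalkMap_surjective z
  obtain ⟨a, ha⟩ := hsurj (K.presheaf.germ U z hz b)
  have hΦj : (j ≫ Φ) z = j z := hb (j z)
  have e1 := stk_comp j Φ z (j z) (j z) rfl (hb _) hΦj
  have e2 : stk (j ≫ Φ) z (j z) hΦj = stk j z (j z) rfl :=
    stk_eq rfl ((stk_spec _ _ _ _).trans (by rw [hj]))
  rw [← ha, ← map_pow, ← hΦ, ← CommRingCat.comp_apply, e1, e2]

section Algebra

variable {k : Type u} [Field k] [Finite k] (L : Type u) [Field L] [Algebra k L] [Finite L]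

/-- The points of a finite algebra with `b ^ #L = b` in `L` number its rank. -/
theorem natCard_algHom_of_pow (B : Type u) [CommRing B] [Algebra k B] [Module.Finite k B]
    (hB : ∀ b : B, b ^ Nat.card L = b) : Nat.card (B →ₐ[k] L) = Module.finrank k B := by
  classical
  letI := Fintype.ofFinite L
  haveI : IsArtinianRing B := IsArtinianRing.of_finite k B
  haveI : IsReduced B := ⟨fun b ⟨n, hn⟩ => by
    have : ∀ j : ℕ, b ^ Nat.card L ^ j = b := fun j => by
      induction j with
      | zero => simp
      | succ j ih => rw [pow_succ, pow_mul, ih, hB]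
    rw [← this n]
    exact pow_eq_zero_of_le (Nat.lt_pow_self Finite.one_lt_card).le hn⟩
  let h : (Σ m : MaximalSpectrum B, (B ⧸ m.asIdeal) →ₐ[k] L) → (B →ₐ[k] L) := fun p =>
    p.2.comp (Ideal.Quotient.mkₐ k p.1.asIdeal)
  have hker : ∀ p, RingHom.ker (h p) = p.1.asIdeal := fun p => by
    letI : Field (B ⧸ p.1.asIdeal) := Ideal.Quotient.field _
    ext b
    simp [h, RingHom.mem_ker, map_eq_zero_iff _ (RingHom.injective p.2.toRingHom), Ideal.Quotient.eq_zero_iff_mem]
  have hbij : Function.Bijective h := by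
    constructor
    · rintro ⟨m, f⟩ ⟨m', f'⟩ e
      obtain rfl : m = m' := MaximalSpectrum.ext ((hker ⟨m, f⟩).symm.trans ((congrArg RingHom.ker e).trans (hker ⟨m', f'⟩)))
      obtain rfl : f = f' := Ideal.Quotient.algHom_ext k e
      rfl
    · intro φ
      haveI : (RingHom.ker φ).IsPrime := RingHom.ker_isPrime φ.toRingHom
      refine ⟨⟨⟨RingHom.ker φ, IsArtinianRing.isMaximal_of_isPrime _⟩,
        Ideal.Quotient.liftₐ _ φ fun a ha => ha⟩, AlgHom.ext fun b => rfl⟩
  let e : B ≃ₐ[k] ((m : MaximalSpectrum B) → B ⧸ m.asIdeal) :=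
    AlgEquiv.ofBijective (AlgHom.pi fun m => Ideal.Quotient.mkₐ k m.asIdeal) (IsArtinianRing.equivPi B).bijective
  haveI : Fintype (MaximalSpectrum B) := Fintype.ofFinite _
  haveI : ∀ m : MaximalSpectrum B, Finite ((B ⧸ m.asIdeal) →ₐ[k] L) := fun m => by
    haveI : Finite B := Module.finite_of_finite k
    haveI : Finite (B ⧸ m.asIdeal) := Finite.of_surjective _ Ideal.Quotient.mk_surjective
    exact Finite.of_injective _ DFunLike.coe_injective
  rw [← Nat.card_eq_of_bijective h hbij, Nat.card_sigma, e.toLinearEquiv.finrank_eq, Module.finrank_pi_fintype]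
  refine Finset.sum_congr rfl fun m _ => ?_
  letI : Field (B ⧸ m.asIdeal) := Ideal.Quotient.field _
  haveI : Finite B := Module.finite_of_finite k
  haveI : Finite (B ⧸ m.asIdeal) := Finite.of_surjective _ Ideal.Quotient.mk_surjective
  refine AlgHom.natCard_of_splits k (B ⧸ m.asIdeal) L fun x => ?_
  have hdvd : minpoly k x ∣ Polynomial.X ^ Fintype.card L - Polynomial.X := by
    refine minpoly.dvd k x ?_
    obtain ⟨b, rfl⟩ := Ideal.Quotient.mk_surjective x
    rw [map_sub, map_pow, Polynomial.aeval_X, ← map_pow, ← Nat.card_eq_fintype_card, hB, sub_self]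
  refine (FiniteField.isSplittingField_sub L k).splits.of_dvd ?_ (Polynomial.map_dvd _ hdvd)
  rw [Polynomial.map_sub, Polynomial.map_pow, Polynomial.map_X]
  exact FiniteField.X_pow_card_sub_X_ne_zero L Fintype.one_lt_card

/-- The scheme version. -/
theorem natCard_points_of_pow (K : Over (Spec (CommRingCat.of k))) [IsFinite K.hom]
    (hK : ∀ b : Γ(K.left, ⊤), b ^ Nat.card L = b) :
    Nat.card (Over.mk (Spec.map (CommRingCat.ofHom (algebraMap k L))) ⟶ K) =
      K.hom.finrank (IsLocalRing.closedPoint k) := by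
  haveI : IsAffine K.left := isAffine_of_isAffineHom K.hom
  obtain ⟨σ, hσ⟩ := Spec.map_surjective (K.left.isoSpec.inv ≫ K.hom)
  have hfin : σ.hom.Finite :=
    (IsFinite.SpecMap_iff σ).mp (hσ ▸ (inferInstance : IsFinite (K.left.isoSpec.inv ≫ K.hom)))
  let B := Γ(K.left, ⊤)
  letI : Algebra k B := σ.hom.toAlgebra
  haveI : Module.Finite k B := hfin
  have hflat : Flat K.hom := by
    have h1 : Flat (Spec.map σ) := by
      rw [HasRingHomProperty.Spec_iff (P := @Flat)]
      show (algebraMap k B).Flat
      rw [RingHom.flat_algebraMap_iff]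
      infer_instance
    rw [show K.hom = K.left.isoSpec.hom ≫ Spec.map σ by rw [hσ, Iso.hom_inv_id_assoc]]
    infer_instance
  have hdeg : K.hom.finrank (IsLocalRing.closedPoint k) = Module.finrank k B := by
    haveI := hflat
    rw [← Scheme.Hom.finrank_comp_left_of_isIso K.left.isoSpec.inv K.hom, ← hσ,
      show Spec.map σ = Spec.map (CommRingCat.ofHom (algebraMap k B)) from rfl,
      Scheme.Hom.finrank_SpecMap_algebraMap, Module.rankAtStalk_eq_finrank_of_free]
    rfl
  rw [hdeg, ← natCard_algHom_of_pow L B hK]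
  symm
  refine Nat.card_eq_of_bijective (fun φ => Over.homMk (Spec.map (CommRingCat.ofHom φ.toRingHom) ≫ K.left.isoSpec.inv) ?_)
    ⟨?_, ?_⟩
  · show _ = Spec.map (CommRingCat.ofHom (algebraMap k L))
    rw [Category.assoc, ← hσ, ← Spec.map_comp]
    congr 1
    ext r
    exact φ.commutes r
  · intro φ φ' h
    have := (cancel_mono K.left.isoSpec.inv).mp (congrArg Over.Hom.left h)
    exact AlgHom.ext fun b => congrArg (fun t : B ⟶ CommRingCat.of L => t.hom b) (Spec.map_inj.mp this)
  · intro s
    obtain ⟨χ, hχ⟩ := Spec.map_surjective (s.left ≫ K.left.isoSpec.hom)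
    have hc : σ ≫ χ = CommRingCat.ofHom (algebraMap k L) := by
      apply Spec.map_injective
      rw [Spec.map_comp, hσ, hχ, Category.assoc, Iso.hom_inv_id_assoc]
      exact Over.w s
    refine ⟨{ χ.hom with commutes' := fun r => congrArg (fun t : CommRingCat.of k ⟶ _ => t.hom r) hc }, ?_⟩
    refine Over.OverMorphism.ext ?_
    show Spec.map χ ≫ K.left.isoSpec.inv = s.left
    exact (congrArg (· ≫ K.left.isoSpec.inv) hχ).trans (by rw [Category.assoc, Iso.hom_inv_id, Category.comp_id])

end Algebra

end AVAmpleLib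

end
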