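import Groth.Agent.CurveFFLib.Twist
import Groth.Prelude.Def_EndRing
import Mathlib.FieldTheory.Finite.Basic

/-!
The `q`-power endomorphism of a scheme over a finite field with `q` elements.
-/

set_option autoImplicit false
set_option linter.style.haveILetI false
set_option linter.unusedSectionVars false
set_option backward.isDefEq.respectTransparency false

noncomputable section

universe u

open CategoryTheory MonoidalCategory CartesianMonoidalCategory MonObj AlgebraicGeometry FrobSch

namespace AVAmpleLib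

theorem frobIter_appLE {p : ℕ} [Fact p.Prime] {X : Scheme.{u}} [IsCharP X p] (n : ℕ) :
    ∃ hle : ∀ U : X.Opens, U ≤ frobIter X p n ⁻¹ᵁ U, ∀ (U : X.Opens) (s : Γ(X, U)),
      ((frobIter X p n).appLE U U (hle U)).hom s = s ^ p ^ n := by
  induction n with
  | zero => exact ⟨fun U => le_rfl, fun U s => by
    simp only [pow_zero, pow_one]
    exact congrArg (fun r => r.hom s) (X.presheaf.map_id _)⟩
  | succ n ih =>
    obtain ⟨hle, h⟩ := ih
    refine ⟨fun U x hx => hle U hx, fun U s => ?_⟩
    have e : (frob X p ≫ frobIter X p n).appLE U U (fun x hx => hle U hx) =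
        (frobIter X p n).appLE U U (hle U) ≫ (frob X p).appLE U U (fun x hx => hx) :=
      (Scheme.Hom.appLE_comp_appLE (frob X p) (frobIter X p n) U U U (hle U) (fun x hx => hx)).symm
    show ((frob X p ≫ frobIter X p n).appLE U U _).hom s = _
    rw [e, CommRingCat.hom_comp, RingHom.comp_apply, h, map_pow, pow_succ', pow_mul]
    congr 1
    show (X.presheaf.map _).hom ((frob X p).app U s) = s ^ p
    rw [frob_app, map_pow]
    exact congrArg (fun z => z ^ p) (congrArg (fun r => r.hom s) (X.presheaf.map_id _))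

theorem frobIter_spec_card (K : Type u) [Field K] [Finite K] :
    ∃ (p n : ℕ) (_ : Fact p.Prime) (_ : CharP K p), Nat.card K = p ^ n ∧
      frobIter (Spec (CommRingCat.of K)) p n = 𝟙 _ := by
  letI := Fintype.ofFinite K
  obtain ⟨p, hc⟩ := CharP.exists K
  haveI := hc
  obtain ⟨n, hp, hq⟩ := FiniteField.card K p
  haveI := Fact.mk hp
  haveI : ExpChar K p := ExpChar.prime hp
  refine ⟨p, n, inferInstance, hc, by rw [Nat.card_eq_fintype_card, hq], ?_⟩
  rw [CurveFFLib.frobIter_spec, ← Spec.map_id]
  congr 1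
  refine CommRingCat.hom_ext (RingHom.ext fun x => ?_)
  show iterateFrobenius K p n x = x
  rw [iterateFrobenius_def, ← hq, FiniteField.pow_card]

/-- The `q`-power endomorphism of a commutative group scheme over a finite field with `q` elements. -/
theorem exists_frob {K : Type u} [Field K] [Finite K] (A : Over (Spec (CommRingCat.of K))) [GrpObj A] :
    ∃ (π : A ⟶ A) (_ : IsMonHom π) (hle : ∀ U : A.left.Opens, U ≤ π.left ⁻¹ᵁ U), π.left.base = 𝟙 _ ∧
      ∀ (U : A.left.Opens) (s : Γ(A.left, U)), (π.left.appLE U U (hle U)).hom s = s ^ Nat.card K := by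
  obtain ⟨p, n, _, _, hq, hid⟩ := frobIter_spec_card K
  haveI : ∀ T : Over (Spec (CommRingCat.of K)), IsCharP T.left p := fun T => IsCharP.of_hom T.hom p
  let fr : ∀ T : Over (Spec (CommRingCat.of K)), T ⟶ T := fun T => Over.homMk (frobIter T.left p n) (by
    rw [CurveFFLib.frobIter_comp, hid, Category.comp_id])
  have hnat : ∀ {T T' : Over (Spec (CommRingCat.of K))} (f : T ⟶ T'), fr T ≫ f = f ≫ fr T' := fun f =>
    Over.OverMorphism.ext (CurveFFLib.frobIter_comp f.left n)
  have h1 : fr (𝟙_ (Over (Spec (CommRingCat.of K)))) = 𝟙 _ := toUnit_unique _ _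
  have h2 : fr (A ⊗ A) = fr A ⊗ₘ fr A := by
    ext1
    · rw [tensorHom_fst]; exact hnat _
    · rw [tensorHom_snd]; exact hnat _
  haveI hM : IsMonHom (fr A) := ⟨by rw [← hnat, h1, Category.id_comp], by rw [← hnat, h2]⟩
  obtain ⟨hle, happ⟩ := frobIter_appLE (X := A.left) (p := p) n
  exact ⟨fr A, hM, hle, by ext x; exact CurveFFLib.frobIter_apply n x, fun U s => hq ▸ happ U s⟩

end AVAmpleLib

end
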