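import Groth.Agent.AVAmpleLib.IsogInv
import Groth.Agent.AVAmpleLib.FrobExist

/-!
A commutative finite group scheme on which the `q`-th power map of the algebra factors through the base is killed
by `q` (the relation `q = V ∘ F`).
-/

set_option autoImplicit false
set_option linter.style.haveILetI false
set_option backward.isDefEq.respectTransparency false
set_option maxHeartbeats 1000000

noncomputable section

universe u

open CategoryTheory CategoryTheory.Limits MonoidalCategory CartesianMonoidalCategory MonObj AlgebraicGeometry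
open WithConv TensorProduct

namespace AVAmpleLib

/-- In a cocommutative finite Hopf algebra whose `p ^ n`-th powers are scalars, the identity has convolution
order dividing `p ^ n`. -/
theorem conv_id_pow_eq_one {k B : Type u} [Field k] [CommRing B] [HopfAlgebra k B] [Coalgebra.IsCocomm k B]
    [Module.Finite k B] (p n : ℕ) [Fact p.Prime] [CharP k p]
    (h : ∀ x : B, x ^ p ^ n ∈ (algebraMap k B).range) :
    toConv (AlgHom.id k B) ^ p ^ n = 1 := by
  classical
  haveI : Nontrivial B := (Bialgebra.counitAlgHom k B).toRingHom.domain_nontrivial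
  have hinj : Function.Injective (algebraMap k (WithConv (B →ₗ[k] B))) := fun s t hst => by
    have := congrArg (fun f : WithConv (B →ₗ[k] B) => f 1) hst
    simpa [Bialgebra.counit_one, Algebra.smul_def] using this
  haveI : CharP (WithConv (B →ₗ[k] B)) p := charP_of_injective_algebraMap hinj p
  haveI : ExpChar (WithConv (B →ₗ[k] B)) p := ExpChar.prime (Fact.out : p.Prime)
  let b := Module.Free.chooseBasis k B
  let α : Module.Free.ChooseBasisIndex k B → WithConv (B →ₗ[k] B) := fun i =>
    toConv (Algebra.linearMap k B ∘ₗ b.coord i)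
  have hid : toConv (AlgHom.id k B).toLinearMap = ∑ i, b i • α i := by
    apply WithConv.ofConv_injective
    refine LinearMap.ext fun x => ?_
    simp only [WithConv.ofConv_sum, WithConv.ofConv_smul, LinearMap.sum_apply, LinearMap.smul_apply, α]
    show x = _
    conv_lhs => rw [← b.sum_repr x]
    refine Finset.sum_congr rfl fun i _ => ?_
    rw [Algebra.smul_def, mul_comm, smul_eq_mul]
    rfl
  have hα : ∀ (i) (m : ℕ) (x : B), (α i ^ m) x ∈ (algebraMap k B).range := by
    intro i m
    induction m with
    | zero => intro x; exact ⟨_, (LinearMap.convOne_apply x).symm⟩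
    | succ m ih =>
      intro x
      rw [pow_succ, (Coalgebra.Repr.arbitrary k x).convMul_apply]
      exact Subring.sum_mem _ fun j _ => Subring.mul_mem _ (ih _) ⟨_, rfl⟩
  have hrange : ∀ x : B, (toConv (AlgHom.id k B) ^ p ^ n) x ∈ (algebraMap k B).range := by
    intro x
    have h2 : (toConv (AlgHom.id k B).toLinearMap ^ p ^ n) x ∈ (algebraMap k B).range := by
      rw [hid, sum_pow_char_pow]
      show (∑ i, (b i • α i) ^ p ^ n : WithConv (B →ₗ[k] B)).ofConv x ∈ _
      rw [WithConv.ofConv_sum, LinearMap.sum_apply]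
      refine Subring.sum_mem _ fun i _ => ?_
      rw [smul_pow, WithConv.ofConv_smul, LinearMap.smul_apply]
      exact Subring.mul_mem _ (h (b i)) (hα i _ x)
    rw [← AlgHom.toLinearMap_convPow] at h2
    exact h2
  have hcomp : ∀ m : ℕ, (Bialgebra.counitAlgHom k B).comp (toConv (AlgHom.id k B) ^ m).ofConv =
      Bialgebra.counitAlgHom k B := by
    intro m
    induction m with
    | zero => exact AlgHom.ext fun x => by simp
    | succ m ih =>
      rw [pow_succ, AlgHom.comp_convMul_distrib, ih, AlgHom.comp_id]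
      have h1 : toConv (Bialgebra.counitAlgHom k B) = (1 : WithConv (B →ₐ[k] k)) :=
        WithConv.ofConv_injective (AlgHom.ext fun x => rfl)
      rw [h1, _root_.one_mul, ← h1]
  apply WithConv.ofConv_injective
  refine AlgHom.ext fun x => ?_
  obtain ⟨t, ht⟩ := hrange x
  have h3 := DFunLike.congr_fun (hcomp (p ^ n)) x
  have h4 : (toConv (AlgHom.id k B) ^ p ^ n).ofConv x = algebraMap k B t := ht.symm
  rw [AlgHom.comp_apply, h4, AlgHom.commutes] at h3
  rw [h4]
  show _ = algebraMap k B (Coalgebra.counit x)
  rw [← Bialgebra.counitAlgHom_apply, ← h3]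
  rfl

variable {k : Type u} [Field k]

/-- A commutative finite group scheme whose `q`-th powers of sections are constants is killed by `q`. -/
theorem pow_eq_one_of_pow_mem_range (N : Over (Spec (CommRingCat.of k))) [GrpObj N] [IsCommMonObj N]
    [IsFinite N.hom] (p n : ℕ) [Fact p.Prime] [CharP k p]
    (h : ∀ s : Γ(N.left, ⊤), ∃ t, s ^ p ^ n = (N.hom.appTop).hom t) : (𝟙 N) ^ p ^ n = 1 := by
  haveI : IsAffine N.left := isAffine_of_isAffineHom N.hom
  obtain ⟨H, ⟨e⟩⟩ : (hopfSpec (CommRingCat.of k)).essImage (Grp.mk N) :=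
    (essImage_hopfSpec (R := CommRingCat.of k) (G := Grp.mk N)).2 inferInstance
  let B := H.unop.X
  letI : CommRing B := H.unop.commRing
  letI : HopfAlgebra k B := H.unop.hopfAlgebra
  let v : (Spec (CommRingCat.of B)).asOver (Spec (CommRingCat.of k)) ≅ N := (Grp.forget _).mapIso e
  haveI : IsMonHom v.hom := e.hom.hom.isMonHom_hom
  haveI : IsIso v.hom.left := inferInstanceAs (IsIso ((Over.forget _).map v.hom))
  have hw : v.hom.left ≫ N.hom = Spec.map (CommRingCat.ofHom (algebraMap k B)) := Over.w v.hom
  haveI : IsFinite (Spec.map (CommRingCat.ofHom (algebraMap k B))) := by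
    rw [← hw]
    infer_instance
  haveI : Module.Finite k B := RingHom.finite_algebraMap.1 ((IsFinite.SpecMap_iff (CommRingCat.ofHom (algebraMap k B))).1 inferInstance)
  haveI : Coalgebra.IsCocomm k B := ⟨by
    have hc : toConv (Algebra.TensorProduct.includeLeft : B →ₐ[k] B ⊗[k] B) *
        toConv (Algebra.TensorProduct.includeRight : B →ₐ[k] B ⊗[k] B) =
        toConv (Algebra.TensorProduct.includeRight : B →ₐ[k] B ⊗[k] B) *
        toConv (Algebra.TensorProduct.includeLeft : B →ₐ[k] B ⊗[k] B) := by
      apply (Spec.mapMulEquiv (R := k) (S := B) (T := B ⊗[k] B)).injective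
      rw [map_mul, map_mul, ← cancel_mono v.hom, MonObj.mul_comp, MonObj.mul_comp]
      exact _root_.mul_comm _ _
    refine LinearMap.ext fun x => ?_
    have hx := DFunLike.congr_fun (congrArg WithConv.ofConv hc) x
    simp only [AlgHom.convMul_apply] at hx
    have h1 : ∀ z : B ⊗[k] B, Algebra.TensorProduct.lift (Algebra.TensorProduct.includeLeft : B →ₐ[k] B ⊗[k] B)
        Algebra.TensorProduct.includeRight (fun _ _ => .all _ _) z = z := fun z => by
      induction z with
      | zero => simp
      | add a b ha hb => simp [ha, hb]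
      | tmul a b => simp
    have h2 : ∀ z : B ⊗[k] B, Algebra.TensorProduct.lift (Algebra.TensorProduct.includeRight : B →ₐ[k] B ⊗[k] B)
        Algebra.TensorProduct.includeLeft (fun _ _ => .all _ _) z = TensorProduct.comm k B B z := fun z => by
      induction z with
      | zero => simp
      | add a b ha hb => simp [ha, hb]
      | tmul a b => simp
    show TensorProduct.comm k B B (Coalgebra.comul x) = Coalgebra.comul x
    rw [← h2, ← hx, h1]⟩
  have hB : ∀ x : B, x ^ p ^ n ∈ (algebraMap k B).range := by
    intro x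
    let x' : Γ(Spec (CommRingCat.of B), ⊤) := (Scheme.ΓSpecIso (CommRingCat.of B)).inv.hom x
    obtain ⟨t, ht⟩ := h ((inv v.hom.left).appTop.hom x')
    have h1 := congrArg (fun z => v.hom.left.appTop.hom z) ht
    have h2 : v.hom.left.appTop.hom ((inv v.hom.left).appTop.hom x') = x' := by
      rw [← CommRingCat.comp_apply, ← Scheme.Hom.comp_appTop, IsIso.hom_inv_id]
      rfl
    simp only [map_pow, h2] at h1
    rw [← CommRingCat.comp_apply, ← Scheme.Hom.comp_appTop, hw] at h1
    refine ⟨(Scheme.ΓSpecIso (CommRingCat.of k)).hom.hom t, ?_⟩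
    have h6 := ConcreteCategory.congr_hom
      (Scheme.ΓSpecIso_naturality (CommRingCat.ofHom (algebraMap k B))) t
    have h5 : (Scheme.ΓSpecIso (CommRingCat.of B)).hom.hom x' = x :=
      (Scheme.ΓSpecIso (CommRingCat.of B)).inv_hom_id_apply x
    have h3 := congrArg (Scheme.ΓSpecIso (CommRingCat.of B)).hom.hom h1
    rw [map_pow, h5] at h3
    exact (h3.trans h6).symm
  have h2 := congrArg (Spec.mapMulEquiv (R := k) (S := B) (T := B)) (conv_id_pow_eq_one p n hB)
  rw [map_pow, map_one] at h2
  have h3 : Spec.mapMulEquiv (R := k) (S := B) (T := B) (toConv (AlgHom.id k B)) = 𝟙 _ := by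
    ext1
    show Spec.map (CommRingCat.ofHom (AlgHom.id k B).toRingHom) = _
    rw [show (AlgHom.id k B).toRingHom = RingHom.id B from rfl, CommRingCat.ofHom_id, Spec.map_id]
    rfl
  rw [h3] at h2
  have h4 := congrArg (fun t => t ≫ v.hom) h2
  simp only [MonObj.pow_comp, Category.id_comp, MonObj.one_comp] at h4
  rw [← cancel_epi v.hom, MonObj.comp_pow, Category.comp_id, h4, MonObj.comp_one]

variable {X : Over (Spec (CommRingCat.of k))} [GrpObj X]

/-- The Verschiebung: the Frobenius endomorphism of an abelian variety over a finite field divides `q`. -/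
theorem exists_verschiebung [Finite k] [IsCommMonObj X] [IsProper X.hom] [GeometricallyIntegral X.hom]
    (π : X ⟶ X) [IsMonHom π] (hπb : π.left.base = 𝟙 _) (hπle : ∀ U : X.left.Opens, U ≤ π.left ⁻¹ᵁ U)
    (hπapp : ∀ (U : X.left.Opens) (s : Γ(X.left, U)), (π.left.appLE U U (hπle U)).hom s = s ^ Nat.card k) :
    ∃ (v : X ⟶ X) (_ : IsMonHom v), π ≫ v = (𝟙 X) ^ Nat.card k ∧ v ≫ π = (𝟙 X) ^ Nat.card k := by
  obtain ⟨p, n, _, _, hq, -⟩ := frobIter_spec_card k
  have hid : ∀ x : X.left, π.left x = x := fun x => congr($hπb x)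
  haveI : IsProper π.left := by
    haveI : IsProper (π.left ≫ X.hom) := by rw [Over.w π]; infer_instance
    exact IsProper.of_comp π.left X.hom
  haveI : IsAffineHom π.left := ⟨fun U hU => by
    rwa [show π.left ⁻¹ᵁ U = U from TopologicalSpace.Opens.ext (Set.ext fun x => by
      show π.left x ∈ U ↔ x ∈ U
      rw [hid])]⟩
  haveI : IsFinite π.left := IsFinite.iff_isProper_and_isAffineHom.2 ⟨inferInstance, inferInstance⟩
  haveI : Surjective π.left := ⟨fun x => ⟨x, hid x⟩⟩
  haveI : LocallyOfFinitePresentation X.hom := LocallyOfFinitePresentation.iff_locallyOfFiniteType.2 inferInstance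
  haveI := smooth_hom X
  haveI : Flat π.left := AbSchLib.flat_of_surjective π
  let e : Spec (CommRingCat.of k) ⟶ X.left := (η[X] : 𝟙_ (Over (Spec (CommRingCat.of k))) ⟶ X).left
  let N : Over (Spec (CommRingCat.of k)) := Over.mk (pullback.snd π.left e)
  let i : N ⟶ X := Over.homMk (pullback.fst π.left e) (by
    show pullback.fst π.left e ≫ X.hom = pullback.snd π.left e
    have he : e ≫ X.hom = 𝟙 (Spec (CommRingCat.of k)) := Over.w (η[X] : 𝟙_ (Over (Spec (CommRingCat.of k))) ⟶ X)
    rw [← Over.w π, ← Category.assoc, pullback.condition, Category.assoc, he, Category.comp_id])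
  haveI : IsClosedImmersion e := isClosedImmersion_of_comp_eq_id X.hom e (Over.w _)
  haveI : IsClosedImmersion i.left := inferInstanceAs (IsClosedImmersion (pullback.fst π.left e))
  haveI : Mono i.left := inferInstance
  haveI : Mono i := Functor.mono_of_mono_map (Over.forget _) (inferInstanceAs (Mono i.left))
  have hfac : ∀ {T : Over (Spec (CommRingCat.of k))} (a : T ⟶ X), a ≫ π = 1 → ∃ t : T ⟶ N, t ≫ i = a := by
    intro T a ha
    have hl : a.left ≫ π.left = T.hom ≫ e := by
      rw [← Over.comp_left, ha, Hom.one_def, Over.comp_left]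
      rfl
    exact ⟨Over.homMk (pullback.lift a.left T.hom hl) (pullback.lift_snd _ _ _),
      Over.OverMorphism.ext (pullback.lift_fst _ _ _)⟩
  have hif : i ≫ π = 1 := Over.OverMorphism.ext (by
    rw [Over.comp_left, Hom.one_def, Over.comp_left]
    exact pullback.condition)
  obtain ⟨m, hm⟩ := hfac ((fst N N ≫ i) * (snd N N ≫ i)) (by
    rw [MonObj.mul_comp, Category.assoc, Category.assoc, hif, MonObj.comp_one, MonObj.comp_one, _root_.mul_one])
  obtain ⟨o, ho⟩ := hfac (1 : 𝟙_ (Over (Spec (CommRingCat.of k))) ⟶ X) (MonObj.one_comp π)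
  obtain ⟨v, hv⟩ := hfac i⁻¹ (by rw [GrpObj.inv_comp, hif, inv_one])
  letI : GrpObj N :=
    { one := o
      mul := m
      one_mul := by
        rw [← cancel_mono i]
        simp [hm, ho, MonObj.comp_mul, MonObj.comp_one, leftUnitor_hom]
      mul_one := by
        rw [← cancel_mono i]
        simp [hm, ho, MonObj.comp_mul, MonObj.comp_one, rightUnitor_hom]
      mul_assoc := by
        rw [← cancel_mono i]
        simp [hm, MonObj.comp_mul, _root_.mul_assoc]
      inv := v
      left_inv := by
        rw [← cancel_mono i]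
        simp [hm, ho, hv, MonObj.comp_mul, GrpObj.comp_inv, MonObj.comp_one]
      right_inv := by
        rw [← cancel_mono i]
        simp [hm, ho, hv, MonObj.comp_mul, GrpObj.comp_inv, MonObj.comp_one] }
  haveI : IsMonHom i :=
    { one_hom := ho.trans (by rw [Hom.one_def, toUnit_unique (toUnit _) (𝟙 _), Category.id_comp])
      mul_hom := hm.trans (by rw [Hom.mul_def]; congr 1) }
  haveI : IsFinite N.hom := inferInstanceAs (IsFinite (pullback.snd π.left e))
  haveI : IsCommMonObj N := ⟨by
    rw [← cancel_mono i, Category.assoc, IsMonHom.mul_hom i, ← Category.assoc,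
      ← BraidedCategory.braiding_naturality, Category.assoc, IsCommMonObj.mul_comm]⟩
  have hker : (𝟙 N) ^ p ^ n = 1 := by
    refine pow_eq_one_of_pow_mem_range N p n fun s => ?_
    obtain ⟨U, hU, heU, -⟩ := exists_isAffineOpen_mem_and_subset (x := e (IsLocalRing.closedPoint k))
      (U := ⊤) (Set.mem_univ _)
    have htop : i.left ⁻¹ᵁ U = ⊤ := top_le_iff.1 fun z _ => by
      have h1 : π.left (i.left z) = e ((pullback.snd π.left e) z) := by
        rw [← Scheme.Hom.comp_apply]
        exact congrArg (fun t : pullback π.left e ⟶ X.left => t z) pullback.condition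
      rw [hid] at h1
      show i.left z ∈ U
      rw [h1, Subsingleton.elim (α := PrimeSpectrum k) ((pullback.snd π.left e) z) (IsLocalRing.closedPoint k)]
      exact heU
    have htop' : e ⁻¹ᵁ U = ⊤ := top_le_iff.1 fun z _ => by
      show e z ∈ U
      rw [Subsingleton.elim (α := PrimeSpectrum k) z (IsLocalRing.closedPoint k)]
      exact heU
    have hgen : ∀ (W : N.left.Opens) (hW : W = i.left ⁻¹ᵁ U),
        Function.Surjective (i.left.appLE U W hW.le).hom := by
      rintro _ rfl
      rw [Scheme.Hom.appLE_eq_app]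
      exact i.left.app_surjective U hU
    have hsurj : Function.Surjective (i.left.appLE U ⊤ htop.ge).hom := hgen ⊤ htop.symm
    obtain ⟨x, rfl⟩ := hsurj s
    refine ⟨(e.appLE U ⊤ htop'.ge).hom x, ?_⟩
    rw [← map_pow, ← hq, ← hπapp U x, ← CommRingCat.comp_apply, ← CommRingCat.comp_apply]
    congr 2
    rw [Scheme.Hom.appTop, Scheme.Hom.app_eq_appLE, Scheme.Hom.appLE_comp_appLE,
      Scheme.Hom.appLE_comp_appLE]
    congr 1
    exact pullback.condition
  haveI : IsMonHom ((𝟙 X) ^ p ^ n) := by
    rw [← zpow_natCast]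
    exact AbSchLib.isMonHom_zpow X ((p ^ n : ℕ) : ℤ)
  obtain ⟨ψ, hψm, hψ⟩ := exists_desc_flat π ((𝟙 X) ^ p ^ n) fun a ha => by
    obtain ⟨t, rfl⟩ := hfac a ha
    rw [Category.assoc, MonObj.comp_pow, Category.comp_id, show i ^ (p ^ n) = (𝟙 N ^ (p ^ n)) ≫ i by
      rw [MonObj.pow_comp, Category.id_comp], hker, MonObj.one_comp, MonObj.comp_one]
  rw [hq]
  refine ⟨ψ, hψm, hψ, ?_⟩
  haveI : Epi π.left := inferInstance
  haveI : Epi π := Functor.epi_of_epi_map (Over.forget _) (inferInstanceAs (Epi π.left))
  rw [← cancel_epi π, ← Category.assoc, hψ, MonObj.pow_comp, MonObj.comp_pow, Category.id_comp, Category.comp_id]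

end AVAmpleLib

end
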