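import Groth.Agent.AmpleDevLib.Pull
import Groth.Agent.CubeConsLib.Hom

/-!
The pullback of an invertible module along the `q`-th power endomorphism is its `q`-th power.
-/

set_option autoImplicit false

universe u

open CategoryTheory CategoryTheory.Limits AlgebraicGeometry TopologicalSpace Opposite
open AmpleLib AmpleThLib AmpleDevLib
open KFlatLib (pb puSec)

noncomputable section

namespace AVAmpleLib

variable {X : Scheme.{u}} (F : X ⟶ X) (hb : F.base = 𝟙 _) (hle : ∀ U : X.Opens, U ≤ F ⁻¹ᵁ U) {q : ℕ}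
  (happ : ∀ (U : X.Opens) (s : Γ(X, U)), (F.appLE U U (hle U)).hom s = s ^ q)

include hb in
theorem preimage_le_self (U : X.Opens) : F ⁻¹ᵁ U ≤ U := fun x hx => by
  have h : F.base x ∈ U := hx
  rwa [hb] at h

include hb happ in
/-- `F^* L ≅ L^{⊗q}`. -/
theorem nonempty_frobPullIso {L : X.Modules} (hL : PicF.IsInvertible L) :
    Nonempty (pb F L ≅ CohB1.tensorPow L q) := by
  refine ⟨(exists_iso_gens (fun a : Gens L => F ⁻¹ᵁ a.1) (fun a => puSec F a.2.1)
    (fun a => pS (res L (preimage_le_self F hb a.1) a.2.1) q) (fun x => gens_cover hL (F x))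
    (fun a => puSec_genOn F a.2.2) (fun a => pS_genOn (GenOn.res a.2.2 _) q) ?_).choose⟩
  intro a b V ha hb'
  obtain ⟨c, hc⟩ := (a.2.2 (a.1 ⊓ b.1) inf_le_left).2 (res L inf_le_right b.2.1)
  dsimp only at hc
  have hV : V ≤ F ⁻¹ᵁ (a.1 ⊓ b.1) := fun x hx => ⟨ha hx, hb' hx⟩
  have hV' : V ≤ a.1 ⊓ b.1 := hV.trans (preimage_le_self F hb _)
  have hcc : (X.presheaf.map (homOfLE hV).op).hom (F.app (a.1 ⊓ b.1) c) =
      ((X.presheaf.map (homOfLE hV').op).hom c) ^ q := by
    rw [← map_pow, ← happ, Scheme.Hom.appLE, CommRingCat.hom_comp, RingHom.comp_apply]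
    exact ((ConcreteCategory.congr_hom (X.presheaf.map_comp (homOfLE (hle _)).op (homOfLE hV').op)
      (F.app (a.1 ⊓ b.1) c))).trans rfl
  refine ⟨((X.presheaf.map (homOfLE hV').op).hom c) ^ q, ?_, ?_⟩
  · have h1 := congrArg (fun z => res (pb F L) hV (puSec F z)) hc
    rw [TwistLib.puSec_smul, TwistLib.puSec_res F, TwistLib.puSec_res F, res_smul, res_res, res_res, hcc] at h1
    exact h1
  · have h1 := congrArg (res L hV') hc
    rw [res_smul, res_res, res_res] at h1
    rw [pS_res, pS_res, ← pS_smul, res_res, res_res]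
    exact congrArg (fun z => pS z q) h1

include hb happ in
/-- On classes, `F^*` is multiplication by `q`. -/
theorem pullA_frob {L : X.Modules} (hL : PicF.IsInvertible L) :
    CubeConsLib.pullA F (CubeConsLib.clA hL) = q • CubeConsLib.clA hL := by
  rw [CubeConsLib.pullA_clA, ← CubeConsLib.clA_pow hL q, CubeConsLib.clA_eq_iff]
  exact nonempty_frobPullIso F hb hle happ hL

end AVAmpleLib

end
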