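import Groth.Agent.GeomRedFieldLib.Scheme
import Mathlib.AlgebraicGeometry.Morphisms.FormallyUnramified
import Mathlib.RingTheory.Unramified.Field
import Mathlib.AlgebraicGeometry.Morphisms.ClosedImmersion
import Mathlib.AlgebraicGeometry.Pullbacks
import Mathlib.LinearAlgebra.TensorProduct.Basis

/-!
A reduced scheme with a dense family of unramified closed subschemes is geometrically reduced.
-/

set_option autoImplicit false

noncomputable section

universe u

open CategoryTheory CategoryTheory.Limits AlgebraicGeometry TopologicalSpace TensorProduct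

namespace AVAmpleLib

variable {k : Type u} [Field k]

/-- A ring embedded in geometrically reduced quotients is geometrically reduced. -/
theorem isGeometricallyReduced_of_iInf (T : Type u) [CommRing T] [Algebra k T] [Algebra.FiniteType k T] {ι : Type*}
    (I : ι → Ideal T) (hI : ∀ i, Algebra.FormallyUnramified k (T ⧸ I i)) (h0 : ∀ t, (∀ i, t ∈ I i) → t = 0) :
    Algebra.IsGeometricallyReduced k T := by
  rw [Algebra.isGeometricallyReduced_field_iff]
  let Ω := AlgebraicClosure k
  let β := Module.Free.chooseBasis k Ω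
  refine ⟨fun z hz => ?_⟩
  apply (TensorProduct.equivFinsuppOfBasisLeft (N := T) β).injective
  rw [map_zero]
  refine Finsupp.ext fun c => h0 _ fun i => ?_
  haveI := hI i
  haveI : Algebra.FiniteType k (T ⧸ I i) :=
    Algebra.FiniteType.of_surjective (Ideal.Quotient.mkₐ k (I i)) (Ideal.Quotient.mkₐ_surjective k _)
  haveI : _root_.IsReduced (Ω ⊗[k] (T ⧸ I i)) := Algebra.FormallyUnramified.isReduced_of_field Ω _
  let F := Algebra.TensorProduct.map (AlgHom.id Ω Ω) (Ideal.Quotient.mkₐ k (I i))
  have hF : F z = 0 := (hz.map F).eq_zero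
  have hnat : ∀ w, (TensorProduct.equivFinsuppOfBasisLeft β) (F w) c =
      Ideal.Quotient.mk (I i) ((TensorProduct.equivFinsuppOfBasisLeft β) w c) := by
    intro w
    induction w using TensorProduct.induction_on with
    | zero => simp
    | add x y hx hy => simp [map_add, hx, hy]
    | tmul a b =>
      rw [Algebra.TensorProduct.map_tmul, TensorProduct.equivFinsuppOfBasisLeft_apply_tmul_apply,
        TensorProduct.equivFinsuppOfBasisLeft_apply_tmul_apply, Ideal.Quotient.mkₐ_eq_mk, AlgHom.id_apply]
      exact (map_smul (Ideal.Quotient.mkₐ k (I i)) _ _).symm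
  have h := hnat z
  rw [hF, map_zero] at h
  exact Ideal.Quotient.eq_zero_iff_mem.1 h.symm

/-- A reduced scheme with a dense family of unramified closed subschemes is geometrically reduced. -/
theorem geometricallyReduced_of_dense {X : Scheme.{u}} (f : X ⟶ Spec (CommRingCat.of k)) [LocallyOfFiniteType f]
    [IsReduced X] {ι : Type*} {Z : ι → Scheme.{u}} (j : ∀ i, Z i ⟶ X) [∀ i, IsClosedImmersion (j i)]
    (hu : ∀ i, FormallyUnramified (j i ≫ f)) (hd : Dense (⋃ i, Set.range (j i))) : GeometricallyReduced f := by
  refine GeomRedFieldLib.gr_of_cover f (X.openCoverOfIsOpenCover _ (iSup_affineOpens_eq_top X)) fun U => ?_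
  obtain ⟨T, _, _, g, _, hr, hg⟩ := GeomRedFieldLib.exists_algebra f U.2
  haveI := GeomRedFieldLib.finiteType_of_chart f g hg
  haveI : _root_.IsReduced T := by
    haveI := isReduced_of_isOpenImmersion g
    exact (affine_isReduced_iff (CommRingCat.of T)).mp inferInstance
  choose I e he using fun i => IsClosedImmersion.Spec_iff.mp
    (inferInstance : IsClosedImmersion (pullback.fst g (j i)))
  haveI : Algebra.IsGeometricallyReduced k T := by
    refine isGeometricallyReduced_of_iInf T I (fun i => ?_) fun t ht => ?_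
    · haveI := hu i
      haveI : IsOpenImmersion (pullback.snd g (j i)) := inferInstance
      haveI : FormallyUnramified ((e i).inv ≫ pullback.snd g (j i) ≫ j i ≫ f) :=
        MorphismProperty.comp_mem _ _ _ inferInstance (MorphismProperty.comp_mem _ _ _ inferInstance (hu i))
      have h2 : (e i).inv ≫ pullback.snd g (j i) ≫ j i ≫ f = GeomRedFieldLib.str k (T ⧸ I i) := by
        rw [← pullback.condition_assoc, hg, he i, Category.assoc, Iso.inv_hom_id_assoc, ← Spec.map_comp]
        rfl
      rw [h2, HasRingHomProperty.Spec_iff (P := @FormallyUnramified)] at this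
      exact RingHom.formallyUnramified_algebraMap.1 this
    · refine IsNilpotent.eq_zero ?_
      rw [nilpotent_iff_mem_prime]
      intro P hP
      by_contra hPt
      have hne : ((PrimeSpectrum.basicOpen t : Set (PrimeSpectrum T))).Nonempty := ⟨⟨P, hP⟩, hPt⟩
      obtain ⟨x, ⟨q, hq, hqx⟩, hx⟩ := hd.exists_mem_open (g.isOpenEmbedding.isOpenMap _
        (PrimeSpectrum.basicOpen t).isOpen) (hne.image g) |> fun ⟨x, h1, h2⟩ => (⟨x, h2, h1⟩ : ∃ x, x ∈ g '' _ ∧ x ∈ _)
      obtain ⟨i, z, hz⟩ := Set.mem_iUnion.1 hx
      have hrange : q ∈ Set.range (pullback.fst g (j i)) := by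
        rw [Scheme.Pullback.range_fst]
        exact ⟨z, hz.trans hqx.symm⟩
      obtain ⟨w, hw⟩ := hrange
      rw [he i, Scheme.Hom.comp_apply] at hw
      apply hq
      subst hw
      show Ideal.Quotient.mk (I i) t ∈ ((e i).hom w).asIdeal
      rw [Ideal.Quotient.eq_zero_iff_mem.2 (ht i)]
      exact zero_mem _
  haveI := GeomRedFieldLib.gr_str (k := k) T
  let ee := IsOpenImmersion.isoOfRangeEq g U.1.ι (hr.trans (Scheme.Opens.range_ι _).symm)
  show GeometricallyReduced (U.1.ι ≫ f)
  rw [← IsOpenImmersion.isoOfRangeEq_inv_fac g U.1.ι (hr.trans (Scheme.Opens.range_ι _).symm), Category.assoc, hg]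
  exact GeomRedFieldLib.gr_comp (GeomRedFieldLib.str k T) _

end AVAmpleLib

end
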