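import Groth.Agent.AVAmpleLib.TateHom
import Groth.Agent.AbSchLib.MulN
import Mathlib.AlgebraicGeometry.Sites.Fpqc

/-!
Factoring homomorphisms of abelian varieties through isogenies with etale kernel.
-/

set_option autoImplicit false
set_option linter.style.haveILetI false
set_option backward.isDefEq.respectTransparency false
set_option maxHeartbeats 1000000

noncomputable section

universe u

open CategoryTheory CategoryTheory.Limits MonoidalCategory CartesianMonoidalCategory MonObj AlgebraicGeometry TopologicalSpace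
open Groth.Agent

namespace AVAmpleLib

variable {k : Type u} [Field k] [IsAlgClosed k] {A B C : Over (Spec (CommRingCat.of k))}

/-- Morphisms from a reduced scheme agreeing on all rational points are equal. -/
theorem hom_ext_of_points [IsReduced A.left] [LocallyOfFiniteType A.hom] [LocallyOfFiniteType C.hom]
    [IsSeparated C.hom] (f g : A ⟶ C)
    (h : ∀ a : 𝟙_ (Over (Spec (CommRingCat.of k))) ⟶ A, a ≫ f = a ≫ g) : f = g := by
  haveI : LocallyOfFiniteType (f.left ≫ C.hom) := by rw [Over.w]; infer_instance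
  refine Over.OverMorphism.ext (ext_of_apply_eq C.hom (f := f.left) (g := g.left) Set.univ
    isClosed_univ.isLocallyClosed dense_univ (fun x _ hx => ?_) (by rw [Over.w, Over.w]))
  have h2 := congrArg (fun m : 𝟙_ (Over (Spec (CommRingCat.of k))) ⟶ C => pt m)
    (h (Over.homMk (pointOfClosedPoint A.hom x hx) (pointOfClosedPoint_comp _ _ _)))
  simpa [pt] using h2

/-- A surjective morphism lifts rational points. -/
theorem exists_pt_lift [LocallyOfFiniteType A.hom] [IsSeparated B.hom] [LocallyOfFiniteType B.hom] (f : A ⟶ B)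
    [Surjective f.left] (b : 𝟙_ (Over (Spec (CommRingCat.of k))) ⟶ B) :
    ∃ a : 𝟙_ (Over (Spec (CommRingCat.of k))) ⟶ A, a ≫ f = b := by
  haveI : JacobsonSpace A.left := LocallyOfFiniteType.jacobsonSpace A.hom
  have hcl : IsClosed (f.left ⁻¹' {pt b}) := by
    refine IsClosed.preimage f.left.continuous ?_
    haveI : IsClosedImmersion b.left := isClosedImmersion_of_comp_eq_id B.hom b.left (Over.w b)
    have : Set.range b.left = {pt b} := by
      have : Subsingleton (𝟙_ (Over (Spec (CommRingCat.of k)))).left := inferInstanceAs (Subsingleton (PrimeSpectrum k))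
      refine Set.eq_singleton_iff_unique_mem.2 ⟨⟨_, rfl⟩, ?_⟩
      rintro _ ⟨q, rfl⟩
      exact congrArg b.left (Subsingleton.elim _ _)
    exact this ▸ b.left.isClosedEmbedding.isClosed_range
  obtain ⟨x, hxb, hx⟩ := nonempty_inter_closedPoints
    (show (f.left ⁻¹' {pt b}).Nonempty from ⟨_, (f.left.surjective (pt b)).choose_spec⟩) hcl.isLocallyClosed
  refine ⟨Over.homMk (pointOfClosedPoint A.hom x hx) (pointOfClosedPoint_comp _ _ _),
    Over.OverMorphism.ext (ext_of_apply_closedPoint_eq B.hom (Over.w _) (Over.w b) ?_)⟩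
  simp [Set.mem_singleton_iff.1 hxb]
  rfl

variable [GrpObj A] [IsProper A.hom] [GeometricallyIntegral A.hom] [GrpObj B] [IsProper B.hom]
  [GeometricallyIntegral B.hom] [GrpObj C] [IsProper C.hom]

/-- A homomorphism killing the rational kernel of an isogeny with etale kernel factors through it. -/
theorem exists_desc (f : A ⟶ B) [IsMonHom f] [IsFinite f.left] [Etale f.left] [Surjective f.left]
    (φ : A ⟶ C) [IsMonHom φ] (hker : ∀ a : 𝟙_ (Over (Spec (CommRingCat.of k))) ⟶ A, a ≫ f = 1 → a ≫ φ = 1) :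
    ∃ ψ : B ⟶ C, IsMonHom ψ ∧ f ≫ ψ = φ := by
  let e : Spec (CommRingCat.of k) ⟶ B.left := (η[B] : 𝟙_ (Over (Spec (CommRingCat.of k))) ⟶ B).left
  let K : Over (Spec (CommRingCat.of k)) := Over.mk (pullback.snd f.left e)
  let i : K ⟶ A := Over.homMk (pullback.fst f.left e) (by
    show pullback.fst f.left e ≫ A.hom = pullback.snd f.left e
    have he : e ≫ B.hom = 𝟙 (Spec (CommRingCat.of k)) := Over.w (η[B] : 𝟙_ (Over (Spec (CommRingCat.of k))) ⟶ B)
    rw [← Over.w f, ← Category.assoc, pullback.condition, Category.assoc, he, Category.comp_id])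
  haveI : Etale (pullback.snd f.left e) := MorphismProperty.pullback_snd _ _ inferInstance
  haveI : Smooth K.hom := inferInstanceAs (Smooth (pullback.snd f.left e))
  haveI := AbSchLib.geometricallyReduced_of_smooth K.hom
  haveI : IsReduced K.left := GeometricallyReduced.isReduced_of_flat_of_isLocallyNoetherian K.hom
  haveI : LocallyOfFiniteType K.hom := inferInstanceAs (LocallyOfFiniteType (pullback.snd f.left e))
  have hif : i ≫ f = 1 := Over.OverMorphism.ext (by
    rw [Over.comp_left, Hom.one_def, Over.comp_left]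
    exact pullback.condition)
  have hiφ : i ≫ φ = 1 := hom_ext_of_points _ _ fun z => by
    rw [MonObj.comp_one, ← Category.assoc]
    exact hker _ (by rw [Category.assoc, hif, MonObj.comp_one])
  have key : ∀ {Z : Over (Spec (CommRingCat.of k))} (g₁ g₂ : Z ⟶ A), g₁ ≫ f = g₂ ≫ f → g₁ ≫ φ = g₂ ≫ φ := by
    intro Z g₁ g₂ hg
    have hd : (g₁ * g₂⁻¹) ≫ f = 1 := by rw [MonObj.mul_comp, GrpObj.inv_comp, hg, mul_inv_cancel]
    have hl : (g₁ * g₂⁻¹).left ≫ f.left = Z.hom ≫ e := by
      rw [← Over.comp_left, hd, Hom.one_def, Over.comp_left]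
      rfl
    let t : Z ⟶ K := Over.homMk (pullback.lift (g₁ * g₂⁻¹).left Z.hom hl) (pullback.lift_snd _ _ _)
    have ht : t ≫ i = g₁ * g₂⁻¹ := Over.OverMorphism.ext (pullback.lift_fst _ _ _)
    have h0 : (g₁ * g₂⁻¹) ≫ φ = 1 := by rw [← ht, Category.assoc, hiφ, MonObj.comp_one]
    rwa [MonObj.mul_comp, GrpObj.inv_comp, mul_inv_eq_one] at h0
  haveI : EffectiveEpi f.left := inferInstance
  have hl : ∀ {Z : Scheme.{u}} (g₁ g₂ : Z ⟶ A.left), g₁ ≫ f.left = g₂ ≫ f.left → g₁ ≫ φ.left = g₂ ≫ φ.left := by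
    intro Z g₁ g₂ hg
    have hw : g₂ ≫ A.hom = g₁ ≫ A.hom := by
      rw [← Over.w f, ← Category.assoc, ← hg, Category.assoc]
    exact congrArg CommaMorphism.left
      (key (Over.homMk g₁ rfl : Over.mk (g₁ ≫ A.hom) ⟶ A) (Over.homMk g₂ hw) (Over.OverMorphism.ext hg))
  haveI : Epi f.left := inferInstance
  let ψ : B ⟶ C := Over.homMk (EffectiveEpi.desc f.left φ.left hl) (by
    rw [← cancel_epi f.left, EffectiveEpi.fac_assoc, Over.w, Over.w])
  have hψ : f ≫ ψ = φ := Over.OverMorphism.ext (EffectiveEpi.fac f.left φ.left hl)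
  refine ⟨ψ, ?_, hψ⟩
  haveI : IsIntegral B.left := GeometricallyIntegral.isIntegral_of_subsingleton B.hom
  haveI : IsLocallyNoetherian B.left := LocallyOfFiniteType.isLocallyNoetherian B.hom
  haveI : IsReduced (B ⊗ B).left := inferInstanceAs (IsReduced (pullback B.hom B.hom))
  haveI : LocallyOfFiniteType (B ⊗ B).hom :=
    inferInstanceAs (LocallyOfFiniteType (pullback.fst B.hom B.hom ≫ B.hom))
  have hmul : ∀ a b : 𝟙_ (Over (Spec (CommRingCat.of k))) ⟶ B, (a * b) ≫ ψ = (a ≫ ψ) * (b ≫ ψ) := fun a b => by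
    obtain ⟨a', rfl⟩ := exists_pt_lift f a
    obtain ⟨b', rfl⟩ := exists_pt_lift f b
    rw [← MonObj.mul_comp, Category.assoc, Category.assoc, Category.assoc, hψ, MonObj.mul_comp]
  constructor
  · have h1 : (1 : 𝟙_ (Over (Spec (CommRingCat.of k))) ⟶ B) ≫ ψ = 1 := by
      have := hmul 1 1
      rw [_root_.one_mul] at this
      exact left_eq_mul.mp this
    rwa [Hom.one_def, Hom.one_def, toUnit_unique (toUnit _) (𝟙 _), Category.id_comp, Category.id_comp] at h1
  · refine hom_ext_of_points _ _ fun z => ?_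
    rw [← Category.assoc, ← Category.assoc]
    have hz : z = lift (z ≫ fst B B) (z ≫ snd B B) := by ext <;> simp
    rw [hz, lift_map, ← Hom.mul_def, ← Hom.mul_def, hmul]

theorem isMonHom_pow (A : Over (Spec (CommRingCat.of k))) [GrpObj A] [IsCommMonObj A] (n : ℕ) :
    IsMonHom (𝟙 A ^ n) := by
  rw [← zpow_natCast]
  exact AbSchLib.isMonHom_zpow A (n : ℤ)

variable [IsCommMonObj A]

omit [GrpObj B] [IsProper B.hom] [GeometricallyIntegral B.hom] in
/-- A homomorphism killing `A[n]` is divisible by `n`. -/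
theorem exists_div {n : ℕ} (hn : (n : k) ≠ 0) (φ : A ⟶ C) [IsMonHom φ] (hker : ∀ a ∈ tors A n, a ≫ φ = 1) :
    ∃ ψ : A ⟶ C, IsMonHom ψ ∧ φ = (𝟙 A ^ n) ≫ ψ := by
  have hn0 : (n : ℤ) ≠ 0 := by
    intro h
    apply hn
    rw [show n = 0 by exact_mod_cast h, Nat.cast_zero]
  haveI : LocallyOfFinitePresentation A.hom := LocallyOfFinitePresentation.iff_locallyOfFiniteType.2 inferInstance
  have hunit : IsUnit (((n : ℤ)) : Γ(Spec (CommRingCat.of k), ⊤)) := by
    have := (isUnit_iff_ne_zero.2 hn).map (Scheme.ΓSpecIso (CommRingCat.of k)).inv.hom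
    simpa using this
  haveI := isMonHom_pow A n
  haveI : IsFinite (𝟙 A ^ n).left := by rw [← zpow_natCast]; exact (AbSchLib.isFinite_etale_zpow A _ hunit).1
  haveI : Etale (𝟙 A ^ n).left := by rw [← zpow_natCast]; exact (AbSchLib.isFinite_etale_zpow A _ hunit).2
  haveI : Surjective (𝟙 A ^ n).left := by rw [← zpow_natCast]; exact surjective_zpow A hn0
  obtain ⟨ψ, h1, h2⟩ := exists_desc (𝟙 A ^ n) φ fun a ha => hker a (by
    rw [AbDual.mem_torsPts]
    rwa [MonObj.comp_pow, Category.comp_id] at ha)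
  exact ⟨ψ, h1, h2.symm⟩

end AVAmpleLib

end
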