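import Groth.Agent.AVAmpleLib.TorsionStructure

/-!
The Tate module of an abelian variety over an algebraically closed field.
-/

set_option autoImplicit false
set_option linter.style.haveILetI false
set_option maxHeartbeats 1000000

noncomputable section

universe u

open CategoryTheory CategoryTheory.Limits MonoidalCategory CartesianMonoidalCategory MonObj AlgebraicGeometry TopologicalSpace
open TorsAlgLib (tb Tower)

namespace AVAmpleLib

variable {k : Type u} [Field k] [IsAlgClosed k] (A : Over (Spec (CommRingCat.of k))) [GrpObj A] [IsCommMonObj A]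
  [IsProper A.hom] [GeometricallyIntegral A.hom]

/-- The Tate module on `k`-points. -/
abbrev Tate (l : ℕ) : Type u := AbDual.TateMod A l (𝟙_ (Over (Spec (CommRingCat.of k))))

variable {A} {l r : ℕ} [Fact l.Prime] (T : Tower (Pts A) l r)

/-- The basis of the Tate module of a tower. -/
def tateBasisVec (i : Fin r) : Tate A l := ⟨T.X i, T.torsion i, T.succ i⟩

/-- The coordinate map. -/
def tateCoord : (Fin r → ℤ_[l]) →ₗ[ℤ_[l]] Tate A l := Fintype.linearCombination ℤ_[l] (tateBasisVec T)

theorem tateCoord_component (a : Fin r → ℤ_[l]) (m : ℕ) :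
    ((tateCoord T a : Tate A l) : ℕ → Pts A) m = ∑ i, ((a i).appr m : ℤ) • T.X i m := by
  rw [tateCoord, Fintype.linearCombination_apply, AddSubgroup.val_finsetSum, Finset.sum_apply]
  refine Finset.sum_congr rfl fun i _ => ?_
  rw [AbDual.smul_component, natCast_zsmul]
  rfl

theorem tateCoord_bijective : Function.Bijective (tateCoord T) := by
  have hl := (Fact.out : l.Prime).ne_zero
  constructor
  · refine (injective_iff_map_eq_zero _).mpr fun a ha => funext fun i => PadicInt.ext_of_toZModPow.mp fun m => ?_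
    have h0 : ∑ j, ((a j).appr m : ℤ) • T.X j m = 0 := by rw [← tateCoord_component, ha]; rfl
    rw [Pi.zero_apply, map_zero]
    show (((a i).appr m : ℕ) : ZMod (l ^ m)) = 0
    rw [← Int.cast_natCast, ZMod.intCast_zmod_eq_zero_iff_dvd]
    exact_mod_cast T.zsmul_eq hl m _ h0 i
  · intro x
    choose z hz using fun m => T.exists_zsmul m ((x : ℕ → Pts A) m) (x.torsion m)
    have hstep : ∀ i m, (l : ℤ) ^ m ∣ z (m + 1) i - z m i := fun i m => by
      refine T.zsmul_eq hl m (fun j => z (m + 1) j - z m j) ?_ i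
      simp only [sub_zsmul, ← sub_eq_add_neg, Finset.sum_sub_distrib, hz m]
      rw [sub_eq_zero, ← x.compat m, ← hz (m + 1), Finset.smul_sum]
      refine Finset.sum_congr rfl fun j _ => ?_
      rw [smul_comm, T.succ]
    let a : Fin r → ℤ_[l] := fun i =>
      PadicInt.ofIntSeq _ (PadicInt.isCauSeq_padicNorm_of_pow_dvd_sub (fun m => z m i) l (hstep i))
    refine ⟨a, AbDual.TateMod.ext fun m => ?_⟩
    rw [tateCoord_component, ← hz m]
    refine Finset.sum_congr rfl fun i _ => ?_
    have h : (((a i).appr m : ℤ) : ZMod (l ^ m)) = ((z m i : ℤ) : ZMod (l ^ m)) := by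
      rw [Int.cast_natCast]
      exact PadicInt.toZModPow_ofIntSeq_of_pow_dvd_sub (fun m => z m i) l (hstep i) m
    obtain ⟨c, hc⟩ := (ZMod.intCast_eq_intCast_iff_dvd_sub _ _ _).mp h
    rw [show (z m i) = ((a i).appr m : ℤ) + ((l ^ m : ℕ) : ℤ) * c by linarith, add_zsmul, mul_comm, mul_zsmul,
      natCast_zsmul ((T.X i m)) (l ^ m), T.torsion, smul_zero, add_zero]

/-- The coordinates of the Tate module. -/
def tateEquiv : (Fin r → ℤ_[l]) ≃ₗ[ℤ_[l]] Tate A l := LinearEquiv.ofBijective (tateCoord T) (tateCoord_bijective T)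

variable (A)

theorem tate_free_finite_finrank {g : ℕ} (hg : topologicalKrullDim A.left = (g : ℕ)) (l : ℕ) [Fact l.Prime]
    (hl : (l : k) ≠ 0) :
    Module.Free ℤ_[l] (Tate A l) ∧ Module.Finite ℤ_[l] (Tate A l) ∧ Module.finrank ℤ_[l] (Tate A l) = 2 * g := by
  obtain ⟨T⟩ := nonempty_tower A hg l hl
  exact ⟨Module.Free.of_equiv (tateEquiv T), Module.Finite.equiv (tateEquiv T),
    by rw [← (tateEquiv T).finrank_eq]; simp⟩

theorem exists_component_eq (l : ℕ) [Fact l.Prime] (m : ℕ) (a : 𝟙_ (Over (Spec (CommRingCat.of k))) ⟶ A)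
    (ha : a ^ (l ^ m) = 1) : ∃ x : Tate A l, (x : ℕ → Pts A) m = Additive.ofMul a := by
  obtain ⟨r, ⟨T⟩, -⟩ := exists_tower A l
  obtain ⟨z, hz⟩ := T.exists_zsmul m (Additive.ofMul a) ha
  refine ⟨⟨fun n => ∑ i, z i • T.X i n, ⟨fun n => ?_, fun n => ?_⟩⟩, hz⟩
  · rw [Finset.smul_sum]
    exact Finset.sum_eq_zero fun i _ => by rw [smul_comm, T.torsion, smul_zero]
  · rw [Finset.smul_sum]
    exact Finset.sum_congr rfl fun i _ => by rw [smul_comm, T.succ]

end AVAmpleLib

end
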