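import Groth.Agent.AVAmpleLib.CurveForm
import Groth.Agent.AVAmpleLib.Tate
import Groth.Agent.S12028
import Mathlib.LinearAlgebra.FiniteDimensional.Basic
import Mathlib.LinearAlgebra.FreeModule.Finite.Matrix

/-!
The group of homomorphisms of abelian varieties is finitely generated, and embeds in the Tate modules after tensoring.
-/

set_option autoImplicit false
set_option linter.style.haveILetI false
set_option backward.isDefEq.respectTransparency false
set_option maxHeartbeats 1000000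

noncomputable section

universe u

open CategoryTheory CategoryTheory.Limits MonoidalCategory CartesianMonoidalCategory MonObj AlgebraicGeometry TopologicalSpace
open Groth.Agent

namespace AVAmpleLib

variable {k : Type u} [Field k] [IsAlgClosed k] {A B : Over (Spec (CommRingCat.of k))}
  [GrpObj A] [IsCommMonObj A] [IsProper A.hom] [GeometricallyIntegral A.hom]
  [GrpObj B] [IsCommMonObj B] [IsProper B.hom] [GeometricallyIntegral B.hom]

theorem eq_one_of_pow_eq_one (f : A ⟶ B) [IsMonHom f] {n : ℕ} (hn : n ≠ 0) (h : f ^ n = 1) : f = 1 := by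
  haveI : IsIntegral A.left := GeometricallyIntegral.isIntegral_of_subsingleton A.hom
  refine hom_ext_of_points f 1 fun a => ?_
  obtain ⟨b, rfl⟩ := exists_pow_eq A (Nat.pos_of_ne_zero hn) a
  rw [MonObj.pow_comp, ← MonObj.comp_pow, h, MonObj.comp_one, MonObj.comp_one]

theorem smul_eq_zero_hom {m : ℤ} (hm : m ≠ 0) {φ : EndAV.Hom A B} (h : m • φ = 0) : φ = 0 := by
  have h1 : m.natAbs • φ = 0 := by
    rcases Int.natAbs_eq m with e | e <;> rw [e] at h
    · rwa [natCast_zsmul] at h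
    · rwa [neg_zsmul, natCast_zsmul, neg_eq_zero] at h
  have h2 := congrArg EndAV.Hom.toHom h1
  rw [EndAV.Hom.toHom_nsmul, EndAV.Hom.toHom_zero] at h2
  exact EndAV.Hom.ext (eq_one_of_pow_eq_one φ.toHom (Int.natAbs_ne_zero.mpr hm) h2)

/-- The saturation of the span of a family. -/
def sat {N : ℕ} (β : Fin N → EndAV.Hom A B) : AddSubgroup (EndAV.Hom A B) where
  carrier := {x0 | ∃ m : ℤ, m ≠ 0 ∧ m • x0 ∈ Submodule.span ℤ (Set.range β)}
  zero_mem' := ⟨1, one_ne_zero, by rw [smul_zero]; exact zero_mem _⟩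
  add_mem' := by
    rintro a b ⟨m, hm, ha⟩ ⟨k, hk, hb⟩
    refine ⟨m * k, mul_ne_zero hm hk, ?_⟩
    rw [smul_add]
    refine add_mem ?_ ?_
    · rw [mul_comm, mul_smul]; exact Submodule.smul_mem _ _ ha
    · rw [mul_smul]; exact Submodule.smul_mem _ _ hb
  neg_mem' := by
    rintro a ⟨m, hm, ha⟩
    exact ⟨m, hm, by rw [smul_neg]; exact neg_mem ha⟩

theorem subset_sat {N : ℕ} (β : Fin N → EndAV.Hom A B) (i : Fin N) : β i ∈ sat β :=
  ⟨1, one_ne_zero, by rw [one_smul]; exact Submodule.subset_span ⟨i, rfl⟩⟩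

/-- A finite sum of curve forms is positive definite on a saturated subgroup. -/
theorem exists_form {N : ℕ} (β : Fin N → EndAV.Hom A B) :
    ∃ Φ : EndAV.Hom A B →+ EndAV.Hom A B →+ ℤ, (∀ a b, Φ a b = Φ b a) ∧ ∀ x0 ∈ sat β, x0 ≠ 0 → 0 < Φ x0 x0 := by
  classical
  obtain ⟨L, hA⟩ := exists_ample B
  let M : Crv A → (Fin N × Fin N → ℤ) := fun c p => form c hA.1 (β p.1) (β p.2)
  obtain ⟨t, hts, ht⟩ :=
    (Submodule.fg_span_iff_fg_span_finset_subset (R := ℤ) (Set.range M)).1 (IsNoetherian.noetherian _)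
  choose c hc using fun x : t => hts x.2
  let Φ : EndAV.Hom A B →+ EndAV.Hom A B →+ ℤ := ∑ x : t, form (c x) hA.1
  have hΦ : ∀ a b, Φ a b = ∑ x : t, form (c x) hA.1 a b := fun a b => by
    simp only [Φ, AddMonoidHom.finset_sum_apply]
  refine ⟨Φ, fun a b => by simp only [hΦ, form_symm _ _ a b], fun x0 ⟨m, hm, hx0⟩ hne => ?_⟩
  refine lt_of_le_of_ne (by rw [hΦ]; exact Finset.sum_nonneg fun x _ => form_self_nonneg _ _ hA x0) fun h0 => ?_
  obtain ⟨a, ha⟩ := (Submodule.mem_span_range_iff_exists_fun ℤ).1 hx0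
  have hz : ∀ x : t, form (c x) hA.1 x0 x0 = 0 := fun x =>
    (Finset.sum_eq_zero_iff_of_nonneg fun y _ => form_self_nonneg _ _ hA x0).1 (by rw [← hΦ]; exact h0.symm) x
      (Finset.mem_univ x)
  let ev : (Fin N × Fin N → ℤ) →ₗ[ℤ] ℤ :=
    ∑ p : Fin N × Fin N, (a p.1 * a p.2) • LinearMap.proj (R := ℤ) (φ := fun _ : Fin N × Fin N => ℤ) p
  have hev : ∀ d : Crv A, ev (M d) = form d hA.1 (m • x0) (m • x0) := fun d => by
    rw [← ha]
    simp only [ev, LinearMap.sum_apply, LinearMap.smul_apply, LinearMap.proj_apply, smul_eq_mul, M, map_sum,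
      AddMonoidHom.finset_sum_apply, map_zsmul, AddMonoidHom.smul_apply, Fintype.sum_prod_type, Finset.mul_sum]
    rw [Finset.sum_comm]
    exact Finset.sum_congr rfl fun i _ => Finset.sum_congr rfl fun j _ => by ring
  have hker : Submodule.span ℤ (Set.range M) ≤ LinearMap.ker ev := by
    rw [ht, Submodule.span_le]
    intro x hx
    rw [SetLike.mem_coe, LinearMap.mem_ker]
    show ev (⟨x, hx⟩ : t).1 = 0
    rw [← hc ⟨x, hx⟩, hev]
    simp only [map_zsmul, AddMonoidHom.smul_apply, hz, smul_zero]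
  have hmx0 : m • x0 ≠ 0 := fun h => hne (smul_eq_zero_hom hm h)
  obtain ⟨d, hd⟩ := exists_crv (m • x0).toHom fun h => hmx0 (EndAV.Hom.ext (h.trans EndAV.Hom.toHom_zero.symm))
  have h1 := hker (Submodule.subset_span ⟨d, rfl⟩)
  rw [LinearMap.mem_ker, hev] at h1
  exact (form_self_pos d hA.1 hA _ hd).ne' h1

variable (l : ℕ) [Fact l.Prime]

/-- Saturated subgroups are finitely generated. -/
theorem fg_sat {N : ℕ} (β : Fin N → EndAV.Hom A B) : Module.Finite ℤ (sat β) := by
  obtain ⟨Φ, -, hpos⟩ := exists_form β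
  let φ : sat β →ₗ[ℤ] (Fin N → ℤ) :=
    { toFun := fun x0 i => Φ x0 (β i)
      map_add' := fun a b => funext fun i => by simp
      map_smul' := fun c a => funext fun i => by simp }
  refine Module.Finite.of_injective φ ((injective_iff_map_eq_zero φ).mpr ?_)
  rintro ⟨x0, hx0s⟩ h0
  obtain ⟨m, hm, hx0⟩ := hx0s
  apply Subtype.ext
  by_contra hne
  have hz : ∀ z ∈ Submodule.span ℤ (Set.range β), Φ x0 z = 0 := fun z hz => by
    induction hz using Submodule.span_induction with
    | mem z hz => obtain ⟨i, rfl⟩ := hz; exact congrFun h0 i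
    | zero => exact map_zero _
    | add a b _ _ ha hb => rw [map_add, ha, hb, add_zero]
    | smul c a _ ha => rw [map_zsmul, ha, smul_zero]
  have h1 := hz _ hx0
  rw [map_zsmul, smul_eq_mul] at h1
  exact (mul_ne_zero hm (hpos x0 ⟨m, hm, hx0⟩ hne).ne') h1

theorem linearIndependent_tateMap (hl : (l : k) ≠ 0) {n : ℕ} (e : Fin n → EndAV.Hom A B)
    (he : LinearIndependent ℤ e) :
    LinearIndependent ℤ_[l] (fun i => EndAV.Hom.tateMap (A := A) (B := B) l
      (𝟙_ (Over (Spec (CommRingCat.of k)))) (e i)) := by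
  obtain ⟨Φ, hsymm, hpos⟩ := exists_form e
  let inc : sat e →+ EndAV.Hom A B := (sat e).subtype
  let T := EndAV.Hom.tateMap (A := A) (B := B) l (𝟙_ (Over (Spec (CommRingCat.of k))))
  let J : (Tate A l →ₗ[ℤ_[l]] Tate B l) →ₗ[ℤ_[l]] Module.End ℤ_[l] (Tate A l × Tate B l) :=
    { toFun := fun f => (LinearMap.inr ℤ_[l] _ _).comp (f.comp (LinearMap.fst ℤ_[l] _ _))
      map_add' := fun f g => LinearMap.ext fun v => Prod.ext (by simp) (by simp)
      map_smul' := fun c f => LinearMap.ext fun v => Prod.ext (by simp) (by simp) }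
  have key := Groth.Agent.S12028.result l (sat e)
    (AddMonoidHom.mk' (fun x0 => (Φ x0).comp inc) fun a b => AddMonoidHom.ext fun c => by simp)
    (fun a b => hsymm a b) (fun a ha => hpos a a.2 fun h => ha (Subtype.ext h))
    (Tate A l × Tate B l) (J.toAddMonoidHom.comp (T.comp inc)) (fun x0 n hdiv => ?_) (Fin n)
    (fun i => ⟨e i, subset_sat e i⟩) (LinearIndependent.of_comp inc.toIntLinearMap he)
  · exact LinearIndependent.of_comp J key
  · have hl0 : ((l ^ n : ℕ) : k) ≠ 0 := by rw [Nat.cast_pow]; exact pow_ne_zero n hl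
    obtain ⟨ψ, hψ, hψe⟩ := exists_div hl0 x0.1.toHom fun a ha => by
      obtain ⟨x, hx⟩ := exists_component_eq A l n a ha
      obtain ⟨w, hw⟩ := hdiv (x, 0)
      let P : Tate B l →+ Pts B := AbDual.TateMod.component B l _ n
      have h1 := congrArg (fun v : Tate A l × Tate B l => P v.2) hw
      have hw2 : (((l : ℤ_[l]) ^ n) • w).2 = (l ^ n) • w.2 := by
        rw [Prod.smul_snd, ← Nat.cast_smul_eq_nsmul ℤ_[l], Nat.cast_pow]
      simp only [hw2, map_nsmul] at h1
      have h2 : (l ^ n) • P w.2 = 0 := w.2.torsion n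
      rw [h2] at h1
      change Additive.ofMul (((x : ℕ → Pts A) n).toMul ≫ x0.1.toHom) = 0 at h1
      rw [hx] at h1
      exact Additive.ofMul.injective h1
    let δ : EndAV.Hom A B := EndAV.Hom.of ψ
    have hδ : x0.1 = (l ^ n) • δ := EndAV.Hom.ext (by
      rw [EndAV.Hom.toHom_nsmul, hψe]
      show _ = ψ ^ (l ^ n)
      rw [MonObj.pow_comp, Category.id_comp])
    obtain ⟨m, hm, hmem⟩ := x0.2
    refine ⟨⟨δ, m * (l ^ n : ℕ), mul_ne_zero hm (by exact_mod_cast pow_ne_zero n (Fact.out : l.Prime).ne_zero), ?_⟩,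
      Subtype.ext hδ⟩
    rw [mul_smul, natCast_zsmul, ← hδ]
    exact hmem

theorem exists_prime_ne_zero (k : Type u) [Field k] : ∃ (l : ℕ) (_ : Fact l.Prime), (l : k) ≠ 0 := by
  by_cases h : ((2 : ℕ) : k) = 0
  · refine ⟨3, ⟨Nat.prime_three⟩, fun h3 => one_ne_zero (α := k) ?_⟩
    push_cast at h h3
    linear_combination h3 - h
  · exact ⟨2, ⟨Nat.prime_two⟩, h⟩

theorem card_le (A B : Over (Spec (CommRingCat.of k))) [GrpObj A] [IsCommMonObj A] [IsProper A.hom]
    [GeometricallyIntegral A.hom] [GrpObj B] [IsCommMonObj B] [IsProper B.hom] [GeometricallyIntegral B.hom]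
    {g h : ℕ} (hg : topologicalKrullDim A.left = (g : ℕ)) (hh : topologicalKrullDim B.left = (h : ℕ))
    {n : ℕ} (e : Fin n → EndAV.Hom A B) (he : LinearIndependent ℤ e) : n ≤ 4 * g * h := by
  obtain ⟨l, _, hl⟩ := exists_prime_ne_zero k
  obtain ⟨hfA, hfA', hrA⟩ := tate_free_finite_finrank A hg l hl
  obtain ⟨hfB, hfB', hrB⟩ := tate_free_finite_finrank B hh l hl
  have := (linearIndependent_tateMap l hl e he).fintype_card_le_finrank
  rw [Fintype.card_fin, Module.finrank_linearMap, hrA, hrB] at this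
  linarith

theorem fg_hom (A B : Over (Spec (CommRingCat.of k))) [GrpObj A] [IsCommMonObj A] [IsProper A.hom]
    [GeometricallyIntegral A.hom] [GrpObj B] [IsCommMonObj B] [IsProper B.hom] [GeometricallyIntegral B.hom] :
    Module.Finite ℤ (EndAV.Hom A B) := by
  classical
  haveI : IsIntegral A.left := GeometricallyIntegral.isIntegral_of_subsingleton A.hom
  haveI : IsIntegral B.left := GeometricallyIntegral.isIntegral_of_subsingleton B.hom
  obtain ⟨g, hg⟩ := exists_dim A
  obtain ⟨h, hh⟩ := exists_dim B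
  let P : ℕ → Prop := fun n => ∃ e : Fin n → EndAV.Hom A B, LinearIndependent ℤ e
  have h0 : P 0 := ⟨Fin.elim0, linearIndependent_empty_type⟩
  have hbd : ∀ n, P n → n ≤ 4 * g * h := fun n ⟨e, he⟩ => card_le A B hg hh e he
  obtain ⟨e, he⟩ : P (Nat.findGreatest P (4 * g * h)) := Nat.findGreatest_spec (Nat.zero_le _) h0
  have htop : sat e = ⊤ := by
    refine eq_top_iff.2 fun x0 _ => ?_
    by_contra hx0
    have hli : LinearIndependent ℤ (Fin.cons x0 e : Fin (Nat.findGreatest P (4 * g * h) + 1) → EndAV.Hom A B) := by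
      exact LinearIndependent.finCons' _ _ he fun c y hy hsum => by
        by_contra hc
        exact hx0 ⟨c, hc, by rw [eq_neg_of_add_eq_zero_left hsum]; exact neg_mem hy⟩
    have := Nat.le_findGreatest (hbd _ ⟨_, hli⟩) (P := P) ⟨_, hli⟩
    omega
  haveI := fg_sat e
  exact Module.Finite.of_surjective (sat e).subtype.toIntLinearMap fun x0 => ⟨⟨x0, htop ▸ trivial⟩, rfl⟩

end AVAmpleLib

end
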