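import Groth.Agent.AVAmpleLib.FiniteKL
import Groth.Agent.CubeConsLib.Theta
import Groth.Agent.MiscFlat6.RelAmpleLocal
import Groth.Agent.S19476

/-!
`K(L)` as a closed subscheme over a field, and its finiteness for ample `L`.
-/

set_option autoImplicit false
set_option maxRecDepth 8000
set_option maxHeartbeats 1000000
set_option linter.style.haveILetI false

noncomputable section

universe u

open CategoryTheory MonoidalCategory CartesianMonoidalCategory MonObj AlgebraicGeometry TopologicalSpace
open CubeConsLib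
open Limits (pullback)

namespace AVAmpleLib

variable {k : Type u} [Field k] {A : Over (Spec (CommRingCat.of k))} [GrpObj A]
  [IsProper A.hom] [GeometricallyIntegral A.hom] {L : A.left.Modules} (hL : PicF.IsInvertible L)

include hL in
/-- The closed subscheme `K(L)`, tested on locally Noetherian schemes. -/
theorem exists_KL_noeth : ∃ (K : Over (Spec (CommRingCat.of k))) (i : K ⟶ A),
    IsClosedImmersion i.left ∧ MumfordZero hL i ∧
      ∀ (T : Over (Spec (CommRingCat.of k))), IsLocallyNoetherian T.left → ∀ z : T ⟶ A,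
        MumfordZero hL z → ∃ y : T ⟶ K, y ≫ i = z := by
  haveI : IsLocallyNoetherian A.left := LocallyOfFiniteType.isLocallyNoetherian A.hom
  haveI : Flat A.hom := inferInstance
  let q : pullback A.hom A.hom ⟶ A.left := Limits.pullback.snd A.hom A.hom
  haveI : IsProper q := MorphismProperty.pullback_snd (P := @IsProper) _ _ ‹IsProper A.hom›
  haveI : Flat q := MorphismProperty.pullback_snd (P := @Flat) _ _ ‹Flat A.hom›
  haveI : GeometricallyIntegral q := inferInstanceAs (GeometricallyIntegral (Limits.pullback.snd A.hom A.hom))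
  let m : A ⊗ A ⟶ A := fst A A * snd A A
  let p₁ : A ⊗ A ⟶ A := fst A A
  let p₂ : A ⊗ A ⟶ A := snd A A
  have hm : PicF.IsInvertible ((Scheme.Modules.pullback m.left).obj L) := AmpleDevLib.isInvertible_pb _ hL
  have h₁ : PicF.IsInvertible ((Scheme.Modules.pullback p₁.left).obj L) := AmpleDevLib.isInvertible_pb _ hL
  have h₂ : PicF.IsInvertible ((Scheme.Modules.pullback p₂.left).obj L) := AmpleDevLib.isInvertible_pb _ hL
  let D : (pullback A.hom A.hom).Modules := CohB1.tensorMod (CohB1.tensorMod ((Scheme.Modules.pullback m.left).obj L)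
    (MiscFlat6.dual ((Scheme.Modules.pullback p₁.left).obj L))) (MiscFlat6.dual ((Scheme.Modules.pullback p₂.left).obj L))
  have hD : PicF.IsInvertible D := HilbPolyLib.isInvertible_tensor
    (HilbPolyLib.isInvertible_tensor hm (MiscFlat6.dual_isInvertible h₁)) (MiscFlat6.dual_isInvertible h₂)
  have eD : (clA hD : PicA (A ⊗ A).left) = P hL m - P hL (fst A A) - P hL (snd A A) := by
    rw [P_eq, P_eq, P_eq, sub_eq_add_neg, sub_eq_add_neg, ← clA_dual, ← clA_dual, ← clA_tensor, ← clA_tensor]
  obtain ⟨Z, ι', hι, hZ⟩ := Groth.Agent.S19476.result q D ((CohCmpLib.invertible_iff_rank_one D).1 hD)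
  let K : Over (Spec (CommRingCat.of k)) := Over.mk (ι' ≫ A.hom)
  let i : K ⟶ A := Over.homMk ι' rfl
  have hK : IsLocallyNoetherian K.left := LocallyOfFiniteType.isLocallyNoetherian (ι' ≫ A.hom)
  have eT : ∀ (T : Over (Spec (CommRingCat.of k))) (z : T ⟶ A),
      pullA (lift (fst A T) (snd A T ≫ z)).left (clA hD) =
        P hL (fst A T * (snd A T ≫ z)) - P hL (fst A T) - P hL (snd A T ≫ z) := by
    intro T z
    rw [eD, map_sub, map_sub, pullA_P, pullA_P, pullA_P, lift_fst, lift_snd, MonObj.comp_mul, lift_fst, lift_snd]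
  refine ⟨K, i, hι, ?_, fun T hT z hz => ?_⟩
  · obtain ⟨M, hM1, ⟨e⟩⟩ := (hZ Z ι' hK).1 ⟨𝟙 Z, Category.id_comp _⟩
    have hM : PicF.IsInvertible M := (CohCmpLib.invertible_iff_rank_one M).2 hM1
    let φ : (A ⊗ K).left ⟶ pullback q ι' :=
      Limits.pullback.lift (lift (fst A K) (snd A K ≫ i)).left (snd A K).left (by
        have := congrArg Over.Hom.left (lift_snd (fst A K) (snd A K ≫ i))
        rw [Over.comp_left, Over.comp_left] at this
        exact this)
    have e' : pullA (Limits.pullback.fst q ι') (clA hD) = pullA (Limits.pullback.snd q ι') (clA hM) := by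
      rw [pullA_clA, pullA_clA, clA_eq_iff]
      exact ⟨e⟩
    have e2 := congrArg (pullA φ) e'
    rw [pullA_comp, pullA_comp, Limits.pullback.lift_fst, Limits.pullback.lift_snd, eT] at e2
    rw [← mumfordTriv_iff hL]
    refine ⟨M, hM, ?_⟩
    have hm' : (A ◁ i) ≫ μ[A] = fst A K * (snd A K ≫ i) := by
      rw [Hom.mul_def]
      congr 1
    have g1 : PicF.IsInvertible ((Scheme.Modules.pullback (fst A K).left).obj L) := AmpleDevLib.isInvertible_pb _ hL
    have g2 : PicF.IsInvertible ((Scheme.Modules.pullback (snd A K).left).obj M) := AmpleDevLib.isInvertible_pb _ hM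
    have g4 : PicF.IsInvertible ((Scheme.Modules.pullback (snd A K ≫ i).left).obj L) :=
      AmpleDevLib.isInvertible_pb _ hL
    have g3 : PicF.IsInvertible ((Scheme.Modules.pullback ((A ◁ i) ≫ μ[A]).left).obj L) :=
      AmpleDevLib.isInvertible_pb _ hL
    unfold AgPol.IsLambdaSheaf
    rw [← clA_eq_iff (HilbPolyLib.isInvertible_tensor (HilbPolyLib.isInvertible_tensor g2 g1) g4) g3,
      clA_tensor (HilbPolyLib.isInvertible_tensor g2 g1) g4, clA_tensor g2 g1, ← pullA_clA (fst A K).left hL,
      ← pullA_clA (snd A K).left hM, ← pullA_clA (snd A K ≫ i).left hL, ← pullA_clA _ hL, hm']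
    show pullA (snd A K).left (clA hM) + P hL (fst A K) + P hL (snd A K ≫ i) = P hL (fst A K * (snd A K ≫ i))
    rw [← e2]
    abel
  · let ψ : pullback q z.left ⟶ (A ⊗ T).left :=
      Limits.pullback.lift (Limits.pullback.fst q z.left ≫ Limits.pullback.fst A.hom A.hom)
        (Limits.pullback.snd q z.left) (by
          rw [Category.assoc, Limits.pullback.condition, Limits.pullback.condition_assoc, Over.w z])
    have hψ : ψ ≫ (lift (fst A T) (snd A T ≫ z)).left = Limits.pullback.fst q z.left := by
      apply Limits.pullback.hom_ext (f := A.hom) (g := A.hom)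
      · rw [Category.assoc]
        show ψ ≫ (lift (fst A T) (snd A T ≫ z)).left ≫ (fst A A).left = _
        rw [← Over.comp_left, lift_fst]
        exact Limits.pullback.lift_fst _ _ _
      · rw [Category.assoc]
        show ψ ≫ (lift (fst A T) (snd A T ≫ z)).left ≫ (snd A A).left = _
        rw [← Over.comp_left, lift_snd, Over.comp_left, ← Category.assoc]
        exact (congrArg (· ≫ z.left) (Limits.pullback.lift_snd _ _ _)).trans
          (Limits.pullback.condition (f := q) (g := z.left)).symm
    have e0 : pullA (lift (fst A T) (snd A T ≫ z)).left (clA hD) = 0 := by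
      rw [eT, show P hL (fst A T * (snd A T ≫ z)) = P hL (fst A T) + P hL (snd A T ≫ z) from hz]
      abel
    have e1 := congrArg (pullA ψ) e0
    rw [map_zero, pullA_comp, hψ] at e1
    obtain ⟨u', hu'⟩ := (hZ T.left z.left hT).2 ⟨Coh.structureModule T.left, CohCmpLib.rank_one_structureModule _, by
      rw [← clA_eq_iff (AmpleDevLib.isInvertible_pb _ hD) (AmpleDevLib.isInvertible_pb _ (isInvertible_one _)),
        ← pullA_clA _ hD, ← pullA_clA _ (isInvertible_one _), clA_one, map_zero]
      exact e1⟩
    exact ⟨Over.homMk u' (show u' ≫ ι' ≫ A.hom = T.hom by rw [← Category.assoc, hu']; exact Over.w z),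
      Over.OverMorphism.ext hu'⟩

omit [IsProper A.hom] [GeometricallyIntegral A.hom] in
theorem mumfordZero_of_translate (a : 𝟙_ (Over (Spec (CommRingCat.of k))) ⟶ A)
    (h : P hL (tR a) = clA hL) : MumfordZero hL a := by
  have e : snd A (𝟙_ (Over (Spec (CommRingCat.of k)))) =
      fst A (𝟙_ (Over (Spec (CommRingCat.of k)))) ≫ toUnit A := toUnit_unique _ _
  have e' : fst A (𝟙_ (Over (Spec (CommRingCat.of k)))) * (snd A (𝟙_ (Over (Spec (CommRingCat.of k)))) ≫ a) =
      fst A (𝟙_ (Over (Spec (CommRingCat.of k)))) ≫ tR a := by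
    rw [MonObj.comp_mul, Category.comp_id, e, Category.assoc]
  rw [MumfordZero, e', ← pullA_P, h, ← P_id hL, pullA_P, Category.comp_id,
    show snd A (𝟙_ (Over (Spec (CommRingCat.of k)))) = toUnit _ from toUnit_unique _ _, P_const, add_zero]

theorem finite_translationFixing [IsAlgClosed k] (hA : CohB1.IsAmple L) :
    Set.Finite {a : 𝟙_ (Over (Spec (CommRingCat.of k))) ⟶ A | P hL (tR a) = clA hL} := by
  obtain ⟨K, i, hi, hzero, huniv⟩ := exists_KL_noeth hL
  haveI : IsFinite K.hom := isFinite_of_mumfordTriv hL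
    ((MiscFlat6.isRelAmple_iff_isAmple A.hom L).2 hA) i ((mumfordTriv_iff hL i).2 hzero)
  haveI : IsLocallyNoetherian (𝟙_ (Over (Spec (CommRingCat.of k)))).left :=
    inferInstanceAs (IsLocallyNoetherian (Spec (CommRingCat.of k)))
  haveI hfin : Finite K.left := by
    have h1 := K.hom.finite_preimage_singleton (IsLocalRing.closedPoint k)
    have h2 : ⇑K.hom ⁻¹' {IsLocalRing.closedPoint k} = Set.univ :=
      Set.eq_univ_of_forall fun x => Subsingleton.elim (α := PrimeSpectrum k) _ _
    exact Set.finite_univ_iff.1 ((congrArg Set.Finite h2).mp h1)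
  haveI : Finite (𝟙_ (Over (Spec (CommRingCat.of k))) ⟶ K) := by
    refine Finite.of_injective (fun y => y.left (IsLocalRing.closedPoint k)) fun y₁ y₂ h => ?_
    have := (pointEquivClosedPoint K.hom).injective (a₁ := ⟨y₁.left, Over.w y₁⟩) (a₂ := ⟨y₂.left, Over.w y₂⟩)
      (Subtype.ext h)
    exact Over.OverMorphism.ext (congrArg Subtype.val this)
  refine (Set.finite_range fun y : 𝟙_ (Over (Spec (CommRingCat.of k))) ⟶ K => y ≫ i).subset fun a ha => ?_
  exact huniv _ ‹_› a (mumfordZero_of_translate hL a ha)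

end AVAmpleLib
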