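import Mathlib

/-!
Sections of a finite étale scheme over an algebraically closed field.
-/

set_option autoImplicit false
set_option linter.style.haveILetI false

noncomputable section

universe u

open CategoryTheory CategoryTheory.Limits AlgebraicGeometry

namespace AVAmpleLib

theorem natCard_algHom {k : Type u} [Field k] [IsAlgClosed k] (B : Type u) [CommRing B] [Algebra k B]
    [Module.Finite k B] [Algebra.FormallyUnramified k B] : Nat.card (B →ₐ[k] k) = Module.finrank k B := by
  haveI : IsArtinianRing B := IsArtinianRing.of_finite k B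
  haveI : IsReduced B := Algebra.FormallyUnramified.isReduced_of_field k B
  have hb : ∀ m : MaximalSpectrum B, Function.Bijective (algebraMap k (B ⧸ m.asIdeal)) := fun m => by
    haveI := Ideal.Quotient.field m.asIdeal
    exact IsAlgClosed.algebraMap_bijective_of_isIntegral
  let h : MaximalSpectrum B → (B →ₐ[k] k) := fun m =>
    ((AlgEquiv.ofBijective (Algebra.ofId k (B ⧸ m.asIdeal)) (hb m)).symm : (B ⧸ m.asIdeal) →ₐ[k] k).comp
      (Ideal.Quotient.mkₐ k m.asIdeal)
  have hker : ∀ m, RingHom.ker (h m) = m.asIdeal := fun m => by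
    ext b
    simp [h, RingHom.mem_ker, Ideal.Quotient.eq_zero_iff_mem]
  have hbij : Function.Bijective h := by
    constructor
    · exact fun m m' e => MaximalSpectrum.ext ((hker m).symm.trans ((congrArg RingHom.ker e).trans (hker m')))
    · intro φ
      haveI hmax : (RingHom.ker φ).IsMaximal :=
        RingHom.ker_isMaximal_of_surjective φ fun x => ⟨algebraMap k B x, φ.commutes x⟩
      refine ⟨⟨RingHom.ker φ, hmax⟩, AlgHom.ext fun b => ?_⟩
      have h1 : b - algebraMap k B (φ b) ∈ RingHom.ker φ := by simp [RingHom.mem_ker]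
      have h2 := (hker ⟨RingHom.ker φ, hmax⟩).ge h1
      rwa [RingHom.mem_ker, map_sub, AlgHom.commutes, sub_eq_zero] at h2
  let e : B ≃ₐ[k] ((m : MaximalSpectrum B) → B ⧸ m.asIdeal) :=
    AlgEquiv.ofBijective (Pi.algHom k _ fun m => Ideal.Quotient.mkₐ k m.asIdeal) (IsArtinianRing.equivPi B).bijective
  haveI : Fintype (MaximalSpectrum B) := Fintype.ofFinite _
  have h1 : ∀ m : MaximalSpectrum B, Module.finrank k (B ⧸ m.asIdeal) = 1 := fun m =>
    (AlgEquiv.ofBijective (Algebra.ofId k (B ⧸ m.asIdeal)) (hb m)).toLinearEquiv.finrank_eq.symm.trans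
      (Module.finrank_self k)
  rw [← Nat.card_eq_of_bijective h hbij, e.toLinearEquiv.finrank_eq, Module.finrank_pi_fintype, Nat.card_eq_fintype_card]
  simp [h1]

/-- A finite étale scheme over an algebraically closed field has as many sections as its rank. -/
theorem natCard_sections {k : Type u} [Field k] [IsAlgClosed k] {G : Scheme.{u}} (q : G ⟶ Spec (CommRingCat.of k))
    [IsFinite q] [Etale q] :
    Nat.card {s : Spec (CommRingCat.of k) ⟶ G // s ≫ q = 𝟙 _} = q.finrank (IsLocalRing.closedPoint k) := by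
  haveI : IsAffine G := isAffine_of_isAffineHom q
  obtain ⟨σ, hσ⟩ := Spec.map_surjective (G.isoSpec.inv ≫ q)
  have hfin : σ.hom.Finite := (IsFinite.SpecMap_iff σ).mp (hσ ▸ (inferInstance : IsFinite (G.isoSpec.inv ≫ q)))
  have het : σ.hom.Etale := (HasRingHomProperty.Spec_iff (P := @Etale)).mp
    (hσ ▸ (inferInstance : Etale (G.isoSpec.inv ≫ q)))
  let B := Γ(G, ⊤)
  letI : Algebra k B := σ.hom.toAlgebra
  haveI : Module.Finite k B := hfin
  haveI : Algebra.Etale k B := het
  have hdeg : q.finrank (IsLocalRing.closedPoint k) = Module.finrank k B := by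
    haveI : Flat q := inferInstance
    rw [← Scheme.Hom.finrank_comp_left_of_isIso G.isoSpec.inv q, ← hσ,
      show Spec.map σ = Spec.map (CommRingCat.ofHom (algebraMap k B)) from rfl,
      Scheme.Hom.finrank_SpecMap_algebraMap, Module.rankAtStalk_eq_finrank_of_free]
    rfl
  rw [hdeg, ← natCard_algHom B]
  symm
  refine Nat.card_eq_of_bijective (fun φ => ⟨Spec.map (CommRingCat.ofHom φ.toRingHom) ≫ G.isoSpec.inv, ?_⟩) ⟨?_, ?_⟩
  · rw [Category.assoc, ← hσ, ← Spec.map_comp, ← Spec.map_id]
    congr 1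
    ext r
    exact φ.commutes r
  · intro φ φ' e
    have := (cancel_mono G.isoSpec.inv).mp (Subtype.ext_iff.mp e)
    exact AlgHom.ext fun b => congrArg (fun t : B ⟶ CommRingCat.of k => t.hom b) (Spec.map_inj.mp this)
  · rintro ⟨s, hs⟩
    obtain ⟨χ, hχ⟩ := Spec.map_surjective (s ≫ G.isoSpec.hom)
    have hc : σ ≫ χ = 𝟙 _ := by
      apply Spec.map_injective
      rw [Spec.map_comp, Spec.map_id, hσ, hχ, Category.assoc, Iso.hom_inv_id_assoc, hs]
    refine ⟨{ χ.hom with commutes' := fun r => congrArg (fun t : CommRingCat.of k ⟶ _ => t.hom r) hc }, Subtype.ext ?_⟩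
    show Spec.map χ ≫ G.isoSpec.inv = s
    rw [hχ, Category.assoc, Iso.hom_inv_id, Category.comp_id]

end AVAmpleLib

end
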