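import Groth.Agent.AVAmpleLib.TateHom
import Groth.Agent.AVAmpleLib.SectionCount
import Groth.Agent.HopfFFLib.Order
import Groth.Agent.SubDescLib.Main
import Mathlib.AlgebraicGeometry.Group.Affine

/-!
The degree of a finite flat homomorphism is the number of points of its kernel times a power of the characteristic.
-/

set_option autoImplicit false
set_option linter.style.haveILetI false
set_option backward.isDefEq.respectTransparency false
set_option maxHeartbeats 1000000

noncomputable section

universe u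

open CategoryTheory CategoryTheory.Limits MonoidalCategory CartesianMonoidalCategory MonObj AlgebraicGeometry
open Groth.Agent

namespace AVAmpleLib

variable {k : Type u} [Field k] [IsAlgClosed k]

/-- Rational points and rank of a finite group scheme. -/
theorem exists_rank_eq_card_points (q : ℕ) [ExpChar k q] (K : Over (Spec (CommRingCat.of k))) [GrpObj K]
    [IsFinite K.hom] :
    ∃ e : ℕ, K.hom.finrank (IsLocalRing.closedPoint k) =
      Nat.card (𝟙_ (Over (Spec (CommRingCat.of k))) ⟶ K) * q ^ e := by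
  haveI : IsAffine K.left := isAffine_of_isAffineHom K.hom
  letI : K.left.Over (Spec (CommRingCat.of k)) := ⟨K.hom⟩
  letI : GrpObj (K.left.asOver (Spec (CommRingCat.of k))) := ‹GrpObj K›
  let B := Γ(K.left, ⊤)
  letI iH : HopfAlgebra k B :=
    @instHopfAlgebraCarrierObjOppositeOpensCarrierCarrierCommRingCatPresheafOpOpensTopOfGrpObjOverSchemeSpecAsOverOfIsAffine
      (CommRingCat.of k) K.left _ _ _
  let σ : CommRingCat.of k ⟶ B := CommRingCat.ofHom (algebraMap k B)
  have hσ : Spec.map σ = K.left.isoSpec.inv ≫ K.hom :=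
    Spec.fullyFaithful.map_preimage (K.left.isoSpec.inv ≫ K.left ↘ Spec (CommRingCat.of k))
  haveI : IsFinite (K.left.isoSpec.inv ≫ K.hom) := inferInstance
  have hfin : σ.hom.Finite := (IsFinite.SpecMap_iff σ).mp (hσ ▸ (inferInstance : IsFinite (K.left.isoSpec.inv ≫ K.hom)))
  haveI : Module.Finite k B := RingHom.finite_algebraMap.mp hfin
  have hdeg : K.hom.finrank (IsLocalRing.closedPoint k) = Module.finrank k B := by
    rw [← Scheme.Hom.finrank_comp_left_of_isIso K.left.isoSpec.inv K.hom, ← hσ,
      show Spec.map σ = Spec.map (CommRingCat.ofHom (algebraMap k B)) from rfl,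
      Scheme.Hom.finrank_SpecMap_algebraMap, Module.rankAtStalk_eq_finrank_of_free]
    rfl
  obtain ⟨e, he⟩ := @Groth.Agent.HopfFF.exists_finrank_eq_expChar_pow' k _ q _
    (B ⧸ Groth.Agent.HopfFF.compIdeal k B) _ _ _ Groth.Agent.HopfFF.isLocalRing_comp
  refine ⟨e, ?_⟩
  rw [hdeg, (Groth.Agent.HopfFF.card_points_mul (k := k) (A := B) _ he).1]
  congr 1
  refine Nat.card_eq_of_bijective (fun φ => Over.homMk (Spec.map (CommRingCat.ofHom φ.toRingHom) ≫ K.left.isoSpec.inv) ?_)
    ⟨?_, ?_⟩
  · show _ = 𝟙 (Spec (CommRingCat.of k))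
    rw [Category.assoc, ← hσ, ← Spec.map_comp, ← Spec.map_id]
    congr 1
    ext r
    exact φ.commutes r
  · intro φ φ' h
    have := (cancel_mono K.left.isoSpec.inv).mp (congrArg Over.Hom.left h)
    exact AlgHom.ext fun b => congrArg (fun t : B ⟶ CommRingCat.of k => t.hom b) (Spec.map_inj.mp this)
  · intro s
    obtain ⟨χ, hχ⟩ := Spec.map_surjective (s.left ≫ K.left.isoSpec.hom)
    have hc : σ ≫ χ = 𝟙 _ := by
      apply Spec.map_injective
      rw [Spec.map_comp, Spec.map_id, hσ, hχ, Category.assoc, Iso.hom_inv_id_assoc]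
      exact Over.w s
    refine ⟨{ χ.hom with commutes' := fun r => congrArg (fun t : CommRingCat.of k ⟶ _ => t.hom r) hc }, ?_⟩
    refine Over.OverMorphism.ext ?_
    show Spec.map χ ≫ K.left.isoSpec.inv = s.left
    exact (congrArg (· ≫ K.left.isoSpec.inv) hχ).trans (by rw [Category.assoc, Iso.hom_inv_id, Category.comp_id])

variable {A B : Over (Spec (CommRingCat.of k))} [GrpObj A] [GrpObj B]

/-- The degree of a finite flat homomorphism. -/
theorem exists_finrank_eq_card_ker (q : ℕ) [ExpChar k q] (α : A ⟶ B) [IsMonHom α] [IsFinite α.left] [Flat α.left] :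
    ∃ e : ℕ, α.left.finrank (GrpField.unitPt B) =
      Nat.card {a : 𝟙_ (Over (Spec (CommRingCat.of k))) ⟶ A // a ≫ α = 1} * q ^ e := by
  let o : 𝟙_ (Over (Spec (CommRingCat.of k))) ⟶ B := η[B]
  let K : Over (Spec (CommRingCat.of k)) := Over.mk (pullback.snd α.left o.left)
  have ho : o.left ≫ B.hom = 𝟙 _ := Over.w o
  let i : K ⟶ A := Over.homMk (pullback.fst α.left o.left) (by
    show pullback.fst α.left o.left ≫ A.hom = pullback.snd α.left o.left
    rw [← Over.w α, ← Category.assoc, pullback.condition, Category.assoc, ho]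
    exact Category.comp_id _)
  haveI : IsFinite K.hom := inferInstanceAs (IsFinite (pullback.snd α.left o.left))
  have h1 : ∀ T : Over (Spec (CommRingCat.of k)), ((1 : T ⟶ B)).left = T.hom ≫ o.left := fun T => by
    rw [Hom.one_def, Over.comp_left]; rfl
  have hi : i ≫ α = 1 := by
    refine Over.OverMorphism.ext ?_
    rw [h1, Over.comp_left]
    exact pullback.condition
  haveI : IsClosedImmersion o.left :=
    haveI : IsSeparated B.hom := GrpField.isSeparated_grp
    isClosedImmersion_of_comp_eq_id B.hom o.left ho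
  haveI : Mono i.left := inferInstanceAs (Mono (pullback.fst α.left o.left))
  haveI : Mono i := Over.mono_of_mono_left i
  have hfac : ∀ (T : Over (Spec (CommRingCat.of k))) (h : T ⟶ A), h ≫ α = 1 → ∃ g : T ⟶ K, g ≫ i = h := by
    intro T h hh
    have hw : h.left ≫ α.left = T.hom ≫ o.left := by rw [← Over.comp_left, hh, h1]
    exact ⟨Over.homMk (pullback.lift h.left T.hom hw) (pullback.lift_snd _ _ _),
      Over.OverMorphism.ext (pullback.lift_fst _ _ _)⟩
  obtain ⟨G, hG⟩ := Groth.Agent.SubDesc.exists_grpObj_of_mono i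
    (hfac _ _ (by rw [MonObj.mul_comp, Category.assoc, Category.assoc, hi, MonObj.comp_one, MonObj.comp_one,
      _root_.one_mul]))
    (hfac _ _ (MonObj.one_comp α))
    (hfac _ _ (by rw [GrpObj.inv_comp, hi, inv_one]))
  letI : GrpObj K := G
  obtain ⟨e, he⟩ := exists_rank_eq_card_points q K
  refine ⟨e, ?_⟩
  have hpt : o.left (IsLocalRing.closedPoint k) = GrpField.unitPt B := by
    rw [← pt_one (B := B), Hom.one_def, toUnit_unique (toUnit _) (𝟙 _), Category.id_comp]
    rfl
  rw [← hpt, ← Scheme.Hom.finrank_pullback_snd α.left o.left, show (pullback.snd α.left o.left) = K.hom from rfl, he]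
  congr 1
  refine Nat.card_eq_of_bijective (fun z => ⟨z ≫ i, by rw [Category.assoc, hi, MonObj.comp_one]⟩) ⟨?_, ?_⟩
  · exact fun z z' h => (cancel_mono i).1 (Subtype.ext_iff.1 h)
  · rintro ⟨a, ha⟩
    obtain ⟨z, hz⟩ := hfac _ a ha
    exact ⟨z, Subtype.ext hz⟩

end AVAmpleLib

end
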