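import Groth.Prelude.Def_AlgGrp
import Groth.Agent.SubmDescLib.Etale
import Groth.Agent.Thickening.Basic
import Mathlib.AlgebraicGeometry.Morphisms.LocalFlatDescent

/-!
A homomorphism pulled back along itself is the projection from the product with its kernel.
-/

set_option autoImplicit false

noncomputable section

universe u

open CategoryTheory CategoryTheory.Limits MonoidalCategory CartesianMonoidalCategory MonObj AlgebraicGeometry

namespace AVAmpleLib

section Cat

variable {C : Type*} [Category C] [CartesianMonoidalCategory C] {X Y N : C} [GrpObj X] [GrpObj Y]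
  (f : X ⟶ Y) [IsMonHom f] (i : N ⟶ X)

theorem isPullback_shear (h : IsPullback i (toUnit N) f η[Y]) :
    IsPullback (fst X N) (fst X N * (snd X N ≫ i)) f f := by
  have h1 : ∀ {T : C}, toUnit T ≫ η[Y] = (1 : T ⟶ Y) := fun {T} => (Hom.one_def).symm
  have hi : i ≫ f = 1 := h.w.trans h1
  have hw : fst X N ≫ f = (fst X N * (snd X N ≫ i)) ≫ f := by
    rw [MonObj.mul_comp, Category.assoc (snd X N), hi, MonObj.comp_one, _root_.mul_one]
  have hd : ∀ s : PullbackCone f f, (s.fst⁻¹ * s.snd) ≫ f = toUnit s.pt ≫ η[Y] := fun s => by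
    rw [MonObj.mul_comp, GrpObj.inv_comp, s.condition, inv_mul_cancel, h1]
  refine IsPullback.of_isLimit' ⟨hw⟩ (PullbackCone.IsLimit.mk hw
    (fun s => CartesianMonoidalCategory.lift s.fst (h.lift (s.fst⁻¹ * s.snd) (toUnit _) (hd s)))
    (fun s => lift_fst _ _)
    (fun s => by
      rw [MonObj.comp_mul, lift_fst, ← Category.assoc, lift_snd, h.lift_fst, mul_inv_cancel_left])
    fun s m hm1 hm2 => ?_)
  refine CartesianMonoidalCategory.hom_ext _ _ ?_ (h.hom_ext ?_ (toUnit_unique _ _))
  · rw [lift_fst]; exact hm1
  · rw [lift_snd, h.lift_fst, Category.assoc]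
    rw [MonObj.comp_mul, hm1] at hm2
    rw [← hm2, inv_mul_cancel_left]

end Cat

variable {S : Scheme.{u}} {X Y N : Over S} [GrpObj X] [GrpObj Y] (f : X ⟶ Y) [IsMonHom f] (i : N ⟶ X)

theorem isPullback_shear_left (h : AlgGrp.IsKernel i f) :
    IsPullback (fst X N).left (fst X N * (snd X N ≫ i)).left f.left f.left :=
  (isPullback_shear f i h).map (Over.forget S)

/-- A property descending along a surjective flat quasi-compact homomorphism holds for it iff for its kernel. -/
theorem prop_iff_kernel (P : MorphismProperty Scheme.{u}) [P.IsStableUnderBaseChange]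
    (hdesc : ∀ {W : Scheme.{u}} {a b : W ⟶ X.left},
      IsPullback a b f.left f.left → P a → P f.left) (h : AlgGrp.IsKernel i f) : P f.left ↔ P N.hom := by
  constructor
  · intro hf
    have h1 : IsPullback i.left N.hom f.left (η[Y] : 𝟙_ (Over S) ⟶ Y).left := h.map (Over.forget S)
    exact P.of_isPullback h1 hf
  · intro hN
    refine hdesc (isPullback_shear_left f i h) ?_
    rw [CategoryTheory.Over.fst_left]
    exact P.pullback_fst _ _ hN

end AVAmpleLib

end
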