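import Groth.Agent.WeilLib.Frob
import Mathlib.FieldTheory.IsAlgClosed.AlgebraicClosure
import Mathlib.FieldTheory.Finite.Basic

/-!
`Zeta.nPts` counts points with values in the extension of degree `m`.
-/

set_option autoImplicit false
set_option linter.style.haveILetI false
set_option linter.unusedSectionVars false
set_option backward.isDefEq.respectTransparency false

noncomputable section

universe u

open CategoryTheory CategoryTheory.Limits AlgebraicGeometry
open WeilLib

namespace AVAmpleLib

theorem exists_ext_natCard_eq_nPts {k : Type u} [Field k] [Finite k] (X : Over (Spec (CommRingCat.of k)))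
    [LocallyOfFiniteType X.hom] [QuasiCompact X.hom] {Φ : ℕ → (X.left ⟶ X.left)}
    (hb : ∀ m x, Φ m x = x) (hΦ : ∀ m x a, stk (Φ m) x x (hb m x) a = a ^ Nat.card k ^ m)
    (hfix : ∀ m (L : Type u) [Field L], (∀ r : L, r ^ Nat.card k ^ m = r) → ∀ x : Spec (CommRingCat.of L) ⟶ X.left,
      x ≫ Φ m = x)
    {m : ℕ} (hm : m ≠ 0) :
    ∃ (k' : Type u) (_ : Field k') (_ : Algebra k k') (_ : Finite k'), Module.finrank k k' = m ∧
      Nat.card (Over.mk (Spec.map (CommRingCat.ofHom (algebraMap k k'))) ⟶ X) = Zeta.nPts X.hom m := by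
  classical
  letI := Fintype.ofFinite k
  let Ω := AlgebraicClosure k
  set Q := Nat.card k ^ m
  have hQ : 1 < Q := one_lt_natCard_pow hm
  let σ : Ω →ₐ[k] Ω := (FiniteField.frobeniusAlgHom k Ω) ^ m
  have hσ : ∀ a, σ a = a ^ Q := fun a => by
    simp only [σ, Q]
    rw [AlgHom.coe_pow, FiniteField.coe_frobeniusAlgHom, pow_iterate, Nat.card_eq_fintype_card]
  let S : Subalgebra k Ω := AlgHom.equalizer σ (AlgHom.id k Ω)
  have hS : ∀ a : Ω, a ∈ S ↔ a ^ Q = a := fun a => by rw [← hσ]; rfl
  let E : IntermediateField k Ω := S.toIntermediateField fun x hx => by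
    rw [hS] at hx ⊢
    rw [inv_pow, hx]
  have hE : ∀ a : Ω, a ∈ E ↔ a ^ Q = a := hS
  set p : Polynomial Ω := Polynomial.X ^ Q - Polynomial.X
  have hp0 : p ≠ 0 := FiniteField.X_pow_card_sub_X_ne_zero Ω hQ
  have hEroot : ∀ a : Ω, a ∈ E ↔ a ∈ p.roots.toFinset := fun a => by
    rw [hE, Multiset.mem_toFinset, Polynomial.mem_roots hp0, Polynomial.IsRoot, Polynomial.eval_sub,
      Polynomial.eval_pow, Polynomial.eval_X, sub_eq_zero]
  have hQ0 : (Q : Ω) = 0 := natCard_pow_cast_eq_zero (k₀ := k) Ω hm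
  have hnd : p.roots.Nodup := Polynomial.nodup_roots (by
    refine (Polynomial.separable_def p).2 ?_
    have : Polynomial.derivative p = -1 := by
      simp [p, Polynomial.derivative_X_pow, hQ0]
    rw [this]
    exact isCoprime_one_right.neg_right)
  have hcard : Nat.card E = Q := by
    rw [Nat.card_congr (Equiv.subtypeEquivRight hEroot), Nat.card_eq_finsetCard,
      Multiset.toFinset_card_of_nodup hnd, ← (IsAlgClosed.splits p).natDegree_eq_card_roots]
    exact FiniteField.X_pow_card_sub_X_natDegree_eq Ω hQ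
  haveI : Finite E := Nat.finite_of_card_ne_zero (by omega)
  refine ⟨E, inferInstance, inferInstance, inferInstance, ?_, ?_⟩
  · haveI : Module.Finite k E := Module.Finite.of_finite
    exact Nat.pow_right_injective (Finite.one_lt_card (α := k)) ((Module.natCard_eq_pow_finrank (K := k) (V := E)).symm.trans hcard)
  have hfixE : ∀ r : E, r ^ Q = r := fun r => Subtype.ext (by simpa using (hE r.1).1 r.2)
  rw [← (natCard_fixedEmb_sigma X.hom Ω hm).2]
  let e₁ : (Over.mk (Spec.map (CommRingCat.ofHom (algebraMap k E))) ⟶ X) ≃ FixHom X.hom E (Φ m) :=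
    { toFun := fun z => ⟨z.left, Over.w z, hfix m E hfixE z.left⟩
      invFun := fun h => Over.homMk h.1 h.2.1
      left_inv := fun z => by ext; rfl
      right_inv := fun h => rfl }
  let e₂ : (Σ x, FixedEmb X.hom E Q x) → Σ x, FixedEmb X.hom Ω Q x := fun s =>
    ⟨s.1, s.2.1 ≫ CommRingCat.ofHom (algebraMap E Ω), by
      rw [← Category.assoc, s.2.2.1]; rfl,
      fun a => by
        change (algebraMap E Ω (s.2.1 a)) ^ Q = algebraMap E Ω (s.2.1 a)
        rw [← map_pow, s.2.2.2]⟩
  have he₂ : Function.Bijective e₂ := by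
    constructor
    · rintro ⟨x, ι, h⟩ ⟨x', ι', h'⟩ e
      obtain rfl : x = x' := congrArg Sigma.fst e
      obtain rfl : ι = ι' := by
        have h2 := congrArg Subtype.val (eq_of_heq (Sigma.mk.inj_iff.1 e).2)
        ext a
        exact congrArg (fun f : X.left.residueField x ⟶ CommRingCat.of Ω => f.hom a) h2
      rfl
    · rintro ⟨x, ι, h1, h2⟩
      refine ⟨⟨x, CommRingCat.ofHom (ι.hom.codRestrict E.toSubfield fun a => (hE _).2 (h2 a)), ?_, fun a => ?_⟩, ?_⟩
      · ext r
        exact ConcreteCategory.congr_hom h1 r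
      · exact Subtype.ext (h2 a)
      · rfl
  rw [Nat.card_congr (e₁.trans (fixHomEquiv X.hom E (hb m) (hΦ m) (RingHom.id E) fun a => (hfixE a).symm)),
    Nat.card_eq_of_bijective e₂ he₂]

end AVAmpleLib

end
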