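import Groth.Agent.AVAmpleLib.PullKer
import Groth.Agent.AVAmpleLib.Translate
import Groth.Agent.AVAmpleLib.DegDet

/-!
Invertible modules on an abelian variety killed by the pullback along multiplication by `n`.
-/

set_option autoImplicit false
set_option linter.style.haveILetI false
set_option backward.isDefEq.respectTransparency false
set_option maxHeartbeats 1000000

noncomputable section

universe u

open CategoryTheory CategoryTheory.Limits MonoidalCategory CartesianMonoidalCategory MonObj AlgebraicGeometry TopologicalSpace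
open CubeConsLib

namespace AVAmpleLib

variable {k : Type u} [Field k] [IsAlgClosed k] (A : Over (Spec (CommRingCat.of k))) [GrpObj A]
  [IsProper A.hom] [GeometricallyIntegral A.hom]

/-- Global functions on a proper variety over an algebraically closed field are constants. -/
theorem surjective_appTop : Function.Surjective A.hom.appTop := by
  haveI : IsIntegral A.left := GeometricallyIntegral.isIntegral_of_subsingleton A.hom
  have hfin := finite_appTop_of_universallyClosed k A.hom
  letI := (isField_of_universallyClosed k A.hom).toField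
  have hfin' : ((A.hom.appTop.hom).comp (Scheme.ΓSpecIso (CommRingCat.of k)).inv.hom).Finite :=
    RingHom.Finite.comp hfin (RingHom.Finite.of_surjective _
      (Scheme.ΓSpecIso (CommRingCat.of k)).commRingCatIsoToRingEquiv.symm.surjective)
  letI : Algebra k Γ(A.left, ⊤) := ((A.hom.appTop.hom).comp (Scheme.ΓSpecIso (CommRingCat.of k)).inv.hom).toAlgebra
  haveI : Module.Finite k Γ(A.left, ⊤) := hfin'
  intro x
  obtain ⟨c, hc⟩ := (IsAlgClosed.algebraMap_bijective_of_isIntegral (k := k) (K := Γ(A.left, ⊤))).2 x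
  exact ⟨(Scheme.ΓSpecIso (CommRingCat.of k)).inv c, hc⟩

/-- At most `n ^ (2g)` classes of invertible modules are killed by `[n]^*`. -/
theorem natCard_pullA_pow_le {g : ℕ} (hg : topologicalKrullDim A.left = (g : ℕ)) (n : ℕ) (hn : (n : k) ≠ 0) :
    Finite {c : PicA A.left // pullA (𝟙 A ^ n).left c = 0 ∧ ∃ (M : A.left.Modules) (hM : PicF.IsInvertible M), clA hM = c} ∧
      Nat.card {c : PicA A.left // pullA (𝟙 A ^ n).left c = 0 ∧
        ∃ (M : A.left.Modules) (hM : PicF.IsInvertible M), clA hM = c} ≤ n ^ (2 * g) := by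
  haveI : IsCommMonObj A := isCommMonObj_field
  haveI : IsIntegral A.left := GeometricallyIntegral.isIntegral_of_subsingleton A.hom
  haveI : LocallyOfFinitePresentation A.hom := LocallyOfFinitePresentation.iff_locallyOfFiniteType.2 inferInstance
  have hn0 : 0 < n := Nat.pos_of_ne_zero fun h => hn (by rw [h, Nat.cast_zero])
  have hunit : IsUnit (((n : ℤ)) : Γ(Spec (CommRingCat.of k), ⊤)) := by
    have := (isUnit_iff_ne_zero.2 hn).map (Scheme.ΓSpecIso (CommRingCat.of k)).inv.hom
    simpa using this
  haveI : IsFinite (𝟙 A ^ n).left := by rw [← zpow_natCast]; exact (AbSchLib.isFinite_etale_zpow A _ hunit).1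
  haveI : Etale (𝟙 A ^ n).left := by rw [← zpow_natCast]; exact (AbSchLib.isFinite_etale_zpow A _ hunit).2
  haveI hs : Surjective (𝟙 A ^ n).left := surjective_of_finite_dim (𝟙 A ^ n).left hg hg
  haveI := smooth_hom A
  haveI : Finite (tors A n) := finite_tors A hn0
  haveI : IsDomain Γ(A.left, (𝟙 A ^ n).left ⁻¹ᵁ ⊤) := inferInstanceAs (IsDomain Γ(A.left, ⊤))
  let τ : tors A n → (A.left ⟶ A.left) := fun a => (tR a.1).left
  have hτf : ∀ a, τ a ≫ (𝟙 A ^ n).left = (𝟙 A ^ n).left := fun a => by
    rw [← Over.comp_left, MonObj.comp_pow, Category.comp_id, tR, mul_pow, ← MonObj.comp_pow a.1 n (toUnit A),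
      (AbDual.mem_torsPts A a.1).1 a.2, MonObj.comp_one, _root_.mul_one]
  obtain ⟨h1, h2⟩ := card_pullA_ker_le (f := (𝟙 A ^ n).left) (pY := A.hom) (τ := τ) (hτf := hτf)
    (fun a b => by rw [← Over.comp_left, tR_comp]; rfl)
    (fun x x' hx hx' he => by
      rw [Over.w] at hx hx'
      let a : 𝟙_ (Over (Spec (CommRingCat.of k))) ⟶ A := Over.homMk x hx
      let a' : 𝟙_ (Over (Spec (CommRingCat.of k))) ⟶ A := Over.homMk x' hx'
      have h : a ^ n = a' ^ n := by
        rw [← Category.comp_id a, ← Category.comp_id a', ← MonObj.comp_pow, ← MonObj.comp_pow]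
        exact Over.OverMorphism.ext he
      refine ⟨⟨a⁻¹ * a', (AbDual.mem_torsPts A _).2 (by rw [mul_pow, inv_pow, h, inv_mul_cancel])⟩, ?_⟩
      have h' : a ≫ tR (a⁻¹ * a') = a' := by rw [point_tR, mul_inv_cancel_left]
      exact (congrArg Over.Hom.left h').symm)
    (fun r => by
      obtain ⟨c, hc⟩ := surjective_appTop A (show Γ(A.left, ⊤) from r)
      refine ⟨A.hom.appTop c, ?_⟩
      have h : A.hom.appTop ≫ (𝟙 A ^ n).left.appTop = A.hom.appTop := by
        rw [← Scheme.Hom.comp_appTop, Over.w]
      exact (congrArg (fun g => g c) h).trans hc)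
    (show (tR (1 : tors A n).1).left = 𝟙 _ by rw [OneMemClass.coe_one, tR_one]; rfl)
  exact ⟨h1, h2.trans (natCard_tors A hg n hn).le⟩

end AVAmpleLib

end
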