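import Groth.Agent.AVAmpleLib.KLPoints
import Groth.Agent.AVAmpleLib.PullTors
import Groth.Agent.AVAmpleLib.BcTate
import Groth.Agent.AVAmpleLib.Exist
import Groth.Agent.S19476

/-!
The orthogonal of an abelian subvariety with respect to the Mumford pairing of an ample module.
-/

set_option autoImplicit false
set_option maxRecDepth 8000
set_option linter.style.haveILetI false
set_option backward.isDefEq.respectTransparency false
set_option maxHeartbeats 1000000

noncomputable section

universe u

open CategoryTheory MonoidalCategory CartesianMonoidalCategory MonObj AlgebraicGeometry TopologicalSpace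
open CubeConsLib
open Limits (pullback)

namespace AVAmpleLib

variable {k : Type u} [Field k] {A B T V : Over (Spec (CommRingCat.of k))} [GrpObj A] [GrpObj B]
  {L : A.left.Modules} (hL : PicF.IsInvertible L) (i : B ⟶ A) [IsMonHom i]

/-- The additivity defect of `f ↦ f^*L`. -/
def pair (f g : V ⟶ A) : PicA V.left := P hL (f * g) - P hL f - P hL g

/-- The classes of invertible modules. -/
def IsLB {X : Scheme.{u}} (c : PicA X) : Prop := ∃ (M : X.Modules) (hM : PicF.IsInvertible M), clA hM = c

theorem IsLB.sub {X : Scheme.{u}} {c d : PicA X} (hc : IsLB c) (hd : IsLB d) : IsLB (c - d) := by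
  obtain ⟨M, hM, rfl⟩ := hc
  obtain ⟨N, hN, rfl⟩ := hd
  exact ⟨_, HilbPolyLib.isInvertible_tensor hM (MiscFlat6.dual_isInvertible hN), by
    rw [clA_tensor hM (MiscFlat6.dual_isInvertible hN), clA_dual, sub_eq_add_neg]⟩

theorem isLB_P {A' : Over (Spec (CommRingCat.of k))} {L' : A'.left.Modules} (hL' : PicF.IsInvertible L') (f : V ⟶ A') :
    IsLB (P hL' f) := ⟨_, _, (P_eq hL' f).symm⟩

theorem isLB_pair (f g : V ⟶ A) : IsLB (pair hL f g) := ((isLB_P hL _).sub (isLB_P hL _)).sub (isLB_P hL _)

theorem pullA_pair {W : Over (Spec (CommRingCat.of k))} (u : W ⟶ V) (f g : V ⟶ A) :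
    pullA u.left (pair hL f g) = pair hL (u ≫ f) (u ≫ g) := by
  simp only [pair, map_sub, pullA_P, MonObj.comp_mul]

/-- The class of `x : T ⟶ A` on `B × T`. -/
def pairing (x : T ⟶ A) : PicA (B ⊗ T).left := pair hL (fst B T ≫ i) (snd B T ≫ x)

variable [IsProper A.hom] [GeometricallyIntegral A.hom]

theorem pair_mul_right (f g h : V ⟶ A) : pair hL f (g * h) = pair hL f g + pair hL f h := by
  have h1 := cube_field hL f g h
  simp only [pair]
  rw [← _root_.mul_assoc]
  linear_combination (norm := abel) h1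

theorem pair_mul_left (f g h : V ⟶ A) : pair hL (f * g) h = pair hL f h + pair hL g h := by
  have h1 := cube_field hL f g h
  simp only [pair]
  linear_combination (norm := abel) h1

theorem pair_one_right (f : V ⟶ A) : pair hL f 1 = 0 := by
  simp [pair, P_zero hL]

theorem pair_one_left (f : V ⟶ A) : pair hL 1 f = 0 := by
  simp [pair, P_zero hL]

theorem pair_pow_left (f g : V ⟶ A) (n : ℕ) : pair hL (f ^ n) g = n • pair hL f g := by
  induction n with
  | zero => rw [pow_zero, pair_one_left, zero_smul]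
  | succ n ih => rw [pow_succ, pair_mul_left, ih, succ_nsmul]

theorem pair_pow_right (f g : V ⟶ A) (n : ℕ) : pair hL f (g ^ n) = n • pair hL f g := by
  induction n with
  | zero => rw [pow_zero, pair_one_right, zero_smul]
  | succ n ih => rw [pow_succ, pair_mul_right, ih, succ_nsmul]

omit [GrpObj B] [IsMonHom i] in
theorem pairing_mul (x y : T ⟶ A) : pairing hL i (x * y) = pairing hL i x + pairing hL i y := by
  rw [pairing, MonObj.comp_mul, pair_mul_right]
  rfl

omit [GrpObj B] [IsMonHom i] in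
theorem pairing_one : pairing hL i (1 : T ⟶ A) = 0 := by
  rw [pairing, MonObj.comp_one, pair_one_right]

variable [IsProper B.hom] [GeometricallyIntegral B.hom]

omit [GrpObj B] [IsMonHom i] [GrpObj A] [IsProper A.hom] [GeometricallyIntegral A.hom] in
theorem locallyNoetherian_left [LocallyOfFiniteType A.hom] : IsLocallyNoetherian A.left :=
  LocallyOfFiniteType.isLocallyNoetherian A.hom

/-- The orthogonal closed subscheme, tested on locally Noetherian schemes. -/
theorem exists_orth : ∃ (D : Over (Spec (CommRingCat.of k))) (j : D ⟶ A), IsClosedImmersion j.left ∧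
    ∀ (T : Over (Spec (CommRingCat.of k))), IsLocallyNoetherian T.left → ∀ x : T ⟶ A,
      (pairing hL i x = 0 ↔ ∃ y : T ⟶ D, y ≫ j = x) := by
  haveI : IsLocallyNoetherian A.left := LocallyOfFiniteType.isLocallyNoetherian A.hom
  haveI : Flat B.hom := inferInstance
  let q : pullback B.hom A.hom ⟶ A.left := Limits.pullback.snd B.hom A.hom
  haveI : IsProper q := MorphismProperty.pullback_snd (P := @IsProper) _ _ ‹IsProper B.hom›
  haveI : Flat q := MorphismProperty.pullback_snd (P := @Flat) _ _ ‹Flat B.hom›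
  haveI : GeometricallyIntegral q := inferInstanceAs (GeometricallyIntegral (Limits.pullback.snd B.hom A.hom))
  obtain ⟨E, hE, eE⟩ : IsLB (pairing hL i (𝟙 A) : PicA (pullback B.hom A.hom)) :=
    isLB_pair hL (fst B A ≫ i) (snd B A ≫ 𝟙 A)
  obtain ⟨Z, ι', hι, hZ⟩ := Groth.Agent.S19476.result q E ((CohCmpLib.invertible_iff_rank_one E).1 hE)
  let D : Over (Spec (CommRingCat.of k)) := Over.mk (ι' ≫ A.hom)
  let j : D ⟶ A := Over.homMk ι' rfl
  refine ⟨D, j, hι, fun T hT x => ?_⟩
  have hpb : IsPullback (lift (fst B T) (snd B T ≫ x)).left (snd B T).left q x.left := by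
    refine IsPullback.of_right (h₁₂ := Limits.pullback.fst B.hom A.hom) (v₁₃ := B.hom) (h₂₂ := A.hom) ?_ ?_
      (IsPullback.of_hasPullback B.hom A.hom)
    · rw [Over.w x, show (lift (fst B T) (snd B T ≫ x)).left ≫ Limits.pullback.fst B.hom A.hom =
        (fst B T).left from congrArg CommaMorphism.left (lift_fst (fst B T) (snd B T ≫ x))]
      exact IsPullback.of_hasPullback B.hom T.hom
    · exact congrArg CommaMorphism.left (lift_snd (fst B T) (snd B T ≫ x))
  have eT : pullA (lift (fst B T) (snd B T ≫ x)).left (clA hE) = pairing hL i x := by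
    rw [eE, pairing, pullA_pair, lift_fst_assoc, lift_snd_assoc, Category.comp_id]
    rfl
  let φ := hpb.isoPullback
  have hφ : ∀ (M : T.left.Modules) (hM : PicF.IsInvertible M),
      Nonempty ((Scheme.Modules.pullback (Limits.pullback.fst q x.left)).obj E ≅
        (Scheme.Modules.pullback (Limits.pullback.snd q x.left)).obj M) ↔
      pairing hL i x = pullA (snd B T).left (clA hM) := by
    intro M hM
    rw [← clA_eq_iff (AmpleDevLib.isInvertible_pb _ hE) (AmpleDevLib.isInvertible_pb _ hM), ← pullA_clA _ hE,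
      ← pullA_clA _ hM, ← eT]
    constructor
    · intro h
      have h2 := congrArg (pullA φ.hom) h
      rwa [pullA_comp, pullA_comp, IsPullback.isoPullback_hom_fst, IsPullback.isoPullback_hom_snd] at h2
    · intro h
      have h2 := congrArg (pullA φ.inv) h
      rwa [pullA_comp, pullA_comp, IsPullback.isoPullback_inv_fst, IsPullback.isoPullback_inv_snd] at h2
  constructor
  · intro h0
    obtain ⟨u', hu'⟩ := (hZ T.left x.left hT).2 ⟨Coh.structureModule T.left, CohCmpLib.rank_one_structureModule _,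
      (hφ _ (isInvertible_one _)).2 (by rw [h0, clA_one, map_zero])⟩
    exact ⟨Over.homMk u' (show u' ≫ ι' ≫ A.hom = T.hom by rw [← Category.assoc, hu']; exact Over.w x),
      Over.OverMorphism.ext hu'⟩
  · rintro ⟨y, rfl⟩
    obtain ⟨M, hM1, hiso⟩ := (hZ T.left (y ≫ j).left hT).1 ⟨y.left, rfl⟩
    have hM : PicF.IsInvertible M := (CohCmpLib.invertible_iff_rank_one M).2 hM1
    have h1 := (hφ M hM).1 hiso
    have h2 := congrArg (pullA (lift (1 : T ⟶ B) (𝟙 T)).left) h1
    rw [pairing, pullA_pair, lift_fst_assoc, lift_snd_assoc, MonObj.one_comp, pair_one_left, pullA_comp,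
      ← Over.comp_left, lift_snd, Over.id_left, pullA_id] at h2
    rw [h1, ← h2, map_zero]

include hL in
omit [IsMonHom i] in
/-- Only finitely many geometric points of `B` are orthogonal to `B` for an ample module. -/
theorem finite_orth_sub [IsMonHom i] [IsClosedImmersion i.left] (hA : CohB1.IsAmple L) (Ω : Type u) [Field Ω] [Algebra k Ω] :
    Set.Finite {b : SGA7.pt (K := k) Ω ⟶ B | pairing hL i (b ≫ i) = 0} := by
  haveI : CompactSpace B.left := QuasiCompact.compactSpace_of_compactSpace B.hom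
  have hB : CohB1.IsAmple ((Scheme.Modules.pullback i.left).obj L) :=
    Groth.Agent.S9815.result i.left i.left.isEmbedding L hA
  obtain ⟨K₁, z, hz, hzero, huniv⟩ := exists_KL_noeth hB.1
  haveI : IsFinite K₁.hom := isFinite_of_mumfordTriv hB.1
    ((MiscFlat6.isRelAmple_iff_isAmple B.hom _).2 hB) z ((mumfordTriv_iff hB.1 z).2 hzero)
  haveI : IsLocallyNoetherian (SGA7.pt (K := k) Ω).left :=
    inferInstanceAs (IsLocallyNoetherian (Spec (CommRingCat.of Ω)))
  haveI : IsFinite ((bcF Ω).obj K₁).hom :=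
    MorphismProperty.pullback_snd (P := @IsFinite) _ _ ‹IsFinite K₁.hom›
  haveI : Finite ((bcF Ω).obj K₁).left := by
    have h1 := ((bcF Ω).obj K₁).hom.finite_preimage_singleton (IsLocalRing.closedPoint Ω)
    have h2 : ⇑((bcF Ω).obj K₁).hom ⁻¹' {IsLocalRing.closedPoint Ω} = Set.univ :=
      Set.eq_univ_of_forall fun x => Subsingleton.elim (α := PrimeSpectrum Ω) _ _
    exact Set.finite_univ_iff.1 ((congrArg Set.Finite h2).mp h1)
  haveI : Finite (SGA7.pt (K := k) Ω ⟶ K₁) :=
    Finite.of_injective (fun y => AVRigidLib.pt (bcPt Ω y)) fun y₁ y₂ h =>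
      (bcPt_bijective Ω).1 (AVRigidLib.ext_pt h)
  refine (Set.finite_range fun y : SGA7.pt (K := k) Ω ⟶ K₁ => y ≫ z).subset fun b hb => ?_
  refine huniv _ ‹_› b ?_
  have h : pairing hL i (b ≫ i) = 0 := hb
  rw [pairing, pair, sub_sub, sub_eq_zero, ← Category.assoc, ← MonObj.mul_comp] at h
  rw [MumfordZero, P_pullback, P_pullback, P_pullback]
  exact h

include hL in
omit [IsMonHom i] in
/-- The torsion orthogonal to `B` has index at most `n ^ (2 dim B)`. -/
theorem index_orth_tors [IsMonHom i] (Ω : Type u) [Field Ω] [Algebra k Ω] [IsAlgClosed Ω] {b : ℕ}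
    (hb : topologicalKrullDim ((bcF Ω).obj B).left = (b : ℕ)) (n : ℕ) (hn : (n : Ω) ≠ 0) :
    Finite (Set.range fun x : {x : SGA7.pt (K := k) Ω ⟶ A // x ^ n = 1} => pairing hL i x.1) ∧
    Nat.card (Set.range fun x : {x : SGA7.pt (K := k) Ω ⟶ A // x ^ n = 1} => pairing hL i x.1) ≤ n ^ (2 * b) := by
  letI : GrpObj ((bcF Ω).obj B) := Functor.grpObjObj
  haveI : IsProper ((bcF Ω).obj B).hom := inferInstanceAs (IsProper (pullback.snd B.hom _))
  haveI : GeometricallyIntegral ((bcF Ω).obj B).hom := inferInstanceAs (GeometricallyIntegral (Limits.pullback.snd B.hom _))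
  obtain ⟨h1, h2⟩ := natCard_pullA_pow_le ((bcF Ω).obj B) hb n hn
  let T := SGA7.pt (K := k) Ω
  have hmap : ((bcF Ω).map (𝟙 B) : (bcF Ω).obj B ⟶ (bcF Ω).obj B) = 𝟙 _ := (bcF Ω).map_id B
  have hpow : (bcF Ω).map (𝟙 B ^ n) = 𝟙 ((bcF Ω).obj B) ^ n := by
    rw [← hmap]
    exact map_pow (MonoidHom.mk' (fun f : B ⟶ B => (bcF Ω).map f) (Functor.map_mul _)) (𝟙 B) n
  have hwhisk : ((𝟙 B ^ n) ▷ T).left = (𝟙 ((bcF Ω).obj B) ^ n).left := by
    rw [← hpow]
    refine Limits.pullback.hom_ext ?_ ?_
    · exact (congrArg CommaMorphism.left (whiskerRight_fst (𝟙 B ^ n) T)).trans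
        (Limits.pullback.lift_fst _ _ _).symm
    · exact (congrArg CommaMorphism.left (whiskerRight_snd (𝟙 B ^ n) T)).trans
        (Over.w ((bcF Ω).map (𝟙 B ^ n))).symm
  have hsub : ∀ c ∈ Set.range fun x : {x : T ⟶ A // x ^ n = 1} => pairing hL i x.1,
      pullA (X := ((bcF Ω).obj B).left) (Y := ((bcF Ω).obj B).left) (𝟙 ((bcF Ω).obj B) ^ n).left c = 0 ∧
        IsLB (X := ((bcF Ω).obj B).left) c := by
    rintro _ ⟨x, rfl⟩
    refine ⟨?_, isLB_pair hL _ _⟩
    rw [← hwhisk]
    show pullA ((𝟙 B ^ n) ▷ T).left (pair hL (fst B T ≫ i) (snd B T ≫ x.1)) = 0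
    rw [pullA_pair, ← Category.assoc, whiskerRight_fst, Category.assoc, MonObj.pow_comp, Category.id_comp,
      ← Category.assoc, whiskerRight_snd, MonObj.comp_pow, pair_pow_left, ← pair_pow_right, ← MonObj.comp_pow, x.2,
      MonObj.comp_one, pair_one_right]
  let f : (Set.range fun x : {x : T ⟶ A // x ^ n = 1} => pairing hL i x.1) →
      {c : PicA ((bcF Ω).obj B).left // pullA (𝟙 ((bcF Ω).obj B) ^ n).left c = 0 ∧
        ∃ (M : ((bcF Ω).obj B).left.Modules) (hM : PicF.IsInvertible M), clA hM = c} :=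
    fun c => ⟨c.1, hsub c.1 c.2⟩
  have hf : Function.Injective f := fun c d e => Subtype.ext (congrArg Subtype.val e :)
  exact ⟨Finite.of_injective f hf, (Nat.card_le_card_of_injective f hf).trans h2⟩

end AVAmpleLib

end
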