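import Mathlib.Analysis.Matrix.Order
import Mathlib.Analysis.Complex.Basic
import Mathlib.Algebra.Polynomial.Basis
import Mathlib.RingTheory.Localization.Integer
import Mathlib.FieldTheory.Separable
import Mathlib.Analysis.Complex.Polynomial.Basic

/-!
Similitudes of positive definite forms on integral polynomials modulo a polynomial.
-/

set_option autoImplicit false

noncomputable section

open Polynomial Matrix

namespace AVAmpleLib

/-- An integral symmetric matrix positive definite on integral vectors is positive definite over the reals. -/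
theorem posDef_map_of_int {d : ℕ} (M : Matrix (Fin d) (Fin d) ℤ) (hs : M.IsSymm)
    (hp : ∀ x : Fin d → ℤ, x ≠ 0 → 0 < x ⬝ᵥ M *ᵥ x) : (M.map (Int.castRingHom ℝ)).PosDef := by
  set R := M.map (Int.castRingHom ℝ)
  have hH : R.IsHermitian := by
    refine Matrix.IsHermitian.ext fun i j => ?_
    simp [R, hs.apply i j]
  have hcast : ∀ z : Fin d → ℤ, (fun i => (z i : ℝ)) ⬝ᵥ R *ᵥ (fun i => (z i : ℝ)) = ((z ⬝ᵥ M *ᵥ z : ℤ) : ℝ) :=
    fun z => by simp [R, dotProduct, mulVec]
  have hint : ∀ z : Fin d → ℤ, 0 ≤ (fun i => (z i : ℝ)) ⬝ᵥ R *ᵥ (fun i => (z i : ℝ)) := fun z => by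
    rw [hcast]
    rcases eq_or_ne z 0 with rfl | h
    · simp
    · exact_mod_cast (hp z h).le
  have hps : ∀ x : Fin d → ℝ, 0 ≤ x ⬝ᵥ R *ᵥ x := by
    intro x
    have hcl : IsClosed {y : Fin d → ℝ | 0 ≤ y ⬝ᵥ R *ᵥ y} :=
      isClosed_le continuous_const (by simp only [dotProduct, mulVec]; fun_prop)
    have hd : DenseRange fun (f : Fin d → ℚ) i => ((f i : ℚ) : ℝ) :=
      DenseRange.piMap fun _ => Rat.denseRange_cast
    refine hd.induction_on x hcl fun f => ?_
    obtain ⟨b, hb⟩ := IsLocalization.exist_integer_multiples_of_finite (nonZeroDivisors ℤ) f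
    choose z hz using hb
    have hb0 : ((b : ℤ) : ℝ) ≠ 0 := by exact_mod_cast nonZeroDivisors.coe_ne_zero b
    have hf : (fun i => (z i : ℝ)) = ((b : ℤ) : ℝ) • fun i => ((f i : ℚ) : ℝ) := by
      funext i
      have h := congrArg (fun t : ℚ => (t : ℝ)) (hz i)
      simpa [zsmul_eq_mul] using h
    have h := hint z
    rw [hf, mulVec_smul, smul_dotProduct, dotProduct_smul, smul_eq_mul, smul_eq_mul, ← mul_assoc] at h
    exact nonneg_of_mul_nonneg_right h (mul_self_pos.2 hb0)
  have hdet : R.det ≠ 0 := by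
    rw [show R = (Int.castRingHom ℝ).mapMatrix M from rfl, ← RingHom.map_det, eq_intCast]
    intro h
    obtain ⟨v, hv, hv0⟩ := Matrix.exists_mulVec_eq_zero_iff.2 (Int.cast_eq_zero.1 h)
    have := hp v hv
    rw [hv0, dotProduct_zero] at this
    exact lt_irrefl _ this
  refine Matrix.PosDef.of_dotProduct_mulVec_pos hH fun x hx => ?_
  refine lt_of_le_of_ne (by simpa using hps x) fun h0 => ?_
  have hP : R.PosSemidef := Matrix.PosSemidef.of_dotProduct_mulVec_nonneg hH fun y => by simpa using hps y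
  exact hx (Matrix.eq_zero_of_mulVec_eq_zero hdet ((hP.dotProduct_mulVec_zero_iff x).1 h0.symm))

section Main

variable (B : ℤ[X] →+ ℤ[X] →+ ℤ) {q : ℕ} {mu : ℤ[X]}

/-- The complex bilinear extension. -/
def extC : ℂ[X] →ₗ[ℂ] ℂ[X] →ₗ[ℂ] ℂ :=
  (Polynomial.basisMonomials ℂ).constr ℂ fun i => (Polynomial.basisMonomials ℂ).constr ℂ fun j => (B (X ^ i) (X ^ j) : ℂ)

theorem extC_pow (i j : ℕ) : extC B (X ^ i) (X ^ j) = (B (X ^ i) (X ^ j) : ℂ) := by
  have h : ∀ n : ℕ, (X ^ n : ℂ[X]) = Polynomial.basisMonomials ℂ n := fun n => by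
    rw [Polynomial.coe_basisMonomials, X_pow_eq_monomial]
  rw [h, h, extC, Module.Basis.constr_basis, Module.Basis.constr_basis]

theorem extC_map (f g : ℤ[X]) :
    extC B (f.map (Int.castRingHom ℂ)) (g.map (Int.castRingHom ℂ)) = (B f g : ℂ) := by
  induction f using Polynomial.induction_on' with
  | add f f' h h' => simp [map_add, LinearMap.add_apply, h, h']
  | monomial i a =>
    induction g using Polynomial.induction_on' with
    | add g g' h h' => simp only [Polynomial.map_add, map_add, Int.cast_add, h, h']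
    | monomial j b =>
      rw [← smul_X_eq_monomial, ← smul_X_eq_monomial]
      simp only [Polynomial.map_smul, Polynomial.map_pow, Polynomial.map_X, map_smul, LinearMap.smul_apply,
        extC_pow, map_zsmul, AddMonoidHom.smul_apply]
      simp

theorem extC_ext (T T' : ℂ[X] →ₗ[ℂ] ℂ[X] →ₗ[ℂ] ℂ) (h : ∀ i j : ℕ, T (X ^ i) (X ^ j) = T' (X ^ i) (X ^ j)) :
    T = T' :=
  (Polynomial.basisMonomials ℂ).ext fun i => (Polynomial.basisMonomials ℂ).ext fun j => by
    simpa [Polynomial.coe_basisMonomials, X_pow_eq_monomial] using h i j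

/-- Conjugation of coefficients. -/
abbrev cj (f : ℂ[X]) : ℂ[X] := f.map (starRingEnd ℂ)

variable (hsymm : ∀ f g, B f g = B g f) (hscale : ∀ f g, B (X * f) (X * g) = q * B f g)
  (hker : ∀ f g, B (mu * f) g = 0) (hpos : ∀ f : ℤ[X], f ≠ 0 → f.degree < mu.degree → 0 < B f f)

include hscale in
theorem extC_scale (f g : ℂ[X]) : extC B (X * f) (X * g) = q * extC B f g := by
  have h : (extC B).compl₁₂ (LinearMap.mulLeft ℂ X) (LinearMap.mulLeft ℂ X) = (q : ℂ) • extC B :=
    extC_ext _ _ fun i j => by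
      simp only [LinearMap.compl₁₂_apply, LinearMap.mulLeft_apply, LinearMap.smul_apply, smul_eq_mul, ← pow_succ',
        extC_pow]
      rw [pow_succ' X i, pow_succ' X j, hscale]
      push_cast
      rfl
  exact LinearMap.congr_fun (LinearMap.congr_fun h f) g

include hker in
theorem extC_ker (f g : ℂ[X]) : extC B (mu.map (Int.castRingHom ℂ) * f) g = 0 := by
  have h : (extC B).comp (LinearMap.mulLeft ℂ (mu.map (Int.castRingHom ℂ))) = 0 :=
    extC_ext _ _ fun i j => by
      have h := extC_map B (mu * X ^ i) (X ^ j)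
      simp only [Polynomial.map_mul, Polynomial.map_pow, Polynomial.map_X, hker, Int.cast_zero] at h
      simpa using h
  exact LinearMap.congr_fun (LinearMap.congr_fun h f) g

include hsymm in
theorem extC_symm (f g : ℂ[X]) : extC B f g = extC B g f := by
  have h : extC B = (extC B).flip := extC_ext _ _ fun i j => by
    rw [LinearMap.flip_apply, extC_pow, extC_pow, hsymm]
  exact LinearMap.congr_fun (LinearMap.congr_fun h f) g

include hpos in
theorem extC_pos_real (hm : mu.Monic) (u : Fin mu.natDegree → ℝ) (hu : u ≠ 0) :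
    0 < (extC B (∑ i, (u i : ℂ) • X ^ (i : ℕ)) (∑ i, (u i : ℂ) • X ^ (i : ℕ))).re ∧
    (extC B (∑ i, (u i : ℂ) • X ^ (i : ℕ)) (∑ i, (u i : ℂ) • X ^ (i : ℕ))).im = 0 := by
  let M : Matrix (Fin mu.natDegree) (Fin mu.natDegree) ℤ :=
    Matrix.of fun i j => B (X ^ (i : ℕ)) (X ^ (j : ℕ)) + B (X ^ (j : ℕ)) (X ^ (i : ℕ))
  have hM : (M.map (Int.castRingHom ℝ)).PosDef := by
    refine posDef_map_of_int M (Matrix.IsSymm.ext fun i j => by simp [M, add_comm]) fun x hx => ?_
    set f : ℤ[X] := ∑ i, x i • X ^ (i : ℕ)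
    have hco : ∀ i : Fin mu.natDegree, f.coeff i = x i := fun i => by
      simp [f, coeff_X_pow, Fin.val_inj]
    have hf0 : f ≠ 0 := fun h => hx (funext fun i => by rw [← hco i, h, coeff_zero, Pi.zero_apply])
    have hfd : f.degree < mu.degree := by
      rw [degree_eq_natDegree hm.ne_zero]
      refine lt_of_le_of_lt (degree_sum_le _ _) ((Finset.sup_lt_iff (WithBot.bot_lt_coe _)).2 fun i _ => ?_)
      exact lt_of_le_of_lt ((degree_smul_le _ _).trans (degree_X_pow_le _)) (by exact_mod_cast i.2)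
    have h2 : x ⬝ᵥ M *ᵥ x = B f f + B f f := by
      simp only [f, M, map_sum, AddMonoidHom.finsetSum_apply, map_zsmul, AddMonoidHom.smul_apply, dotProduct,
        mulVec, Matrix.of_apply, smul_eq_mul, mul_add, add_mul, Finset.sum_add_distrib, Finset.mul_sum]
      congr 1 <;> [rw [Finset.sum_comm]; skip] <;>
        exact Finset.sum_congr rfl fun i _ => Finset.sum_congr rfl fun j _ => by ring
    rw [h2]
    have := hpos f hf0 hfd
    omega
  have h := hM.dotProduct_mulVec_pos hu
  have e : 2 * extC B (∑ i, (u i : ℂ) • X ^ (i : ℕ)) (∑ i, (u i : ℂ) • X ^ (i : ℕ)) =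
      ((u ⬝ᵥ M.map (Int.castRingHom ℝ) *ᵥ u : ℝ) : ℂ) := by
    simp only [M, map_sum, LinearMap.sum_apply, map_smul, LinearMap.smul_apply, extC_pow, dotProduct, mulVec,
      Matrix.map_apply, Matrix.of_apply, smul_eq_mul, Finset.mul_sum, eq_intCast, Int.cast_add, Complex.ofReal_sum,
      Complex.ofReal_mul, Complex.ofReal_add, Complex.ofReal_intCast, two_mul, mul_add, add_mul, Finset.sum_add_distrib]
    congr 1 <;> [rw [Finset.sum_comm]; skip] <;>
      exact Finset.sum_congr rfl fun i _ => Finset.sum_congr rfl fun j _ => by ring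
  have hre := congrArg Complex.re e
  have him := congrArg Complex.im e
  simp only [Complex.mul_re, Complex.mul_im, Complex.re_ofNat, Complex.im_ofNat, Complex.ofReal_re,
    Complex.ofReal_im] at hre him
  rw [star_trivial] at h
  exact ⟨by linarith, by linarith⟩

include hsymm hpos in
theorem extC_cj_ne_zero (hm : mu.Monic) {f : ℂ[X]} (hf : f ≠ 0) (hd : f.degree < (mu.natDegree : WithBot ℕ)) :
    extC B (cj f) f ≠ 0 := by
  let u : Fin mu.natDegree → ℝ := fun i => (f.coeff i).re
  let w : Fin mu.natDegree → ℝ := fun i => (f.coeff i).im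
  let U : ℂ[X] := ∑ i, (u i : ℂ) • X ^ (i : ℕ)
  let W : ℂ[X] := ∑ i, (w i : ℂ) • X ^ (i : ℕ)
  have hfe : f = U + Complex.I • W := by
    refine Eq.trans ((sum_fin (fun e a => monomial e a) (fun _ => monomial_zero_right _) hd).trans
      (sum_monomial_eq f)).symm ?_
    simp only [U, W, Finset.smul_sum, ← Finset.sum_add_distrib, smul_smul, ← add_smul]
    refine Finset.sum_congr rfl fun i _ => ?_
    rw [← smul_X_eq_monomial]
    congr 1
    rw [mul_comm Complex.I]
    exact (Complex.re_add_im _).symm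
  have hcU : cj U = U := by
    refine Polynomial.ext fun n => ?_
    simp [cj, U, coeff_map, finsetSum_coeff, map_sum, coeff_X_pow, apply_ite (starRingEnd ℂ)]
  have hcW : cj W = W := by
    refine Polynomial.ext fun n => ?_
    simp [cj, W, coeff_map, finsetSum_coeff, map_sum, coeff_X_pow, apply_ite (starRingEnd ℂ)]
  have hc : cj f = U - Complex.I • W := by
    conv_lhs => rw [hfe]
    rw [cj, Polynomial.map_add, Polynomial.map_smul, Complex.conj_I, ← cj, ← cj, hcU, hcW, neg_smul, sub_eq_add_neg]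
  have key : extC B (cj f) f = extC B U U + extC B W W := by
    rw [hc, hfe]
    simp only [map_sub, map_add, map_smul, LinearMap.sub_apply, LinearMap.smul_apply, smul_eq_mul]
    rw [extC_symm B hsymm W U]
    linear_combination -(extC B W W) * Complex.I_mul_I
  have hnz : u ≠ 0 ∨ w ≠ 0 := by
    by_contra! h
    refine hf (hfe.trans ?_)
    simp [U, W, h.1, h.2]
  intro h0
  rw [key] at h0
  have h0' := congrArg Complex.re h0
  simp only [Complex.add_re, Complex.zero_re] at h0'
  have hnn : ∀ v : Fin mu.natDegree → ℝ,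
      0 ≤ (extC B (∑ i, (v i : ℂ) • X ^ (i : ℕ)) (∑ i, (v i : ℂ) • X ^ (i : ℕ))).re := fun v => by
    rcases eq_or_ne v 0 with rfl | hv
    · simp
    · exact (extC_pos_real B hpos hm v hv).1.le
  have hUn : 0 ≤ (extC B U U).re := hnn u
  have hWn : 0 ≤ (extC B W W).re := hnn w
  rcases hnz with h | h
  · have : 0 < (extC B U U).re := (extC_pos_real B hpos hm u h).1
    linarith
  · have : 0 < (extC B W W).re := (extC_pos_real B hpos hm w h).1
    linarith

include hsymm hscale hker hpos in
/-- All roots have absolute value `√q` and are simple. -/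
theorem roots_of_similitude (hq : 0 < q) (hm : mu.Monic) :
    (∀ ω ∈ (mu.map (Int.castRingHom ℂ)).roots, ‖ω‖ = Real.sqrt q) ∧
      (mu.map (Int.castRingHom ℂ)).roots.Nodup := by
  classical
  set M := mu.map (Int.castRingHom ℂ)
  have hMm : M.Monic := hm.map _
  have hMd : M.natDegree = mu.natDegree := hm.natDegree_map _
  have hlt : ∀ {h : ℂ[X]} {c : ℂ}, (X - C c) * h = M → h.degree < (mu.natDegree : WithBot ℕ) := by
    intro h c e
    have h0 : h ≠ 0 := by rintro rfl; rw [mul_zero] at e; exact hMm.ne_zero e.symm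
    rw [degree_eq_natDegree h0, Nat.cast_lt, ← hMd, ← e,
      natDegree_mul (X_sub_C_ne_zero c) h0, natDegree_X_sub_C]
    omega
  have key : ∀ {h : ℂ[X]} {c : ℂ}, (X - C c) * h = M → extC B (cj h) h ≠ 0 ∧
      ∀ g, extC B (cj (X * h)) g = starRingEnd ℂ c * extC B (cj h) g := by
    intro h c e
    have h0 : h ≠ 0 := by rintro rfl; rw [mul_zero] at e; exact hMm.ne_zero e.symm
    refine ⟨extC_cj_ne_zero B hsymm hpos hm h0 (hlt e), fun g => ?_⟩
    have hx : X * h = M * 1 + C c * h := by rw [mul_one, ← e]; ring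
    have hM : cj M = M := by
      rw [cj, Polynomial.map_map]; exact congrArg (fun r => mu.map r) (Subsingleton.elim _ _)
    rw [hx, cj, Polynomial.map_add, Polynomial.map_mul, Polynomial.map_mul, map_C, ← cj, hM, map_add,
      LinearMap.add_apply, extC_ker B hker, zero_add, ← smul_eq_C_mul, map_smul, LinearMap.smul_apply, smul_eq_mul]
  have habs : ∀ {h : ℂ[X]} {c : ℂ}, (X - C c) * h = M → starRingEnd ℂ c * c = (q : ℂ) := by
    intro h c e
    obtain ⟨hne, hk⟩ := key e
    have h1 := extC_scale B hscale (cj h) h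
    have h2 : extC B (cj h) (X * h) = c * extC B (cj h) h := by
      rw [show X * h = M * 1 + C c * h by rw [mul_one, ← e]; ring, map_add, extC_symm B hsymm (cj h) (M * 1),
        extC_ker B hker, zero_add, ← smul_eq_C_mul, map_smul, smul_eq_mul]
    rw [show X * cj h = cj (X * h) by simp [cj], hk, h2, ← mul_assoc] at h1
    exact mul_right_cancel₀ hne h1
  refine ⟨fun ω hω => ?_, ?_⟩
  · obtain ⟨h, e⟩ := dvd_iff_isRoot.2 (mem_roots'.1 hω).2
    have h1 := habs e.symm
    rw [← Complex.normSq_eq_conj_mul_self] at h1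
    rw [Complex.norm_def, show Complex.normSq ω = (q : ℝ) by exact_mod_cast h1]
  · rw [Multiset.nodup_iff_count_le_one]
    intro c
    by_contra hc
    rw [count_roots, not_le] at hc
    obtain ⟨h₂, e⟩ := (pow_dvd_pow _ hc).trans (pow_rootMultiplicity_dvd M c)
    set h := (X - C c) * h₂
    have e1 : (X - C c) * h = M := by rw [e]; simp only [h]; ring
    obtain ⟨hne, hk⟩ := key e1
    have hcc := habs e1
    apply hne
    have hs := extC_scale B hscale (cj h) h₂
    rw [show X * cj h = cj (X * h) by simp [cj], hk, ← hcc, mul_assoc] at hs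
    have hc0 : starRingEnd ℂ c ≠ 0 := by
      intro h0
      rw [h0, zero_mul] at hcc
      exact hq.ne' (by exact_mod_cast hcc.symm)
    have h3 : extC B (cj h) (X * h₂) = c * extC B (cj h) h₂ := mul_left_cancel₀ hc0 hs
    show extC B (cj h) ((X - C c) * h₂) = 0
    rw [sub_mul, map_sub, h3, ← smul_eq_C_mul, map_smul, smul_eq_mul, sub_self]

end Main

end AVAmpleLib

end
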