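import Groth.Agent.H0Lib.Group

/-!
# Rigidity on a product collapsing one slice
-/

set_option autoImplicit false

universe u

open CategoryTheory CategoryTheory.Limits AlgebraicGeometry MonoidalCategory CartesianMonoidalCategory TopologicalSpace

namespace AVAmpleLib

variable {S : Scheme.{u}} {X Y Z T : Over S}

theorem isPullback_whiskerLeft_left (t : T ⟶ Y) :
    IsPullback (X ◁ t).left (snd X T).left (snd X Y).left t.left := by
  have outer : IsPullback (fst X T).left (snd X T).left X.hom T.hom := IsPullback.of_hasPullback X.hom T.hom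
  have right : IsPullback (fst X Y).left (snd X Y).left X.hom Y.hom := IsPullback.of_hasPullback X.hom Y.hom
  refine IsPullback.of_right ?_ ?_ right
  · rw [← Over.comp_left, whiskerLeft_fst, Over.w t]
    exact outer
  · rw [← Over.comp_left, ← Over.comp_left, whiskerLeft_snd]

theorem mem_collapse_of_slice (f : X ⊗ Y ⟶ Z) (t : T ⟶ Y) (z : T ⟶ Z) (h : (X ◁ t) ≫ f = snd X T ≫ z)
    (τ : T.left) : t.left.base τ ∈ H0Lib.collapse (snd X Y).left f.left := by
  refine ⟨z.left.base τ, fun x hx => ?_⟩
  obtain ⟨w, hw1, hw2⟩ := Scheme.exists_preimage_of_isPullback (isPullback_whiskerLeft_left (X := X) t) x τ hx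
  rw [← hw1, ← hw2]
  exact congrArg (fun m : (X ⊗ T).left ⟶ Z.left => m.base w) (congrArg CommaMorphism.left h)

/-- A morphism out of `X ⊗ Y` (`X` proper, `Y` connected) contracting one slice factors through `Y`. -/
theorem existsUnique_snd_factor [IsProper X.hom] [Flat X.hom] [LocallyOfFinitePresentation X.hom]
    [GeometricallyConnected X.hom] [GeometricallyReduced X.hom] [IsSeparated Z.hom] [ConnectedSpace Y.left]
    (f : X ⊗ Y ⟶ Z) (t : T ⟶ Y) (z : T ⟶ Z) (h : (X ◁ t) ≫ f = snd X T ≫ z) [Nonempty T.left] :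
    ∃! g : Y ⟶ Z, f = snd X Y ≫ g := by
  let g : (X ⊗ Y).left ⟶ Y.left := (snd X Y).left
  haveI : IsProper g := inferInstanceAs (IsProper (pullback.snd X.hom Y.hom))
  haveI : Flat g := inferInstanceAs (Flat (pullback.snd X.hom Y.hom))
  haveI : LocallyOfFinitePresentation g := inferInstanceAs (LocallyOfFinitePresentation (pullback.snd X.hom Y.hom))
  haveI : GeometricallyConnected g := inferInstanceAs (GeometricallyConnected (pullback.snd X.hom Y.hom))
  haveI : GeometricallyReduced g := inferInstanceAs (GeometricallyReduced (pullback.snd X.hom Y.hom))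
  have hb := H0Lib.bijective_app_of_geometrically g
  have hf : f.left ≫ Z.hom = g ≫ Y.hom := (Over.w f).trans (Over.w (snd X Y)).symm
  have hcl := H0Lib.isClosed_collapse g f.left Y.hom Z.hom hf hb
  have hop := H0Lib.isOpen_collapse g f.left hb
  have hne : (H0Lib.collapse g f.left).Nonempty := ⟨_, mem_collapse_of_slice f t z h (Classical.arbitrary T.left)⟩
  have hu := IsClopen.eq_univ ⟨hcl, hop⟩ hne
  obtain ⟨k, hk⟩ := H0Lib.exists_factor_on g f.left hb ⊤ (fun x _ => by rw [hu]; trivial)
  have hk' : f.left = g ≫ (Scheme.topIso Y.left).inv ≫ k := by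
    haveI : IsIso (g ⁻¹ᵁ ⊤).ι := inferInstanceAs (IsIso (Scheme.topIso _).hom)
    have e : (⊤ : Y.left.Opens).ι ≫ (Scheme.topIso Y.left).inv = 𝟙 _ := (Scheme.topIso Y.left).hom_inv_id
    rw [← cancel_epi (g ⁻¹ᵁ ⊤).ι, hk, ← morphismRestrict_ι_assoc, reassoc_of% e]
  set k' := (Scheme.topIso Y.left).inv ≫ k with hk'def
  have hext : ∀ a b : Y.left ⟶ Z.left, g ≫ a = g ≫ b → a = b := H0Lib.hom_ext_of_bijective g hb
  have hw : k' ≫ Z.hom = Y.hom := by
    refine H0Lib.hom_ext_of_bijective g hb _ _ ?_
    rw [← Category.assoc, ← hk']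
    exact hf
  refine ⟨Over.homMk k' hw, ?_, ?_⟩
  · ext1
    exact hk'
  · intro g' hg'
    ext1
    exact hext _ _ ((congrArg CommaMorphism.left hg').symm.trans hk')

end AVAmpleLib
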