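import Groth.Agent.AVAmpleLib.TorsionStructure
import Groth.Agent.CubeConsLib.Hom
import Groth.Agent.CubeLib.Glue
import Groth.Agent.AmpleDevLib.Pull
import Groth.Agent.ProjFormLib.Proj
import Mathlib.LinearAlgebra.LinearIndependent.Lemmas
import Mathlib.LinearAlgebra.Dimension.Constructions
import Mathlib.AlgebraicGeometry.AlgClosed.Basic
import Mathlib.FieldTheory.IsAlgClosed.Basic
import Mathlib.RingTheory.Polynomial.Basic

/-!
Invertible modules killed by the pullback along a Galois étale covering are counted by characters of the group.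
-/

set_option autoImplicit false
set_option linter.style.haveILetI false
set_option backward.isDefEq.respectTransparency false
set_option maxHeartbeats 1000000

noncomputable section

universe u

open CategoryTheory CategoryTheory.Limits AlgebraicGeometry TopologicalSpace Opposite CubeConsLib
open AmpleLib (res GenOn)
open KFlatLib (pb puSec)
open AmpleThLib (Gens gens_cover)

namespace AVAmpleLib

theorem app_injective_of_flat {X Y : Scheme.{u}} (f : X ⟶ Y) [Flat f] [Surjective f] (D : Y.Opens) :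
    Function.Injective (f.app D) := by
  intro s t h
  refine TopCat.Presheaf.section_ext Y.sheaf D s t fun y hy => ?_
  obtain ⟨x, rfl⟩ := f.surjective y
  algebraize [(f.stalkMap x).hom]
  have : Module.FaithfullyFlat (Y.presheaf.stalk (f x)) (X.presheaf.stalk x) :=
    @Module.FaithfullyFlat.of_flat_of_isLocalHom _ _ _ _ _ _ _ (Flat.stalkMap f x) (f.toLRSHom.prop x)
  refine (‹RingHom.FaithfullyFlat _› : (f.stalkMap x).hom.FaithfullyFlat).injective ?_
  show f.stalkMap x (Y.presheaf.germ D (f x) hy s) = f.stalkMap x (Y.presheaf.germ D (f x) hy t)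
  rw [Scheme.Hom.germ_stalkMap_apply, Scheme.Hom.germ_stalkMap_apply, h]

/-- A global function with equal pullbacks to the kernel pair descends along an effective epimorphism. -/
theorem exists_descend_function {U V : Scheme.{u}} (q : U ⟶ V) [EffectiveEpi q] (u : Γ(U, ⊤))
    (h : (pullback.fst q q).appTop u = (pullback.snd q q).appTop u) : ∃ v : Γ(V, ⊤), q.appTop v = u := by
  let R : CommRingCat.{u} := CommRingCat.of (Polynomial (ULift.{u} ℤ))
  let ev : R ⟶ Γ(U, ⊤) := CommRingCat.ofHom (Polynomial.eval₂RingHom ((Int.castRingHom _).comp ULift.ringEquiv.toRingHom) u)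
  let g : U ⟶ Spec R := U.toSpecΓ ≫ Spec.map ev
  have hg : ∀ {Z : Scheme.{u}} (g₁ : Z ⟶ U), g₁ ≫ g = Z.toSpecΓ ≫ Spec.map (ev ≫ g₁.appTop) := fun g₁ => by
    rw [Spec.map_comp, ← Category.assoc, ← Category.assoc, Scheme.toSpecΓ_naturality]
  have hev : ev ≫ (pullback.fst q q).appTop = ev ≫ (pullback.snd q q).appTop := by
    refine CommRingCat.hom_ext (Polynomial.ringHom_ext (fun a => ?_) ?_)
    · obtain ⟨z⟩ := a
      show (pullback.fst q q).appTop (Polynomial.eval₂ _ u (Polynomial.C _)) =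
        (pullback.snd q q).appTop (Polynomial.eval₂ _ u (Polynomial.C _))
      rw [Polynomial.eval₂_C]
      simp
    · show (pullback.fst q q).appTop (Polynomial.eval₂ _ u Polynomial.X) =
        (pullback.snd q q).appTop (Polynomial.eval₂ _ u Polynomial.X)
      rw [Polynomial.eval₂_X, h]
  have hl : ∀ {Z : Scheme.{u}} (g₁ g₂ : Z ⟶ U), g₁ ≫ q = g₂ ≫ q → g₁ ≫ g = g₂ ≫ g := fun g₁ g₂ e => by
    rw [← pullback.lift_fst g₁ g₂ e, Category.assoc, hg, hev, ← hg, ← Category.assoc, pullback.lift_snd]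
  have h1 : q.appTop.hom.comp (EffectiveEpi.desc q g hl).appTop.hom = g.appTop.hom := by
    rw [← CommRingCat.hom_comp, ← Scheme.Hom.comp_appTop, EffectiveEpi.fac]
  have h2 : g.appTop.hom ((Scheme.ΓSpecIso R).inv Polynomial.X) = u := by
    show (U.toSpecΓ ≫ Spec.map ev).appTop ((Scheme.ΓSpecIso R).inv Polynomial.X) = u
    rw [Scheme.Hom.comp_appTop, CommRingCat.comp_apply, Scheme.toSpecΓ_appTop, ← CommRingCat.comp_apply,
      ← CommRingCat.comp_apply, ← Category.assoc, ← Scheme.ΓSpecIso_inv_naturality, Category.assoc, Iso.inv_hom_id,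
      Category.comp_id]
    exact Polynomial.eval₂_X _ _
  exact ⟨_, (RingHom.congr_fun h1 _).trans h2⟩

variable {X Y : Scheme.{u}} {K : Type u} [Field K] [IsAlgClosed K] (f : X ⟶ Y) (pY : Y ⟶ Spec (CommRingCat.of K))
  {G : Type u} [Group G] (τ : G → (X ⟶ X)) (hτf : ∀ a, τ a ≫ f = f)

include hτf in
theorem inv_le (a : G) (D : Y.Opens) : f ⁻¹ᵁ D ≤ τ a ⁻¹ᵁ (f ⁻¹ᵁ D) := by
  rw [← Scheme.Hom.comp_preimage, hτf]

/-- The action on the functions over an open set of the quotient. -/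
def act (a : G) (D : Y.Opens) : Γ(X, f ⁻¹ᵁ D) →+* Γ(X, f ⁻¹ᵁ D) :=
  ((τ a).appLE (f ⁻¹ᵁ D) (f ⁻¹ᵁ D) (inv_le f τ hτf a D)).hom

theorem act_res (a : G) {D D' : Y.Opens} (h : D' ≤ D) (u : Γ(X, f ⁻¹ᵁ D)) :
    act f τ hτf a D' (X.presheaf.map (homOfLE (f.preimage_mono h)).op u) =
      X.presheaf.map (homOfLE (f.preimage_mono h)).op (act f τ hτf a D u) := by
  show ((τ a).appLE _ _ _) (X.presheaf.map _ u) = X.presheaf.map _ ((τ a).appLE _ _ _ u)
  rw [← CommRingCat.comp_apply, ← CommRingCat.comp_apply, Scheme.Hom.map_appLE, Scheme.Hom.appLE_map]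

theorem act_app (a : G) (D : Y.Opens) (c : Γ(Y, D)) : act f τ hτf a D (f.app D c) = f.app D c := by
  have key : ∀ (g : X ⟶ Y) (e : g = f) (h : f ⁻¹ᵁ D ≤ g ⁻¹ᵁ D), g.appLE D (f ⁻¹ᵁ D) h = f.app D := by
    rintro g rfl h
    exact (Scheme.Hom.app_eq_appLE _).symm
  show (τ a).appLE _ _ _ (f.app D c) = _
  rw [← CommRingCat.comp_apply, Scheme.Hom.app_eq_appLE, Scheme.Hom.appLE_comp_appLE, key _ (hτf a)]
  rw [← Scheme.Hom.app_eq_appLE]

/-- A section over an open set restricted further down. -/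
def dn {D D' : Y.Opens} (h : D' ≤ D) : Γ(X, f ⁻¹ᵁ D) →+* Γ(X, f ⁻¹ᵁ D') :=
  (X.presheaf.map (homOfLE (f.preimage_mono h)).op).hom

theorem dn_dn {D₁ D₂ D₃ : Y.Opens} (h : D₂ ≤ D₁) (h' : D₃ ≤ D₂) (x : Γ(X, f ⁻¹ᵁ D₁)) :
    dn f h' (dn f h x) = dn f (h'.trans h) x := by
  show (X.presheaf.map _ ≫ X.presheaf.map _) x = _
  rw [← X.presheaf.map_comp]
  rfl

theorem dn_app {D D' : Y.Opens} (h : D' ≤ D) (c : Γ(Y, D)) :
    dn f h (f.app D c) = f.app D' (Y.presheaf.map (homOfLE h).op c) := by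
  show (f.app D ≫ X.presheaf.map _) c = (Y.presheaf.map _ ≫ f.app D') c
  rw [Scheme.Hom.naturality]
  rfl

theorem act_dn (a : G) {D D' : Y.Opens} (h : D' ≤ D) (u : Γ(X, f ⁻¹ᵁ D)) :
    act f τ hτf a D' (dn f h u) = dn f h (act f τ hτf a D u) := act_res f τ hτf a h u

theorem act_dn_app (a : G) {D D' : Y.Opens} (h : D' ≤ D) (c : Γ(Y, D)) :
    act f τ hτf a D' (dn f h (f.app D c)) = dn f h (f.app D c) := by
  rw [act_dn, act_app]

variable (hτ : ∀ a b, τ (a * b) = τ a ≫ τ b)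
  (htrans : ∀ x x' : Spec (CommRingCat.of K) ⟶ X, x ≫ f ≫ pY = 𝟙 _ → x' ≫ f ≫ pY = 𝟙 _ → x ≫ f = x' ≫ f → ∃ a, x' = x ≫ τ a)

section descent

variable [IsFinite f] [Etale f] [Surjective f] [Smooth pY]

include hτ htrans in
/-- Invariant functions descend. -/
theorem exists_app_eq (D : Y.Opens) (u : Γ(X, f ⁻¹ᵁ D)) (hu : ∀ a, act f τ hτf a D u = u) :
    ∃ v, f.app D v = u := by
  let U := f ⁻¹ᵁ D
  let q := f ∣_ D
  haveI : Surjective q := IsZariskiLocalAtTarget.restrict ‹Surjective f› D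
  haveI : Etale q := IsZariskiLocalAtTarget.restrict ‹Etale f› D
  haveI : IsFinite q := IsZariskiLocalAtTarget.restrict ‹IsFinite f› D
  haveI : EffectiveEpi q := inferInstance
  let u' : Γ(U.toScheme, ⊤) := U.topIso.inv u
  haveI : Etale (pullback.fst q q) := MorphismProperty.pullback_fst _ _ inferInstance
  haveI : Flat (pullback.fst q q) := inferInstance
  let Z := pullback q q
  let pz : Z ⟶ Spec (CommRingCat.of K) := pullback.fst q q ≫ U.ι ≫ f ≫ pY
  haveI : Smooth pz := inferInstance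
  haveI := AbSchLib.geometricallyReduced_of_smooth pz
  haveI : IsReduced Z := GeometricallyReduced.isReduced_of_flat_of_isLocallyNoetherian pz
  haveI : LocallyOfFiniteType pz := inferInstance
  haveI : JacobsonSpace Z := LocallyOfFiniteType.jacobsonSpace pz
  have heq : (pullback.fst q q).appTop u' = (pullback.snd q q).appTop u' := by
    rw [← sub_eq_zero]
    refine eq_zero_of_basicOpen_eq_bot _ ?_
    by_contra hne
    obtain ⟨z, hz, hzc⟩ := nonempty_inter_closedPoints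
      ((Opens.ne_bot_iff_nonempty _).1 hne)
      (Z.basicOpen ((pullback.fst q q).appTop u' - (pullback.snd q q).appTop u')).isOpen.isLocallyClosed
    let P := pointOfClosedPoint pz z hzc
    have hP : P ≫ pz = 𝟙 _ := pointOfClosedPoint_comp pz z hzc
    have hf : (P ≫ pullback.fst q q ≫ U.ι) ≫ f = (P ≫ pullback.snd q q ≫ U.ι) ≫ f := by
      simp only [Category.assoc, ← morphismRestrict_ι, pullback.condition_assoc, q, U]
    obtain ⟨a, ha⟩ := htrans (P ≫ pullback.fst q q ≫ U.ι) (P ≫ pullback.snd q q ≫ U.ι)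
      (by simpa [pz] using hP) (by
        rw [← Category.assoc, ← hf, Category.assoc]
        simpa [pz] using hP) hf
    have hτU : U ≤ τ a ⁻¹ᵁ U := inv_le f τ hτf a D
    have ha' : P ≫ pullback.snd q q = (P ≫ pullback.fst q q) ≫ (τ a).resLE U U hτU := by
      rw [← cancel_mono U.ι]
      simp only [Category.assoc, Scheme.Hom.resLE_comp_ι]
      rw [ha]
      simp only [Category.assoc]
    have hfix : ((τ a).resLE U U hτU).appTop u' = u' := by
      show (U.topIso.inv ≫ ((τ a).resLE U U hτU).appTop) u = U.topIso.inv u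
      rw [show U.topIso.inv ≫ ((τ a).resLE U U hτU).appTop = (τ a).appLE U U hτU ≫ U.topIso.inv by
        rw [Scheme.Hom.appTop, Scheme.Hom.resLE_app_top]; simp]
      exact congrArg U.topIso.inv (hu a)
    have h0 : P.appTop ((pullback.fst q q).appTop u' - (pullback.snd q q).appTop u') = 0 := by
      rw [map_sub, sub_eq_zero]
      show ((pullback.fst q q).appTop ≫ P.appTop) u' = ((pullback.snd q q).appTop ≫ P.appTop) u'
      rw [← Scheme.Hom.comp_appTop, ← Scheme.Hom.comp_appTop, ha', Scheme.Hom.comp_appTop]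
      exact (congrArg (fun t => (P ≫ pullback.fst q q).appTop t) hfix).symm
    have hmem : IsLocalRing.closedPoint K ∈ P ⁻¹ᵁ Z.basicOpen ((pullback.fst q q).appTop u' - (pullback.snd q q).appTop u') := by
      rw [Scheme.Hom.mem_preimage]
      rw [show P (IsLocalRing.closedPoint K) = z from pointOfClosedPoint_apply pz z hzc _]
      exact hz
    rw [Scheme.preimage_basicOpen_top, h0, Scheme.basicOpen_zero] at hmem
    exact hmem
  obtain ⟨v, hv⟩ := exists_descend_function q u' heq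
  refine ⟨D.topIso.hom v, ?_⟩
  have h2 : q.appTop ≫ U.topIso.hom = D.topIso.hom ≫ f.app D := by
    simp [q, U, morphismRestrict_appTop, Scheme.Hom.app_eq_appLE]
  exact (congrArg (fun m => m v) h2).symm.trans ((congrArg (fun t => U.topIso.hom t) hv).trans (Iso.inv_hom_id_apply U.topIso u))

end descent

section chars

/-- The characteristic equation of a trivialisation of the pullback. -/
def HasChar {M : Y.Modules} (s : Γ(pb f M, f ⁻¹ᵁ ⊤)) (a : G) (r : Γ(X, f ⁻¹ᵁ ⊤)) : Prop :=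
  ∀ (b : Gens M) (u : Γ(X, f ⁻¹ᵁ b.1)), u • puSec f b.2.1 = res (pb f M) (f.preimage_mono le_top) s →
    act f τ hτf a b.1 u = dn f le_top r * u

theorem exists_unit_coord {M : Y.Modules} {s : Γ(pb f M, f ⁻¹ᵁ ⊤)} (hs : GenOn (pb f M) s) (b : Gens M) :
    ∃ u : Γ(X, f ⁻¹ᵁ b.1), IsUnit u ∧ u • puSec f b.2.1 = res (pb f M) (f.preimage_mono le_top) s := by
  obtain ⟨u, hu⟩ := (AmpleDevLib.puSec_genOn f b.2.2 _ le_rfl).2 (res (pb f M) (f.preimage_mono le_top) s)
  simp only [AmpleLib.res_refl] at hu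
  refine ⟨u, ?_, hu⟩
  obtain ⟨w, hw⟩ := (hs _ (f.preimage_mono le_top)).2 (puSec f b.2.1)
  dsimp only at hw
  rw [← hu, smul_smul] at hw
  refine isUnit_iff_exists_inv'.2 ⟨w, (AmpleDevLib.puSec_genOn f b.2.2 _ le_rfl).1 ?_⟩
  simp only [AmpleLib.res_refl]
  rw [one_smul, hw]

theorem coord_compare {M : Y.Modules} {s : Γ(pb f M, f ⁻¹ᵁ ⊤)} {b b' : Gens M} {u : Γ(X, f ⁻¹ᵁ b.1)}
    {u' : Γ(X, f ⁻¹ᵁ b'.1)} (hu : u • puSec f b.2.1 = res (pb f M) (f.preimage_mono le_top) s)
    (hu' : u' • puSec f b'.2.1 = res (pb f M) (f.preimage_mono le_top) s) {D : Y.Opens} (hb : D ≤ b.1) (hb' : D ≤ b'.1) :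
    ∃ c : Γ(Y, D), c • res M hb b.2.1 = res M hb' b'.2.1 ∧ dn f hb u = dn f hb' u' * f.app D c := by
  obtain ⟨c, hc⟩ := (b.2.2 D hb).2 (res M hb' b'.2.1)
  refine ⟨c, hc, (AmpleDevLib.puSec_genOn f (b.2.2.res hb) _ le_rfl).1 ?_⟩
  simp only [AmpleLib.res_refl]
  have h1 : dn f hb u • puSec f (res M hb b.2.1) = res (pb f M) (f.preimage_mono le_top) s := by
    rw [ProjFormLib.puSec_res]
    exact (AmpleLib.res_smul _ _ _ _).symm.trans (by rw [hu, AmpleLib.res_res])
  have h2 : dn f hb' u' • puSec f (res M hb' b'.2.1) = res (pb f M) (f.preimage_mono le_top) s := by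
    rw [ProjFormLib.puSec_res]
    exact (AmpleLib.res_smul _ _ _ _).symm.trans (by rw [hu', AmpleLib.res_res])
  dsimp only at hc
  rw [h1, ← h2, mul_smul, ← KFlatLib.puSec_smul, hc]

/-- The sections glue to a global one, the character of the trivialisation. -/
theorem exists_hasChar {M : Y.Modules} (hM : PicF.IsInvertible M) {s : Γ(pb f M, f ⁻¹ᵁ ⊤)}
    (hs : GenOn (pb f M) s) (a : G) : ∃ r, HasChar f τ hτf s a r := by
  choose u hu hus using exists_unit_coord f hs
  let sf : ∀ b : Gens M, Γ(X, f ⁻¹ᵁ b.1) := fun b => act f τ hτf a b.1 (u b) * ↑(hu b).unit⁻¹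
  have hsf : ∀ b, sf b * u b = act f τ hτf a b.1 (u b) := fun b => by
    show act f τ hτf a b.1 (u b) * ↑(hu b).unit⁻¹ * u b = _
    rw [_root_.mul_assoc, IsUnit.val_inv_mul, _root_.mul_one]
  obtain ⟨r, hr, -⟩ := X.sheaf.existsUnique_gluing' (fun b : Gens M => f ⁻¹ᵁ b.1) (f ⁻¹ᵁ ⊤)
    (fun b => homOfLE (f.preimage_mono le_top))
    (fun x _ => Opens.mem_iSup.2 (gens_cover hM (f x))) sf (fun b b' => by
      show dn f (inf_le_left : b.1 ⊓ b'.1 ≤ b.1) (sf b) = dn f (inf_le_right : b.1 ⊓ b'.1 ≤ b'.1) (sf b')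
      obtain ⟨c, -, hc⟩ := coord_compare f (hus b) (hus b') (inf_le_left : b.1 ⊓ b'.1 ≤ b.1) inf_le_right
      refine ((hu b).map (dn f (inf_le_left : b.1 ⊓ b'.1 ≤ b.1))).mul_left_injective ?_
      show dn f _ (sf b) * dn f _ (u b) = dn f _ (sf b') * dn f _ (u b)
      rw [← map_mul, hsf, ← act_dn, hc, map_mul, act_app, act_dn, ← hsf b', map_mul, _root_.mul_assoc])
  refine ⟨r, fun b u' hu' => ?_⟩
  obtain rfl : u' = u b := (AmpleDevLib.puSec_genOn f b.2.2 _ le_rfl).1 (by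
    simp only [AmpleLib.res_refl]
    exact hu'.trans (hus b).symm)
  rw [show dn f le_top r = sf b from hr b, hsf]

variable {τ hτf}

theorem HasChar.unique {M : Y.Modules} (hM : PicF.IsInvertible M) {s : Γ(pb f M, f ⁻¹ᵁ ⊤)} (hs : GenOn (pb f M) s)
    {a : G} {r r' : Γ(X, f ⁻¹ᵁ ⊤)} (h : HasChar f τ hτf s a r) (h' : HasChar f τ hτf s a r') : r = r' := by
  choose u hu hus using exists_unit_coord f hs
  refine X.sheaf.eq_of_locally_eq' (fun b : Gens M => f ⁻¹ᵁ b.1) (f ⁻¹ᵁ ⊤)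
    (fun b => homOfLE (f.preimage_mono le_top)) (fun x _ => Opens.mem_iSup.2 (gens_cover hM (f x))) r r' fun b => ?_
  exact (hu b).mul_left_injective ((h b _ (hus b)).symm.trans (h' b _ (hus b)))

variable [Finite G]
  (hconst : ∀ r : Γ(X, f ⁻¹ᵁ ⊤), ∃ c : Γ(Y, ⊤), f.app ⊤ c = r)

include hτ hconst in
theorem HasChar.mul {M : Y.Modules} {s : Γ(pb f M, f ⁻¹ᵁ ⊤)}
    {a a' : G} {r r' : Γ(X, f ⁻¹ᵁ ⊤)} (h : HasChar f τ hτf s a r) (h' : HasChar f τ hτf s a' r') :
    HasChar f τ hτf s (a * a') (r * r') := by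
  intro b u hu
  have e : act f τ hτf (a * a') b.1 u = act f τ hτf a b.1 (act f τ hτf a' b.1 u) := by
    have key : ∀ (g : X ⟶ X) (eg : g = τ a ≫ τ a') (le : f ⁻¹ᵁ b.1 ≤ g ⁻¹ᵁ (f ⁻¹ᵁ b.1)),
        g.appLE _ _ le = (τ a').appLE _ _ (inv_le f τ hτf a' b.1) ≫ (τ a).appLE _ _ (inv_le f τ hτf a b.1) := by
      rintro g rfl le
      rw [Scheme.Hom.appLE_comp_appLE]
    show (τ (a * a')).appLE _ _ _ u = _
    rw [key _ (hτ a a')]
    rfl
  obtain ⟨c, rfl⟩ := hconst r'
  rw [e, h' b u hu, map_mul, act_dn_app, h b u hu, ← _root_.mul_assoc, ← map_mul, _root_.mul_comm (f.app ⊤ c)]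

variable [IsFinite f] [Etale f] [Surjective f] [Smooth pY]

include hτ htrans in
/-- The character determines the module. -/
theorem nonempty_iso_of_char {M M' : Y.Modules} (hM : PicF.IsInvertible M) (hM' : PicF.IsInvertible M')
    {s : Γ(pb f M, f ⁻¹ᵁ ⊤)} (hs : GenOn (pb f M) s) {s' : Γ(pb f M', f ⁻¹ᵁ ⊤)} (hs' : GenOn (pb f M') s')
    (r : G → Γ(X, f ⁻¹ᵁ ⊤)) (h : ∀ a, HasChar f τ hτf s a (r a)) (h' : ∀ a, HasChar f τ hτf s' a (r a)) :
    Nonempty (M ≅ M') := by
  choose u hu hus using exists_unit_coord f hs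
  choose u' hu' hus' using exists_unit_coord f hs'
  let D : Gens M × Gens M' → Y.Opens := fun b => b.1.1 ⊓ b.2.1
  have hl : ∀ b, D b ≤ b.1.1 := fun b => inf_le_left
  have hr : ∀ b, D b ≤ b.2.1 := fun b => inf_le_right
  choose w hw using fun b => show ∃ w : Γ(X, f ⁻¹ᵁ D b), w * dn f (hr b) (u' b.2) = dn f (hl b) (u b.1) from
    ⟨dn f (hl b) (u b.1) * ↑((hu' b.2).map (dn f (hr b))).unit⁻¹, by
      rw [_root_.mul_assoc, IsUnit.val_inv_mul, _root_.mul_one]⟩
  have hwu : ∀ b, IsUnit (w b) := fun b => isUnit_of_mul_isUnit_left ((hw b).symm ▸ (hu b.1).map (dn f (hl b)))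
  have hinv : ∀ b a, act f τ hτf a (D b) (w b) = w b := by
    intro b a
    have e := congrArg (act f τ hτf a (D b)) (hw b)
    rw [map_mul, act_dn, act_dn, h' a b.2 _ (hus' b.2), h a b.1 _ (hus b.1), map_mul, map_mul, dn_dn, dn_dn,
      ← hw b] at e
    have hru : IsUnit (dn f (le_top : D b ≤ ⊤) (r a)) := by
      have h1 : IsUnit (act f τ hτf a b.1.1 (u b.1)) := (hu b.1).map _
      rw [h a b.1 _ (hus b.1)] at h1
      have h2 := (isUnit_of_mul_isUnit_left h1).map (dn f (hl b))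
      rwa [dn_dn] at h2
    refine (hru.mul ((hu' b.2).map (dn f (hr b)))).mul_left_injective ?_
    show act f τ hτf a (D b) (w b) * _ = w b * _
    linear_combination e
  choose v hv using fun b => exists_app_eq f pY τ hτf hτ htrans (D b) (w b) (hinv b)
  have hvu : ∀ b, IsUnit (v b) := fun b => by
    obtain ⟨z, hz⟩ := isUnit_iff_exists_inv.1 (hwu b)
    have hzi : ∀ a, act f τ hτf a (D b) z = z := fun a => by
      refine (hwu b).mul_right_injective ?_
      show w b * act f τ hτf a (D b) z = w b * z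
      nth_rewrite 1 [← hinv b a]
      rw [← map_mul, hz, map_one]
    obtain ⟨v', hv'⟩ := exists_app_eq f pY τ hτf hτ htrans (D b) z hzi
    exact isUnit_iff_exists_inv.2 ⟨v', app_injective_of_flat f _ (by rw [map_mul, hv, hv', hz, map_one])⟩
  refine ⟨(AmpleThLib.exists_iso_gens D (fun b => v b • res M (hl b) b.1.2.1) (fun b => res M' (hr b) b.2.2.1)
    (fun y => ?_) (fun b => CubeLib.genOn_unit_smul (b.1.2.2.res _) (hvu b)) (fun b => b.2.2.2.res _) ?_).choose⟩
  · obtain ⟨b₁, h₁⟩ := gens_cover hM y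
    obtain ⟨b₂, h₂⟩ := gens_cover hM' y
    exact ⟨(b₁, b₂), h₁, h₂⟩
  intro b c V hb hc
  obtain ⟨k, hk, hku⟩ := coord_compare f (hus' b.2) (hus' c.2) (hb.trans (hr b)) (hc.trans (hr c))
  obtain ⟨l, hl', hlu⟩ := coord_compare f (hus b.1) (hus c.1) (hb.trans (hl b)) (hc.trans (hl c))
  refine ⟨k, ?_, by rw [AmpleLib.res_res, AmpleLib.res_res, hk]⟩
  rw [AmpleLib.res_smul, AmpleLib.res_smul, AmpleLib.res_res, AmpleLib.res_res, smul_smul, ← hl', smul_smul]
  refine congrArg (· • _) (app_injective_of_flat f V ?_)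
  rw [map_mul, map_mul, ← dn_app f hb, ← dn_app f hc, hv, hv]
  have eb := congrArg (dn f hb) (hw b)
  have ec := congrArg (dn f hc) (hw c)
  rw [map_mul, dn_dn, dn_dn] at eb ec
  rw [hlu, hku] at eb
  refine ((hu' c.2).map (dn f (hc.trans (hr c)))).mul_left_injective ?_
  show f.app V k * dn f hb (w b) * dn f _ (u' c.2) = dn f hc (w c) * f.app V l * dn f _ (u' c.2)
  linear_combination eb - f.app V l * ec

include hτf hτ htrans hconst in
/-- The classes killed by the pullback are at most as many as the group. -/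
theorem card_pullA_ker_le [IsDomain Γ(X, f ⁻¹ᵁ ⊤)] (hτ1 : τ 1 = 𝟙 X) :
    Finite {c : PicA Y // pullA f c = 0 ∧ ∃ (M : Y.Modules) (hM : PicF.IsInvertible M), clA hM = c} ∧
      Nat.card {c : PicA Y // pullA f c = 0 ∧ ∃ (M : Y.Modules) (hM : PicF.IsInvertible M), clA hM = c} ≤
        Nat.card G := by
  classical
  let P := {c : PicA Y // pullA f c = 0 ∧ ∃ (M : Y.Modules) (hM : PicF.IsInvertible M), clA hM = c}
  choose M hM hcM using fun c : P => c.2.2
  have htriv : ∀ c, Nonempty (pb f (M c) ≅ Coh.structureModule X) := fun c => by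
    refine (clA_eq_iff (AmpleDevLib.isInvertible_pb f (hM c)) (isInvertible_one X)).1 ?_
    rw [← pullA_clA f (hM c), clA_one, hcM]
    exact c.2.1
  choose s hs using fun c => CubeLib.exists_genOn_top (htriv c)
  choose r hr using fun c a => exists_hasChar f τ hτf (hM c) (s := s c) (hs c) a
  let χ : P → (G →* Γ(X, f ⁻¹ᵁ ⊤)) := fun c =>
    { toFun := r c
      map_one' := by
        refine HasChar.unique f (hM c) (hs c) (hr c 1) fun b u _ => ?_
        rw [map_one, _root_.one_mul]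
        have key : ∀ (g : X ⟶ X) (eg : g = 𝟙 X) (le : f ⁻¹ᵁ b.1 ≤ g ⁻¹ᵁ (f ⁻¹ᵁ b.1)), g.appLE _ _ le u = u := by
          rintro g rfl le
          simp [Scheme.Hom.appLE]
          exact congrArg (fun g => g u) (X.presheaf.map_id _)
        exact key _ hτ1 (inv_le f τ hτf 1 b.1)
      map_mul' := fun a a' => HasChar.unique f (hM c) (hs c) (hr c (a * a')) ((hr c a).mul f hτ hconst (hr c a')) }
  have hχ : Function.Injective χ := fun c c' h => by
    refine Subtype.ext ?_
    rw [← hcM c, ← hcM c', clA_eq_iff]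
    refine nonempty_iso_of_char f pY hτ htrans (hM c) (hM c') (hs c) (hs c') (r c) (hr c) fun a => ?_
    rw [show r c a = r c' a from congrArg (fun z : G →* _ => z a) h]
    exact hr c' a
  letI := Fintype.ofFinite G
  have hli := linearIndependent_monoidHom G Γ(X, f ⁻¹ᵁ ⊤)
  haveI hf : Finite (G →* Γ(X, f ⁻¹ᵁ ⊤)) := hli.finite
  haveI : Finite P := Finite.of_injective χ hχ
  refine ⟨inferInstance, (Nat.card_le_card_of_injective χ hχ).trans ?_⟩
  letI := Fintype.ofFinite (G →* Γ(X, f ⁻¹ᵁ ⊤))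
  rw [Nat.card_eq_fintype_card, Nat.card_eq_fintype_card]
  exact hli.fintype_card_le_finrank.trans_eq (Module.finrank_pi _)

end chars

end AVAmpleLib

end
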