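import Groth.Agent.AVAmpleLib.NonDegen
import Groth.Agent.DevissLib.ClosedImm

/-!
Stabilisers of closed subsets of abelian varieties.
-/

set_option autoImplicit false
set_option maxRecDepth 8000
set_option maxHeartbeats 1000000
set_option linter.style.haveILetI false
set_option linter.unusedSectionVars false

noncomputable section

universe u

open CategoryTheory MonoidalCategory CartesianMonoidalCategory MonObj AlgebraicGeometry TopologicalSpace

namespace AVAmpleLib

variable {K : Type u} [Field K] [IsAlgClosed K] {A : Over (Spec (CommRingCat.of K))} [GrpObj A]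
  [IsProper A.hom]

theorem tR_left_comp (a b : 𝟙_ (Over (Spec (CommRingCat.of K))) ⟶ A) (x : A.left) :
    (tR b).left ((tR a).left x) = (tR (a * b)).left x := by
  rw [← tR_comp, Over.comp_left, Scheme.Hom.comp_apply]

/-- the homeomorphism of a translation -/
def trH (a : 𝟙_ (Over (Spec (CommRingCat.of K))) ⟶ A) : A.left ≃ₜ A.left where
  toFun := (tR a).left
  invFun := (tR a⁻¹).left
  left_inv x := by rw [tR_left_comp, mul_inv_cancel, tR_one]; rfl
  right_inv x := by rw [tR_left_comp, inv_mul_cancel, tR_one]; rfl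
  continuous_toFun := (tR a).left.continuous
  continuous_invFun := (tR a⁻¹).left.continuous

/-- Finitely many translations fix every component ⇒ finitely many preserve the set. -/
theorem finite_preserving {D : Set A.left} [NoetherianSpace D]
    (hb : Set.Finite {a : 𝟙_ (Over (Spec (CommRingCat.of K))) ⟶ A | ∀ Z ∈ irreducibleComponents D,
      (fun x : A.left => (tR a).left x) '' (Subtype.val '' Z) = Subtype.val '' Z}) :
    Set.Finite {a : 𝟙_ (Over (Spec (CommRingCat.of K))) ⟶ A | ⇑(tR a).left ⁻¹' D = D} := by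
  haveI : Finite (irreducibleComponents D) := (NoetherianSpace.finite_irreducibleComponents (α := D)).to_subtype
  have hperm : ∀ a : 𝟙_ (Over (Spec (CommRingCat.of K))) ⟶ A, ⇑(tR a).left ⁻¹' D = D →
      ∀ Z ∈ irreducibleComponents D, ∃ Z' ∈ irreducibleComponents D,
        (fun x : A.left => (tR a).left x) '' (Subtype.val '' Z) = Subtype.val '' Z' := by
    intro a ha Z hZ
    let h : D ≃ₜ D := (trH a).subtype fun x => (Set.ext_iff.1 ha x).symm
    refine ⟨⇑h.symm ⁻¹' Z, preimage_mem_irreducibleComponents hZ h.symm.isOpenEmbedding ?_, ?_⟩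
    · rw [h.symm.surjective.range_eq, Set.inter_univ]
      exact hZ.1.1
    · rw [← h.image_eq_preimage_symm, Set.image_image, Set.image_image]
      rfl
  choose π hπ hπ' using hperm
  let F : {a : 𝟙_ (Over (Spec (CommRingCat.of K))) ⟶ A | ⇑(tR a).left ⁻¹' D = D} →
      (irreducibleComponents D → irreducibleComponents D) := fun a Z => ⟨π a.1 a.2 Z.1 Z.2, hπ _ _ _ _⟩
  suffices Finite {a : 𝟙_ (Over (Spec (CommRingCat.of K))) ⟶ A | ⇑(tR a).left ⁻¹' D = D} from Set.toFinite _
  suffices ∀ φ, Finite {a // F a = φ} from Finite.of_equiv _ (Equiv.sigmaFiberEquiv F)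
  intro φ
  rcases isEmpty_or_nonempty {a // F a = φ} with h | ⟨⟨b, hb'⟩⟩
  · infer_instance
  · haveI := hb.to_subtype
    refine Finite.of_injective (fun a => (⟨a.1.1 * b.1⁻¹, fun Z hZ => ?_⟩ :
      {a : 𝟙_ (Over (Spec (CommRingCat.of K))) ⟶ A | ∀ Z ∈ irreducibleComponents D,
        (fun x : A.left => (tR a).left x) '' (Subtype.val '' Z) = Subtype.val '' Z})) fun a a' h =>
      Subtype.ext (Subtype.ext (mul_right_cancel (congrArg Subtype.val h)))
    have e : π a.1.1 a.1.2 Z hZ = π b.1 b.2 Z hZ :=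
      congrArg Subtype.val (congrFun ((a.2 : F a.1 = φ).trans (hb' : F b = φ).symm) ⟨Z, hZ⟩)
    have h1 := hπ' a.1.1 a.1.2 Z hZ
    rw [e, ← hπ' b.1 b.2 Z hZ] at h1
    have h2 := congrArg (Set.image fun x : A.left => (tR b.1⁻¹).left x) h1
    simp only [Set.image_image, tR_left_comp, mul_inv_cancel, tR_one, Over.id_left] at h2 ⊢
    exact h2.trans rfl

variable [GeometricallyIntegral A.hom]

/-- Only finitely many points preserve a closed set with affine complement around the unit. -/
theorem finite_preserving_compl {U : A.left.Opens} (hU : IsAffineOpen U)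
    (he : pt (1 : 𝟙_ (Over (Spec (CommRingCat.of K))) ⟶ A) ∈ U) :
    Set.Finite {a : 𝟙_ (Over (Spec (CommRingCat.of K))) ⟶ A | ⇑(tR a).left ⁻¹' (U : Set A.left) = U} := by
  haveI : JacobsonSpace A.left := LocallyOfFiniteType.jacobsonSpace A.hom
  let Z : Set A.left := ⋂ (d : 𝟙_ (Over (Spec (CommRingCat.of K))) ⟶ A) (_ : pt d ∉ U),
    (⇑(tL d).left ⁻¹' (U : Set A.left)ᶜ ∩ ⇑((𝟙 A)⁻¹ ≫ tL d : A ⟶ A).left ⁻¹' (U : Set A.left)ᶜ)
  have hZc : IsClosed Z := isClosed_iInter fun d => isClosed_iInter fun _ =>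
    (U.2.isClosed_compl.preimage (tL d).left.continuous).inter
      (U.2.isClosed_compl.preimage ((𝟙 A)⁻¹ ≫ tL d : A ⟶ A).left.continuous)
  have hmem : ∀ a, pt a ∈ Z ↔ ∀ d : 𝟙_ (Over (Spec (CommRingCat.of K))) ⟶ A, pt d ∉ U →
      pt (d * a) ∉ U ∧ pt (d * a⁻¹) ∉ U := by
    intro a
    simp only [Z, Set.mem_iInter, Set.mem_inter_iff, Set.mem_preimage, Set.mem_compl_iff, SetLike.mem_coe]
    refine forall₂_congr fun d _ => ?_
    rw [← pt_comp, ← pt_comp, ← Category.assoc, GrpObj.comp_inv, Category.comp_id, point_tL, point_tL]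
  have hZU : Z ⊆ U := by
    intro w hw
    obtain ⟨x, hx, hxc⟩ := nonempty_inter_closedPoints (Z := closure ({w} : Set A.left)) ⟨w, subset_closure rfl⟩
      isClosed_closure.isLocallyClosed
    have hsp : w ⤳ x := specializes_iff_mem_closure.2 hx
    obtain ⟨a, rfl⟩ := exists_pt_eq x hxc
    refine hsp.mem_open U.2 ?_
    by_contra hne
    have := ((hmem a).1 (hsp.mem_closed hZc hw) a hne).2
    rw [mul_inv_cancel] at this
    exact this he
  have hfin : Z.Finite := by
    let C : Closeds A.left := ⟨Z, hZc⟩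
    let D := Scheme.IdealSheafData.vanishingIdeal C
    have hr : Set.range D.subschemeι = Z := by
      rw [Scheme.IdealSheafData.range_subschemeι, Scheme.IdealSheafData.coe_support_vanishingIdeal]; rfl
    have htop : D.subschemeι ⁻¹ᵁ U = ⊤ := eq_top_iff.2 fun z _ => hZU (hr.le ⟨z, rfl⟩)
    haveI : IsAffine D.subscheme := by
      have := hU.preimage D.subschemeι
      rw [htop] at this
      haveI : IsAffine (⊤ : D.subscheme.Opens).toScheme := this
      exact IsAffine.of_isIso D.subscheme.topIso.inv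
    haveI : IsFinite (D.subschemeι ≫ A.hom) :=
      IsFinite.iff_isProper_and_isAffineHom.2 ⟨inferInstance, inferInstance⟩
    have h1 := (D.subschemeι ≫ A.hom).finite_preimage_singleton (IsLocalRing.closedPoint K)
    rw [← hr, ← Set.image_univ]
    exact (h1.subset fun z _ => Subsingleton.elim (α := PrimeSpectrum K) _ _).image _
  refine Set.Finite.of_finite_image (hfin.subset ?_) pt_injective.injOn
  rintro _ ⟨a, ha, rfl⟩
  have key : ∀ d : 𝟙_ (Over (Spec (CommRingCat.of K))) ⟶ A, (pt (d * a) ∈ U ↔ pt d ∈ U) := fun d => by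
    rw [← point_tR, pt_comp]
    exact Set.ext_iff.1 ha (pt d)
  refine (hmem a).2 fun d hd => ⟨fun h => hd ((key d).1 h), fun h => hd ?_⟩
  have := (key (d * a⁻¹)).2 h
  rwa [inv_mul_cancel_right] at this

end AVAmpleLib
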