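import Groth.Agent.AVAmpleLib.Dense
import Groth.Agent.AVAmpleLib.Tate
import Groth.Agent.AVAmpleLib.NonDegen
import Groth.Agent.GrpHomLib.Artin
import Mathlib.AlgebraicGeometry.AlgClosed.Basic

/-!
Homomorphisms of abelian varieties and Tate modules.
-/

set_option autoImplicit false
set_option linter.style.haveILetI false
set_option backward.isDefEq.respectTransparency false
set_option maxHeartbeats 1000000

noncomputable section

universe u

open CategoryTheory CategoryTheory.Limits MonoidalCategory CartesianMonoidalCategory MonObj AlgebraicGeometry TopologicalSpace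
open Groth.Agent

namespace AVAmpleLib

variable {k : Type u} [Field k] [IsAlgClosed k] {A B : Over (Spec (CommRingCat.of k))}

/-- An irreducible sober space of dimension zero is a point. -/
theorem subsingleton_of_dim_zero {X : Scheme.{u}} [IrreducibleSpace X]
    (h : topologicalKrullDim X = ((0 : ℕ) : WithBot ℕ∞)) : Subsingleton X := by
  have h0 := Order.krullDim_nonpos_iff_forall_isMax.1 (h.trans_le (le_of_eq Nat.cast_zero))
  suffices ∀ x : X, x = genericPoint X from ⟨fun x y => (this x).trans (this y).symm⟩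
  intro x
  let T : IrreducibleCloseds X := ⟨Set.univ, IrreducibleSpace.isIrreducible_univ X, isClosed_univ⟩
  let Z : IrreducibleCloseds X := ⟨closure {x}, isIrreducible_singleton.closure, isClosed_closure⟩
  have h1 : T ≤ Z := h0 Z (Set.subset_univ _ : (Z : Set X) ⊆ T)
  exact IsGenericPoint.eq (show IsGenericPoint x Set.univ from Set.eq_univ_of_univ_subset h1) (genericPoint_spec X)

/-- Morphisms from a reduced scheme to a separated one agreeing on a dense set of rational points are equal. -/
theorem hom_ext_of_dense [GrpObj A] [IsReduced A.left] [LocallyOfFiniteType A.hom] [LocallyOfFiniteType B.hom]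
    [IsSeparated B.hom] (f g : A ⟶ B)
    (S : Set (𝟙_ (Over (Spec (CommRingCat.of k))) ⟶ A)) (hS : Dense (pt '' S)) (h : ∀ a ∈ S, a ≫ f = a ≫ g) :
    f = g := by
  refine Over.OverMorphism.ext (ext_of_fromSpecResidueField_eq f.left g.left B.hom _ hS ?_ (by rw [Over.w, Over.w]))
  rintro _ ⟨a, ha, rfl⟩
  have hcl : IsClosed ({pt a} : Set A.left) := by
    rw [← range_pt a]
    haveI : IsClosedImmersion a.left := by
      haveI : IsSeparated A.hom := GrpField.isSeparated_grp
      exact isClosedImmersion_of_comp_eq_id A.hom a.left (Over.w a)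
    exact a.left.isClosedEmbedding.isClosed_range
  have e : a.left = pointOfClosedPoint A.hom (pt a) hcl :=
    ext_of_apply_closedPoint_eq A.hom (Over.w a) (pointOfClosedPoint_comp _ _ _) (by simp [pt])
  have h2 := congrArg CommaMorphism.left (h a ha)
  change a.left ≫ f.left = a.left ≫ g.left at h2
  rw [e, pointOfClosedPoint, Category.assoc, Category.assoc, cancel_epi] at h2
  exact h2

variable [GrpObj A] [GrpObj B]

theorem pt_one : pt (1 : 𝟙_ (Over (Spec (CommRingCat.of k))) ⟶ B) = GrpField.unitPt B := by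
  rw [Hom.one_def, toUnit_unique (toUnit _) (𝟙 _), Category.id_comp]
  rfl

variable [IsProper A.hom] [GeometricallyIntegral A.hom] [IsProper B.hom] [GeometricallyIntegral B.hom]
  (α : A ⟶ B)

omit [GeometricallyIntegral A.hom] [GeometricallyIntegral B.hom] [GrpObj A] [IsProper A.hom] in
theorem pt_mem_ker_iff (a : 𝟙_ (Over (Spec (CommRingCat.of k))) ⟶ A) :
    pt a ∈ α.left ⁻¹' {GrpField.unitPt B} ↔ a ≫ α = 1 := by
  rw [← pt_one, Set.mem_preimage, Set.mem_singleton_iff]
  exact ⟨fun h => pt_injective h, fun h => congrArg pt h⟩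

variable [IsCommMonObj A] [IsCommMonObj B] [IsMonHom α] (l : ℕ) [Fact l.Prime]

theorem eq_one_of_kills_torsion (hl : (l : k) ≠ 0) (h : ∀ a ∈ torsPow A l, a ≫ α = 1) : α = 1 := by
  haveI : IsIntegral A.left := GeometricallyIntegral.isIntegral_of_subsingleton A.hom
  refine hom_ext_of_dense α 1 (torsPow A l) (dense_iff_closure_eq.mpr (dense_torsPow l hl)) fun a ha => ?_
  rw [h a ha, MonObj.comp_one]

theorem eq_one_of_tateMap (hl : (l : k) ≠ 0)
    (h : ∀ x : Tate A l, AbDual.tateMap (l := l) α x = 0) : α = 1 := by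
  refine eq_one_of_kills_torsion α l hl fun a ⟨m, ha⟩ => ?_
  obtain ⟨x, hx⟩ := exists_component_eq A l m a ha
  have h2 := congrArg (fun y : Tate B l => ((y : ℕ → Additive (𝟙_ (Over (Spec (CommRingCat.of k))) ⟶ B)) m).toMul) (h x)
  change ((x : ℕ → Pts A) m).toMul ≫ α = 1 at h2
  rwa [hx] at h2

theorem isClosed_ker : IsClosed (α.left ⁻¹' {GrpField.unitPt B}) := by
  refine IsClosed.preimage α.left.continuous ?_
  rw [← pt_one, ← range_pt]
  haveI : IsClosedImmersion (1 : 𝟙_ (Over (Spec (CommRingCat.of k))) ⟶ B).left :=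
    isClosedImmersion_of_comp_eq_id B.hom _ (Over.w _)
  exact (1 : 𝟙_ (Over (Spec (CommRingCat.of k))) ⟶ B).left.isClosedEmbedding.isClosed_range

theorem isProper_hom : IsProper α.left := by
  haveI : IsProper (α.left ≫ B.hom) := by rw [Over.w]; infer_instance
  exact IsProper.of_comp α.left B.hom

/-- A homomorphism is finite iff its kernel is a finite set. -/
theorem isFinite_iff_finite_ker : IsFinite α.left ↔ (α.left ⁻¹' {GrpField.unitPt B}).Finite := by
  refine ⟨fun h => α.left.finite_preimage_singleton _, fun hf => ?_⟩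
  haveI := isProper_hom α
  rw [GrpHom.isFinite_iff_discrete_ker α]
  let e : Spec (CommRingCat.of k) ⟶ B.left := (η[B] : 𝟙_ (Over (Spec (CommRingCat.of k))) ⟶ B).left
  haveI : IsClosedImmersion e := isClosedImmersion_of_comp_eq_id B.hom e (Over.w _)
  haveI : IsClosedImmersion (pullback.fst α.left e) := MorphismProperty.pullback_fst _ _ inferInstance
  have hr : Set.range (pullback.fst α.left e) ⊆ α.left ⁻¹' {GrpField.unitPt B} := by
    rw [Scheme.Pullback.range_fst]
    refine Set.preimage_mono ?_
    rintro _ ⟨q, rfl⟩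
    exact congrArg e (Subsingleton.elim (α := PrimeSpectrum k) _ _)
  haveI := hf.to_subtype
  haveI : Finite ↥(pullback α.left e) :=
    Finite.of_injective (fun z => (⟨pullback.fst α.left e z, hr ⟨z, rfl⟩⟩ : ↥(α.left ⁻¹' {GrpField.unitPt B})))
      fun _ _ h => (pullback.fst α.left e).isClosedEmbedding.injective (congrArg Subtype.val h)
  haveI : LocallyOfFiniteType (pullback.snd α.left e) := inferInstance
  haveI : JacobsonSpace ↥(pullback α.left e) := LocallyOfFiniteType.jacobsonSpace (pullback.snd α.left e)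
  exact inferInstanceAs (DiscreteTopology ↥(pullback α.left e))

/-- A finite homomorphism is injective on Tate modules. -/
theorem tateMap_injective_of_isFinite (hf : IsFinite α.left) :
    Function.Injective (AbDual.tateMap (l := l) (T := 𝟙_ (Over (Spec (CommRingCat.of k)))) α) := by
  rw [injective_iff_map_eq_zero]
  intro x hx
  have hker : ∀ n, ((x : ℕ → Pts A) n).toMul ∈ {a | a ≫ α = 1} := fun n =>
    congrArg (fun y : Tate B l => ((y : ℕ → Additive (𝟙_ (Over (Spec (CommRingCat.of k))) ⟶ B)) n).toMul) hx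
  have hfin : Finite (Set.range fun n => (x : ℕ → Pts A) n) := by
    refine (Set.Finite.subset (s := Additive.ofMul '' {a | a ≫ α = 1}) ?_ ?_).to_subtype
    · refine Set.Finite.image _ ?_
      refine Set.Finite.of_finite_image (f := pt) (((isFinite_iff_finite_ker α).1 hf).subset ?_) pt_injective.injOn
      rintro _ ⟨a, ha, rfl⟩
      exact (pt_mem_ker_iff α a).2 ha
    · rintro _ ⟨n, rfl⟩
      exact ⟨_, hker n, rfl⟩
  choose ν hν using fun y : Set.range (fun n => (x : ℕ → Pts A) n) => y.2
  obtain ⟨s, hs⟩ := (Set.finite_range ν).bddAbove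
  refine AbDual.TateMod.ext fun m => ?_
  let y : Set.range (fun n => (x : ℕ → Pts A) n) := ⟨_, m + s, rfl⟩
  have hy : (l ^ s) • (x : ℕ → Pts A) (m + s) = 0 := by
    have h1 : (l ^ ν y) • (x : ℕ → Pts A) (ν y) = 0 := x.torsion (ν y)
    rw [show (x : ℕ → Pts A) (ν y) = (x : ℕ → Pts A) (m + s) from hν y] at h1
    obtain ⟨d, hd⟩ := Nat.exists_eq_add_of_le (hs ⟨y, rfl⟩)
    generalize (x : ℕ → Pts A) (m + s) = w at h1 ⊢
    rw [hd, pow_add, mul_nsmul, h1, smul_zero]
  have hc : ∀ j, (l ^ j) • (x : ℕ → Pts A) (m + j) = (x : ℕ → Pts A) m := fun j => by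
    induction j with
    | zero => rw [pow_zero, one_nsmul, add_zero]
    | succ j ih => rw [pow_succ, mul_comm, mul_nsmul', ← ih]; rw [← smul_comm (l ^ j) l, ← add_assoc, x.compat]
  show (x : ℕ → Pts A) m = 0
  rw [← hc s, hy]

/-- A homomorphism injective on Tate modules is finite. -/
theorem isFinite_of_tateMap_injective (hl : (l : k) ≠ 0)
    (h : Function.Injective (AbDual.tateMap (l := l) (T := 𝟙_ (Over (Spec (CommRingCat.of k)))) α)) :
    IsFinite α.left := by
  rw [isFinite_iff_finite_ker]
  haveI : IsProper α.left := isProper_hom α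
  obtain ⟨C, _, i, hi, hcl, hred, hlft, hr⟩ := exists_reduced_subgroup {a | pt a ∈ α.left ⁻¹' {GrpField.unitPt B}}
    (by rw [Set.mem_ofPred_eq, pt_mem_ker_iff, MonObj.one_comp])
    (fun a ha b hb => by
      rw [Set.mem_ofPred_eq, pt_mem_ker_iff] at ha hb ⊢
      rw [MonObj.mul_comp, ha, hb, _root_.one_mul])
    (fun a ha => by
      rw [Set.mem_ofPred_eq, pt_mem_ker_iff] at ha ⊢
      rw [GrpObj.inv_comp, ha, inv_one])
  rw [closure_pt_eq (isClosed_ker α)] at hr
  haveI : IsProper C.hom := by rw [← Over.w i]; infer_instance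
  obtain ⟨C0, _, j, hj, hjcl, _, _, _, hjr⟩ := exists_identity_component C
  haveI : IsIntegral C0.left := GeometricallyIntegral.isIntegral_of_subsingleton C0.hom
  obtain ⟨b, hb⟩ := exists_dim C0
  haveI : Mono (j ≫ i) := by
    haveI := Over.mono_of_mono_left i
    haveI := Over.mono_of_mono_left j
    infer_instance
  rcases Nat.eq_zero_or_pos b with rfl | hb0
  · -- the identity component is a point
    have hZ : GrpField.Z0 C = {GrpField.unitPt C} := by
      refine Set.eq_singleton_iff_unique_mem.2 ⟨GrpField.unitPt_mem_Z0 C, fun x hx => ?_⟩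
      rw [← hjr] at hx
      obtain ⟨y, rfl⟩ := hx
      obtain ⟨y', hy'⟩ := hjr.ge (GrpField.unitPt_mem_Z0 C)
      rw [← hy']
      haveI : Subsingleton C0.left := subsingleton_of_dim_zero hb
      rw [Subsingleton.elim y y']
    haveI : IsLocallyNoetherian C.left := LocallyOfFiniteType.isLocallyNoetherian C.hom
    haveI : CompactSpace C.left := QuasiCompact.compactSpace_of_compactSpace C.hom
    haveI : IsNoetherian C.left := {}
    rw [← hr, ← Set.image_univ]
    refine Set.Finite.image _ ?_
    have : ∀ W ∈ irreducibleComponents C.left, W.Subsingleton := by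
      intro W hW
      haveI : JacobsonSpace C.left := LocallyOfFiniteType.jacobsonSpace C.hom
      obtain ⟨x, hxW, hx⟩ := nonempty_inter_closedPoints hW.1.nonempty
        (isClosed_of_mem_irreducibleComponents W hW).isLocallyClosed
      obtain ⟨c, rfl⟩ := exists_pt_eq x hx
      intro y hy z hz
      have key : ∀ w ∈ W, (tL c⁻¹).left w = GrpField.unitPt C := fun w hw => by
        have h1 : (tL c⁻¹).left w ∈ connectedComponent ((tL c⁻¹).left (pt c)) :=
          (hW.1.isConnected.image _ (tL c⁻¹).left.continuous.continuousOn).isPreconnected.subset_connectedComponent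
            ⟨_, hxW, rfl⟩ ⟨w, hw, rfl⟩
        rw [← pt_comp, point_tL, inv_mul_cancel, pt_one, GrpField.connectedComponent_unit, hZ] at h1
        exact h1
      have hinj : Function.Injective (tL c⁻¹).left :=
        (Scheme.homeoOfIso ((Over.forget _).mapIso (asIso (tL c⁻¹)))).injective
      exact hinj ((key y hy).trans (key z hz).symm)
    refine ((NoetherianSpace.finite_irreducibleComponents (α := C.left)).biUnion
      fun W hW => (this W hW).finite).subset fun x _ => ?_
    exact Set.mem_biUnion (irreducibleComponent_mem_irreducibleComponents x) mem_irreducibleComponent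
  · exfalso
    obtain ⟨a, ha, hne⟩ : ∃ a, a ∈ tors C0 l ∧ a ≠ 1 := by
      haveI := finite_tors C0 (Fact.out : l.Prime).pos
      haveI : Nontrivial (tors C0 l) := by
        rw [← Finite.one_lt_card_iff_nontrivial, natCard_tors C0 hb l hl]
        exact Nat.one_lt_pow (by omega) (Fact.out : l.Prime).one_lt
      obtain ⟨⟨a, ha⟩, hne⟩ := exists_ne (1 : tors C0 l)
      exact ⟨a, ha, fun e => hne (Subtype.ext e)⟩
    obtain ⟨x, hx⟩ := exists_component_eq C0 l 1 a (by rw [pow_one]; exact ha)
    have h0 : AbDual.tateMap (l := l) (j ≫ i) x = 0 := h (by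
      refine AbDual.TateMod.ext fun n => congrArg Additive.ofMul ?_
      show (((x : ℕ → Pts C0) n).toMul ≫ j ≫ i) ≫ α = (1 : 𝟙_ (Over (Spec (CommRingCat.of k))) ⟶ A) ≫ α
      rw [MonObj.one_comp]
      rw [← pt_mem_ker_iff]
      exact hr.le ⟨_, rfl⟩)
    have h2 := congrArg (fun y : Tate A l => ((y : ℕ → Pts A) 1).toMul) h0
    change ((x : ℕ → Pts C0) 1).toMul ≫ j ≫ i = 1 at h2
    rw [hx] at h2
    exact hne ((cancel_mono (j ≫ i)).1 (h2.trans (MonObj.one_comp (j ≫ i)).symm))

end AVAmpleLib

end
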