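import Mathlib

/-!
The truncated polynomial algebra `k[t]/(t_i ^ p)` in characteristic `p`.
-/

set_option autoImplicit false
set_option linter.style.haveILetI false

noncomputable section

universe u v

open MvPolynomial

namespace AVAmpleLib.Trunc

variable (σ : Type v) (k : Type u) [Field k] (p : ℕ)

/-- the ideal of `p`-th powers of the variables -/
def pw : Ideal (MvPolynomial σ k) :=
  Ideal.span ((fun s => monomial s (1 : k)) '' Set.range fun i : σ => Finsupp.single i p)

/-- the truncated polynomial algebra -/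
abbrev TA : Type max u v := MvPolynomial σ k ⧸ pw σ k p

theorem mem_pw {P : MvPolynomial σ k} : P ∈ pw σ k p ↔ ∀ s ∈ P.support, ∃ i, p ≤ s i := by
  classical
  rw [pw, mem_ideal_span_monomial_image]
  simp only [Set.exists_range_iff]
  refine forall₂_congr fun s _ => exists_congr fun i => ⟨fun h => by simpa using h i, fun h j => ?_⟩
  by_cases e : i = j
  · subst e; simpa using h
  · simp [Finsupp.single_eq_of_ne, Ne.symm e]

/-- the variables -/
def x (i : σ) : TA σ k p := Ideal.Quotient.mk _ (X i)

theorem x_pow (i : σ) : x σ k p i ^ p = 0 := by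
  rw [x, ← map_pow, Ideal.Quotient.eq_zero_iff_mem, pw, X_pow_eq_monomial]
  exact Ideal.subset_span ⟨_, ⟨i, rfl⟩, rfl⟩

theorem eq_zero_of_reduced {P : MvPolynomial σ k} (h : ∀ s ∈ P.support, ∀ i, s i < p)
    (hP : P ∈ pw σ k p) : P = 0 := by
  rw [← support_eq_empty, Finset.eq_empty_iff_forall_notMem]
  intro s hs
  obtain ⟨i, hi⟩ := (mem_pw σ k p).1 hP s hs
  exact absurd (h s hs i) (not_lt.2 hi)

theorem exists_reduced (z : TA σ k p) : ∃ P : MvPolynomial σ k,
    (∀ s ∈ P.support, ∀ i, s i < p) ∧ Ideal.Quotient.mk (pw σ k p) P = z := by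
  classical
  obtain ⟨P, rfl⟩ := Ideal.Quotient.mk_surjective z
  induction P using MvPolynomial.induction_on' with
  | monomial s a =>
    by_cases h : ∀ i, s i < p
    · refine ⟨monomial s a, fun t ht i => ?_, rfl⟩
      obtain rfl := Finset.mem_singleton.1 (support_monomial_subset ht)
      exact h i
    · push Not at h
      obtain ⟨i, hi⟩ := h
      refine ⟨0, by simp, ?_⟩
      rw [map_zero, eq_comm, Ideal.Quotient.eq_zero_iff_mem, mem_pw]
      exact fun t ht => ⟨i, (Finset.mem_singleton.1 (support_monomial_subset ht)) ▸ hi⟩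
  | add P Q hP hQ =>
    obtain ⟨P', hP', eP⟩ := hP
    obtain ⟨Q', hQ', eQ⟩ := hQ
    refine ⟨P' + Q', fun s hs => ?_, by rw [map_add, eP, eQ, map_add]⟩
    rcases Finset.mem_union.1 (support_add hs) with h | h
    exacts [hP' s h, hQ' s h]

theorem le_finrank [Fintype σ] [Module.Finite k (TA σ k p)] :
    p ^ Fintype.card σ ≤ Module.finrank k (TA σ k p) := by
  classical
  let e : (σ → Fin p) → TA σ k p := fun f =>
    Ideal.Quotient.mk _ (monomial (Finsupp.equivFunOnFinite.symm fun i => (f i : ℕ)) 1)
  have h : LinearIndependent k e := by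
    rw [Fintype.linearIndependent_iff]
    intro c hc f
    let P : MvPolynomial σ k := ∑ f, monomial (Finsupp.equivFunOnFinite.symm fun i => (f i : ℕ)) (c f)
    have hP : P = 0 := by
      refine eq_zero_of_reduced σ k p (fun s hs i => ?_) (Ideal.Quotient.eq_zero_iff_mem.1 ?_)
      · obtain ⟨g, -, hg⟩ := Finset.mem_biUnion.1 (support_sum hs)
        obtain rfl := Finset.mem_singleton.1 (support_monomial_subset hg)
        simpa using (g i).2
      · rw [← hc, map_sum]
        refine Finset.sum_congr rfl fun f _ => ?_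
        show _ = c f • e f
        rw [show c f • e f = Ideal.Quotient.mk _ (c f • monomial _ 1) from rfl, smul_monomial, smul_eq_mul, mul_one]
    have := congrArg (coeff (Finsupp.equivFunOnFinite.symm fun i => (f i : ℕ))) hP
    rw [coeff_sum, coeff_zero, Finset.sum_eq_single f] at this
    · simpa using this
    · intro g _ hg
      rw [coeff_monomial, if_neg]
      exact fun he => hg (funext fun i => Fin.ext (congrFun (Finsupp.equivFunOnFinite.symm.injective he) i))
    · simp
  simpa using h.fintype_card_le_finrank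

/-- the augmentation -/
def aug (hp : p ≠ 0) : TA σ k p →ₐ[k] k :=
  Ideal.Quotient.liftₐ _ (aeval fun _ => (0 : k)) fun P hP => by
    change P ∈ RingHom.ker _
    refine (Ideal.span_le.2 ?_) hP
    rintro _ ⟨_, ⟨i, rfl⟩, rfl⟩
    simp [← X_pow_eq_monomial, hp]

/-- the augmentation ideal -/
def J : Ideal (TA σ k p) := Ideal.span (Set.range (x σ k p))

variable {σ k p}

theorem sub_aug_mem (hp : p ≠ 0) (z : TA σ k p) : z - algebraMap k _ (aug σ k p hp z) ∈ J σ k p := by
  obtain ⟨P, rfl⟩ := Ideal.Quotient.mk_surjective z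
  have haug : aug σ k p hp (Ideal.Quotient.mk _ P) = aeval (fun _ => (0 : k)) P := rfl
  rw [haug]
  induction P using MvPolynomial.induction_on with
  | C a => rw [aeval_C, Algebra.algebraMap_self, RingHom.id_apply]; erw [sub_self]; exact zero_mem _
  | add P Q hP hQ =>
    rw [map_add, map_add, map_add, add_sub_add_comm]
    exact add_mem (hP rfl) (hQ rfl)
  | mul_X P i hP =>
    rw [map_mul, map_mul, aeval_X, mul_zero, map_zero, sub_zero]
    exact Ideal.mul_mem_left _ _ (Ideal.subset_span ⟨i, rfl⟩)

theorem isNilpotent_J [Finite σ] : IsNilpotent (J σ k p) := by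
  have h : J σ k p ≤ nilradical (TA σ k p) := Ideal.span_le.2 (Set.range_subset_iff.2 fun i => ⟨p, x_pow σ k p i⟩)
  obtain ⟨n, hn⟩ := IsNoetherianRing.isNilpotent_nilradical (TA σ k p)
  exact ⟨n, le_antisymm ((Ideal.pow_right_mono h n).trans hn.le) bot_le⟩

theorem finite [Finite σ] (hp : p ≠ 0) : Module.Finite k (TA σ k p) := by
  haveI : Algebra.IsIntegral k (TA σ k p) := by
    refine ⟨fun z => ?_⟩
    obtain ⟨n, hn⟩ := isNilpotent_J (σ := σ) (k := k) (p := p)
    have h0 : (z - algebraMap k _ (aug σ k p hp z)) ^ n = 0 := by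
      have := Ideal.pow_mem_pow (sub_aug_mem hp z) n
      rw [hn] at this
      simpa using this
    exact ⟨(Polynomial.X - Polynomial.C (aug σ k p hp z)) ^ n,
      (Polynomial.monic_X_sub_C _).pow n, by simp [h0]⟩
  exact Algebra.IsIntegral.finite

theorem mul_mem_pow {R : Type*} [CommRing R] (I : Ideal R) {a b : R} {m n : ℕ} (ha : a ∈ I ^ m) (hb : b ∈ I ^ n) :
    a * b ∈ I ^ (m + n) := (pow_add I m n).symm ▸ Ideal.mul_mem_mul ha hb

/-- An algebra map hitting the variables up to second order is surjective. -/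
theorem surjective_of_mod_sq [Finite σ] (hp : p ≠ 0) {B : Type*} [CommRing B] [Algebra k B]
    (ψ : B →ₐ[k] TA σ k p) (h : ∀ i, ∃ b, x σ k p i - ψ b ∈ J σ k p ^ 2) : Function.Surjective ψ := by
  set J' := J σ k p
  have h1 : ∀ a ∈ J', ∃ b, a - ψ b ∈ J' ^ 2 := by
    intro a ha
    induction ha using Submodule.span_induction with
    | mem a ha => obtain ⟨i, rfl⟩ := ha; exact h i
    | zero => exact ⟨0, by simp⟩
    | add a a' _ _ ha ha' =>
      obtain ⟨b, hb⟩ := ha
      obtain ⟨b', hb'⟩ := ha'
      exact ⟨b + b', by rw [map_add, add_sub_add_comm]; exact add_mem hb hb'⟩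
    | smul c a hm ha =>
      obtain ⟨b, hb⟩ := ha
      refine ⟨algebraMap k B (aug σ k p hp c) * b, ?_⟩
      rw [map_mul, AlgHom.commutes, smul_eq_mul, show c * a - algebraMap k _ (aug σ k p hp c) * ψ b =
        (c - algebraMap k _ (aug σ k p hp c)) * a + algebraMap k _ (aug σ k p hp c) * (a - ψ b) by ring]
      refine add_mem ?_ (Ideal.mul_mem_left _ _ hb)
      rw [pow_two]
      exact Ideal.mul_mem_mul (sub_aug_mem hp c) hm
  have hn : ∀ n, ∀ a ∈ J' ^ n, ∃ b, a - ψ b ∈ J' ^ (n + 1) := by
    intro n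
    induction n with
    | zero => exact fun a _ => ⟨algebraMap k B (aug σ k p hp a), by rw [AlgHom.commutes]; simpa [pow_succ, Submodule.pow_one] using sub_aug_mem hp a⟩
    | succ n ih =>
      intro a ha
      rw [pow_succ'] at ha
      refine Submodule.mul_induction_on ha ?_ ?_
      · intro a ha c hc
        obtain ⟨a', ha'⟩ := h1 a ha
        obtain ⟨c', hc'⟩ := ih c hc
        refine ⟨a' * c', ?_⟩
        rw [map_mul, show a * c - ψ a' * ψ c' = (a - ψ a') * c + ψ a' * (c - ψ c') by ring]
        have hψ : ψ a' ∈ J' := by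
          have := sub_mem ha (Ideal.pow_le_self two_ne_zero ha')
          simpa using this
        refine add_mem ?_ ?_
        · have := mul_mem_pow J' ha' hc
          rwa [show 2 + n = n + 1 + 1 by ring] at this
        · have := mul_mem_pow J' (m := 1) (by simpa [Submodule.pow_one] using hψ) hc'
          rwa [show 1 + (n + 1) = n + 1 + 1 by ring] at this
      · intro a a' ha ha'
        obtain ⟨b, hb⟩ := ha
        obtain ⟨b', hb'⟩ := ha'
        exact ⟨b + b', by rw [map_add, add_sub_add_comm]; exact add_mem hb hb'⟩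
  intro a
  obtain ⟨N, hN⟩ := isNilpotent_J (σ := σ) (k := k) (p := p)
  have : ∀ n, ∃ b, a - ψ b ∈ J' ^ n := by
    intro n
    induction n with
    | zero => exact ⟨0, by simp⟩
    | succ n ih =>
      obtain ⟨b, hb⟩ := ih
      obtain ⟨c, hc⟩ := hn n _ hb
      exact ⟨b + c, by rw [map_add, ← sub_sub]; exact hc⟩
  obtain ⟨b, hb⟩ := this N
  rw [hN] at hb
  exact ⟨b, (sub_eq_zero.1 (by simpa using hb)).symm⟩

section Taylor

variable [CharP k p] [Fact p.Prime]

/-- the first order Taylor map in the direction of the variable `i` -/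
def taylor (i : σ) : TA σ k p →ₐ[k] DualNumber (TA σ k p) := by
  classical
  exact Ideal.Quotient.liftₐ _
    (aeval fun j => TrivSqZeroExt.inl (x σ k p j) + if j = i then DualNumber.eps else 0) fun P hP => by
    change P ∈ RingHom.ker _
    refine (Ideal.span_le.2 ?_) hP
    rintro _ ⟨_, ⟨j, rfl⟩, rfl⟩
    have hp : (p : TA σ k p) = 0 := by
      rw [← map_natCast (algebraMap k (TA σ k p)), CharP.cast_eq_zero, map_zero]
    show aeval _ (monomial _ (1 : k)) = 0
    rw [← X_pow_eq_monomial, map_pow, aeval_X]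
    split_ifs
    · ext <;> simp [TrivSqZeroExt.fst_pow, TrivSqZeroExt.snd_pow, hp, x_pow]
    · rw [add_zero]
      ext <;> simp [TrivSqZeroExt.fst_pow, TrivSqZeroExt.snd_pow, x_pow]

theorem fst_taylor (i : σ) (z : TA σ k p) : (taylor i z).fst = z := by
  obtain ⟨P, rfl⟩ := Ideal.Quotient.mk_surjective z
  show ((TrivSqZeroExt.fstHom k _ _).comp ((taylor i).comp (Ideal.Quotient.mkₐ k _))) P = Ideal.Quotient.mkₐ k _ P
  congr 1
  refine MvPolynomial.algHom_ext fun j => ?_
  simp only [AlgHom.coe_comp, Function.comp_apply, taylor, Ideal.Quotient.mkₐ_eq_mk, Ideal.Quotient.liftₐ_apply]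
  simp only [Ideal.Quotient.lift_mk, RingHom.coe_coe, aeval_X, TrivSqZeroExt.fstHom_apply]
  split_ifs <;> simp [x]

theorem snd_taylor (i : σ) (P : MvPolynomial σ k) :
    (taylor i (Ideal.Quotient.mk (pw σ k p) P)).snd = Ideal.Quotient.mk _ (pderiv i P) := by
  classical
  induction P using MvPolynomial.induction_on with
  | C a =>
    rw [pderiv_C, map_zero, show Ideal.Quotient.mk (pw σ k p) (C a) = algebraMap k _ a from rfl, AlgHom.commutes]
    rfl
  | add P Q hP hQ => rw [map_add, map_add, TrivSqZeroExt.snd_add, hP, hQ, map_add, map_add]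
  | mul_X P j hP =>
    have hX : taylor i (Ideal.Quotient.mk (pw σ k p) (X j)) =
        TrivSqZeroExt.inl (x σ k p j) + if j = i then DualNumber.eps else 0 := by
      simp [taylor, Ideal.Quotient.liftₐ_apply, Ideal.Quotient.lift_mk]
    rw [map_mul, map_mul, DualNumber.snd_mul, hP, fst_taylor, hX, Derivation.leibniz, smul_eq_mul, smul_eq_mul,
      map_add, map_mul, map_mul]
    by_cases hji : j = i
    · subst hji; simp [x]; ring
    · simp [x, hji, pderiv_X_of_ne (Ne.symm hji)]; ring

/-- Elements killed by all partial derivatives are constants. -/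
theorem eq_const_of_taylor (z : TA σ k p) (h : ∀ i, (taylor i z).snd = 0) :
    z = algebraMap k _ (aug σ k p (Fact.out : p.Prime).ne_zero z) := by
  classical
  obtain ⟨P, hP, rfl⟩ := exists_reduced σ k p z
  have h0 : ∀ s ∈ P.support, s = 0 := by
    intro s hs
    ext i
    by_contra hsi
    have hd : pderiv i P = 0 := by
      refine eq_zero_of_reduced σ k p (fun t ht j => ?_) (Ideal.Quotient.eq_zero_iff_mem.1 ((snd_taylor i P).symm.trans (h i)))
      rw [mem_support_iff, coeff_pderiv] at ht
      have := hP _ (mem_support_iff.2 (left_ne_zero_of_mul ht)) j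
      rw [Finsupp.add_apply] at this
      omega
    have hle : Finsupp.single i 1 ≤ s := Finsupp.single_le_iff.2 (Nat.one_le_iff_ne_zero.2 (by simpa using hsi))
    have := congrArg (coeff (s - Finsupp.single i 1)) hd
    rw [coeff_pderiv, coeff_zero, tsub_add_cancel_of_le hle, Finsupp.tsub_apply, Finsupp.single_eq_same,
      mul_eq_zero, or_iff_right (mem_support_iff.1 hs), ← Nat.cast_add_one,
      Nat.sub_add_cancel (Nat.one_le_iff_ne_zero.2 (by simpa using hsi)), CharP.cast_eq_zero_iff k p] at this
    exact absurd (Nat.le_of_dvd (Nat.pos_of_ne_zero (by simpa using hsi)) this) (not_le.2 (hP s hs i))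
  have hC : P = C (coeff 0 P) := by
    ext s
    rw [coeff_C]
    split_ifs with hs
    · rw [← hs]
    · exact notMem_support_iff.1 fun hm => hs (h0 s hm).symm
  rw [hC]
  show algebraMap k (TA σ k p) _ = algebraMap k (TA σ k p) (aug σ k p _ (algebraMap k (TA σ k p) _))
  rw [AlgHom.commutes]
  rfl

end Taylor

end AVAmpleLib.Trunc

end
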