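import Groth.Agent.AVAmpleLib.TruncAlg

/-!
A smooth local algebra of dimension at least `g` surjects onto the truncated polynomial algebra.
-/

set_option autoImplicit false
set_option linter.style.haveILetI false

noncomputable section

universe u

open MvPolynomial IsLocalRing

namespace AVAmpleLib.Trunc

variable {k : Type u} [Field k] {L : Type u} [CommRing L] [IsLocalRing L] [IsNoetherianRing L] [Algebra k L]

theorem isNilpotent_sq {σ : Type} [Finite σ] {p : ℕ} : IsNilpotent (J σ k p ^ 2) := by
  obtain ⟨n, hn⟩ := isNilpotent_J (σ := σ) (k := k) (p := p)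
  exact ⟨n, le_antisymm ((Ideal.pow_right_mono (Ideal.pow_le_self two_ne_zero) n).trans hn.le) bot_le⟩

theorem exists_surjective [Algebra.FormallySmooth k L] (c : L →ₐ[k] k) {g : ℕ}
    (hg : (g : WithBot ℕ∞) ≤ ringKrullDim L) {p : ℕ} (hp : 2 ≤ p) :
    ∃ ψ : L →ₐ[k] TA (Fin g) k p, Function.Surjective ψ ∧ ∀ a, aug (Fin g) k p (by omega) (ψ a) = c a := by
  classical
  have hp0 : p ≠ 0 := by omega
  have hcs : Function.Surjective c.toRingHom := fun x => ⟨algebraMap k L x, c.commutes x⟩
  have hm : RingHom.ker c.toRingHom = maximalIdeal L := eq_maximalIdeal (RingHom.ker_isMaximal_of_surjective _ hcs)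
  let c' : ResidueField L →+* k := Ideal.Quotient.lift (maximalIdeal L) c.toRingHom fun a ha => (hm.ge ha :)
  let n := Module.finrank (ResidueField L) (CotangentSpace L)
  have hn : g ≤ n := by
    have := hg.trans (ringKrullDim_le_spanFinrank_maximalIdeal L)
    rw [spanFinrank_maximalIdeal_eq_finrank_cotangentSpace] at this
    exact_mod_cast this
  let b := Module.finBasis (ResidueField L) (CotangentSpace L)
  have hmem : ∀ a : L, a - algebraMap k L (c a) ∈ maximalIdeal L := fun a => by
    rw [← hm, RingHom.mem_ker]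
    simp
  let cls : L → CotangentSpace L := fun a => (maximalIdeal L).toCotangent ⟨_, hmem a⟩
  let δ : L → Fin g → k := fun a i => c' (b.repr (cls a) (Fin.castLE hn i))
  have cls_add : ∀ a a', cls (a + a') = cls a + cls a' := fun a a' => by
    rw [← map_add]
    exact congrArg _ (Subtype.ext (show a + a' - algebraMap k L (c (a + a')) =
      (a - algebraMap k L (c a)) + (a' - algebraMap k L (c a')) by rw [map_add, map_add]; ring))
  have cls_const : ∀ x : k, cls (algebraMap k L x) = 0 := fun x => by
    show (maximalIdeal L).toCotangent _ = 0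
    rw [show (⟨_, hmem (algebraMap k L x)⟩ : maximalIdeal L) = 0 from Subtype.ext (by simp)]
    exact map_zero _
  have hc' : ∀ x : k, c' (residue L (algebraMap k L x)) = x := fun x => c.commutes x
  have δ_add : ∀ a a' i, δ (a + a') i = δ a i + δ a' i := fun a a' i => by simp [δ, cls_add]
  have δ_const : ∀ x i, δ (algebraMap k L x) i = 0 := fun x i => by simp [δ, cls_const]
  have cls_mul : ∀ a a', cls (a * a') = algebraMap k L (c a) • cls a' + algebraMap k L (c a') • cls a := fun a a' => by
    rw [← map_smul, ← map_smul, ← map_add]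
    refine (Ideal.toCotangent_eq _).2 ?_
    show a * a' - algebraMap k L (c (a * a')) -
      (algebraMap k L (c a) * (a' - algebraMap k L (c a')) + algebraMap k L (c a') * (a - algebraMap k L (c a))) ∈ _
    rw [show a * a' - algebraMap k L (c (a * a')) - (algebraMap k L (c a) * (a' - algebraMap k L (c a')) +
        algebraMap k L (c a') * (a - algebraMap k L (c a))) =
        (a - algebraMap k L (c a)) * (a' - algebraMap k L (c a')) by rw [map_mul, map_mul]; ring, pow_two]
    exact Ideal.mul_mem_mul (hmem a) (hmem a')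
  have δ_mul : ∀ a a' i, δ (a * a') i = c a * δ a' i + c a' * δ a i := fun a a' i => by
    have e : ∀ (x : k) (v : CotangentSpace L),
        c' (b.repr (algebraMap k L x • v) (Fin.castLE hn i)) = x * c' (b.repr v (Fin.castLE hn i)) := fun x v => by
      rw [← algebraMap_smul (ResidueField L) (algebraMap k L x) v, map_smul, Finsupp.smul_apply, smul_eq_mul, map_mul]
      exact congrArg (· * _) (hc' x)
    simp only [δ]
    rw [cls_mul, map_add, Finsupp.add_apply, map_add, e, e]
  let J2 := J (Fin g) k p ^ 2
  let mkJ := Ideal.Quotient.mk J2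
  let y : Fin g → TA (Fin g) k p ⧸ J2 := fun i => mkJ (x (Fin g) k p i)
  have hyy : ∀ i j, y i * y j = 0 := fun i j => by
    rw [← map_mul, Ideal.Quotient.eq_zero_iff_mem]
    show _ ∈ J (Fin g) k p ^ 2
    rw [pow_two]
    exact Ideal.mul_mem_mul (Ideal.subset_span ⟨i, rfl⟩) (Ideal.subset_span ⟨j, rfl⟩)
  let C' : k →+* TA (Fin g) k p ⧸ J2 := algebraMap k _
  let g0 : L →ₐ[k] TA (Fin g) k p ⧸ J2 :=
    { toFun := fun a => C' (c a) + ∑ i, C' (δ a i) * y i
      map_one' := by
        have h1 : ∀ i, δ 1 i = 0 := fun i => by simpa using δ_const 1 i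
        simp [h1]
      map_zero' := by
        have h1 : ∀ i, δ 0 i = 0 := fun i => by simpa using δ_const 0 i
        simp [h1]
      map_add' := fun a a' => by simp [δ_add, add_mul, Finset.sum_add_distrib]; ring
      map_mul' := fun a a' => by
        have h0 : (∑ i, C' (δ a i) * y i) * ∑ i, C' (δ a' i) * y i = 0 := by
          rw [Finset.sum_mul_sum]
          exact Finset.sum_eq_zero fun i _ => Finset.sum_eq_zero fun j _ => by
            rw [show C' (δ a i) * y i * (C' (δ a' j) * y j) = C' (δ a i) * C' (δ a' j) * (y i * y j) by ring, hyy, mul_zero]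
        simp only [δ_mul, map_add, map_mul, add_mul, Finset.sum_add_distrib, mul_add, mul_assoc, ← Finset.mul_sum]
        rw [h0]
        ring
      commutes' := fun r => by simp [δ_const, C'] }
  have hJ2 : IsNilpotent J2 := isNilpotent_sq
  let ψ := Algebra.FormallySmooth.lift J2 hJ2 g0
  have hψ : ∀ a, mkJ (ψ a) = g0 a := fun a =>
    DFunLike.congr_fun (Algebra.FormallySmooth.comp_lift J2 hJ2 g0) a
  refine ⟨ψ, surjective_of_mod_sq hp0 ψ fun i => ?_, fun a => ?_⟩
  · obtain ⟨⟨t, ht⟩, ht'⟩ := (maximalIdeal L).toCotangent_surjective (b (Fin.castLE hn i))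
    have hct : c t = 0 := (hm.ge ht :)
    have hδ : ∀ j, δ t j = if j = i then 1 else 0 := fun j => by
      have : cls t = b (Fin.castLE hn i) := by
        rw [← ht']
        exact congrArg _ (Subtype.ext (show t - algebraMap k L (c t) = t by simp [hct]))
      simp only [δ, this, Module.Basis.repr_self, Finsupp.single_apply]
      rw [apply_ite c', map_one, map_zero]
      exact if_congr ⟨fun h => (Fin.castLE_injective hn h).symm, fun h => by rw [h]⟩ rfl rfl
    refine ⟨t, ?_⟩
    rw [← Ideal.Quotient.eq]
    show mkJ (x (Fin g) k p i) = mkJ (ψ t)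
    rw [hψ]
    show y i = C' (c t) + ∑ j, C' (δ t j) * y j
    simp [hct, hδ, apply_ite C', ite_mul]
  · have hle : J2 ≤ RingHom.ker (aug (Fin g) k p hp0).toRingHom := by
      refine (Ideal.pow_le_self two_ne_zero).trans (Ideal.span_le.2 ?_)
      rintro _ ⟨i, rfl⟩
      show aug (Fin g) k p hp0 (Ideal.Quotient.mk _ (X i)) = 0
      simp [aug, Ideal.Quotient.liftₐ_apply, Ideal.Quotient.lift_mk]
    let aug' : TA (Fin g) k p ⧸ J2 →ₐ[k] k := Ideal.Quotient.liftₐ J2 (aug (Fin g) k p hp0) fun z hz => hle hz
    have h1 : aug (Fin g) k p hp0 (ψ a) = aug' (mkJ (ψ a)) := rfl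
    rw [h1, hψ]
    show aug' (C' (c a) + ∑ j, C' (δ a j) * y j) = c a
    rw [map_add, map_sum]
    have hy : ∀ j, aug' (y j) = 0 := fun j => hle.trans le_rfl |> fun _ => by
      show aug (Fin g) k p hp0 (Ideal.Quotient.mk _ (X j)) = 0
      simp [aug, Ideal.Quotient.liftₐ_apply, Ideal.Quotient.lift_mk]
    simp [hy, C']

end AVAmpleLib.Trunc

end
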