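import Groth.Agent.AVAmpleLib.TruncLift
import Groth.Agent.AbSchLib.Unram
import Groth.Agent.FibDimLib.Comps

/-!
The truncated formal neighbourhood of the origin is killed by `p`.
-/

set_option autoImplicit false
set_option linter.style.haveILetI false
set_option maxHeartbeats 1000000

noncomputable section

universe u

open CategoryTheory CategoryTheory.Limits MonoidalCategory CartesianMonoidalCategory MonObj AlgebraicGeometry TopologicalSpace

namespace AVAmpleLib

open Trunc

/-- `Spec` of an algebra over a field, as an object over the field. -/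
abbrev algSpec (K : Type u) [Field K] (R : Type u) [CommRing R] [Algebra K R] : Over (Spec (CommRingCat.of K)) :=
  Over.mk (Spec.map (CommRingCat.ofHom (algebraMap K R)))

/-- The map of spectra of an algebra homomorphism. -/
def algSpecMap {K : Type u} [Field K] {R R' : Type u} [CommRing R] [Algebra K R] [CommRing R'] [Algebra K R']
    (f : R →ₐ[K] R') : algSpec K R' ⟶ algSpec K R :=
  Over.homMk (Spec.map (CommRingCat.ofHom f.toRingHom)) (by
    show Spec.map _ ≫ Spec.map _ = Spec.map _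
    rw [← Spec.map_comp, ← CommRingCat.ofHom_comp]
    exact congrArg (fun r => Spec.map (CommRingCat.ofHom r)) f.comp_algebraMap)

theorem algSpecMap_comp {K : Type u} [Field K] {R R' R'' : Type u} [CommRing R] [Algebra K R] [CommRing R'] [Algebra K R']
    [CommRing R''] [Algebra K R''] (f : R →ₐ[K] R') (f' : R' →ₐ[K] R'') :
    algSpecMap f' ≫ algSpecMap f = algSpecMap (f'.comp f) := by
  ext1
  show Spec.map _ ≫ Spec.map _ = Spec.map _
  rw [← Spec.map_comp, ← CommRingCat.ofHom_comp]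
  rfl

theorem algSpecMap_id {K : Type u} [Field K] {R : Type u} [CommRing R] [Algebra K R] :
    algSpecMap (AlgHom.id K R) = 𝟙 (algSpec K R) := by
  ext1
  exact Spec.map_id (CommRingCat.of R)

theorem ker_fst_sq (K : Type u) [Field K] (Q : Type u) [CommRing Q] [Algebra K Q] :
    RingHom.ker (TrivSqZeroExt.fstHom K Q Q).toRingHom ^ 2 = ⊥ := by
  rw [pow_two, eq_bot_iff, Ideal.mul_le]
  intro a ha b hb
  have ha' : a.fst = 0 := ha
  have hb' : b.fst = 0 := hb
  rw [Ideal.mem_bot]
  ext <;> simp [ha', hb']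

variable {K : Type u} [Field K] (A : Over (Spec (CommRingCat.of K))) [GrpObj A]

theorem range_one_subset {T : Over (Spec (CommRingCat.of K))} :
    Set.range (1 : T ⟶ A).left.base ⊆ {η[A].left (IsLocalRing.closedPoint K)} := by
  rintro _ ⟨z, rfl⟩
  rw [Hom.one_def, Over.comp_left, Scheme.Hom.comp_apply]
  exact congrArg η[A].left (Subsingleton.elim (α := PrimeSpectrum K) _ _)

/-- Two points agreeing modulo a square zero ideal have the same `n`-th power when `n = 0`. -/
theorem zpow_congr_of_section [IsCommMonObj A] {Q R : Type u} [CommRing Q] [Algebra K Q] [CommRing R] [Algebra K R]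
    (π : R →ₐ[K] Q) (s : Q →ₐ[K] R) (hs : π.comp s = AlgHom.id K Q) (hI : RingHom.ker π.toRingHom ^ 2 = ⊥)
    (f : Q →ₐ[K] R) (hf : π.comp f = AlgHom.id K Q) (φ : algSpec K Q ⟶ A) {V : A.left.Opens} (hV : IsAffineOpen V)
    (heV : η[A].left (IsLocalRing.closedPoint K) ∈ V) (n : ℤ) (hn : (n : K) = 0) :
    algSpecMap f ≫ φ ^ n = algSpecMap s ≫ φ ^ n := by
  let a1 := algSpecMap f ≫ φ
  let a0 := algSpecMap s ≫ φ
  letI : CommGroup (algSpec K R ⟶ A) := Hom.commGroup
  have hj1 : algSpecMap π ≫ (a1 * a0⁻¹) = 1 := by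
    rw [MonObj.comp_mul, GrpObj.comp_inv]
    simp only [a1, a0, ← Category.assoc, algSpecMap_comp, hs, hf, algSpecMap_id, Category.id_comp, mul_inv_cancel]
  have hd : (a1 * a0⁻¹) ^ n = 1 := by
    refine AbSchLib.zpow_eq_one_of_cast_eq_zero_affine (RingHom.ker π.toRingHom) hI _ (a1 * a0⁻¹) hV.fromSpec ?_ ?_ n ?_
    · rw [hV.range_fromSpec]
      exact (range_one_subset A).trans (Set.singleton_subset_iff.2 heV)
    · have hfac : CommRingCat.ofHom (Ideal.Quotient.mk (RingHom.ker π.toRingHom)) =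
          CommRingCat.ofHom π.toRingHom ≫
            CommRingCat.ofHom ((Ideal.Quotient.mk (RingHom.ker π.toRingHom)).comp s.toRingHom) := by
        ext z
        refine Ideal.Quotient.eq.2 ?_
        show π (z - s (π z)) = 0
        rw [map_sub, show π (s (π z)) = π z from DFunLike.congr_fun hs _, sub_self]
      rw [hfac, Spec.map_comp, Category.assoc, Category.assoc]
      congr 1
      exact congrArg Over.Hom.left (hj1.trans (MonObj.comp_one (algSpecMap π)).symm)
    · rw [← map_intCast (algebraMap K R), hn, map_zero]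
  rw [mul_zpow, inv_zpow, mul_inv_eq_one] at hd
  rw [GrpObj.comp_zpow, GrpObj.comp_zpow]
  exact hd

/-- The coordinates of an `n`-th power are killed by derivations when `n = 0`. -/
theorem snd_eq_zero_of_zpow [IsCommMonObj A] {Q : Type u} [CommRing Q] [Algebra K Q] {V : A.left.Opens}
    (hV : IsAffineOpen V) (heV : η[A].left (IsLocalRing.closedPoint K) ∈ V) (φ : algSpec K Q ⟶ A) (n : ℤ)
    (hn : (n : K) = 0) (χ : Γ(A.left, V) ⟶ CommRingCat.of Q) (hχ : Spec.map χ ≫ hV.fromSpec = (φ ^ n).left)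
    (τ : Q →ₐ[K] DualNumber Q) (hτ : ∀ z, (τ z).fst = z) (b : Γ(A.left, V)) : (τ (χ.hom b)).snd = 0 := by
  let s : Q →ₐ[K] DualNumber Q := IsScalarTower.toAlgHom K Q (DualNumber Q)
  have hcmp := zpow_congr_of_section A (TrivSqZeroExt.fstHom K Q Q) s (AlgHom.ext fun z => rfl) (ker_fst_sq K Q)
    τ (AlgHom.ext hτ) φ hV heV n hn
  have h := congrArg Over.Hom.left hcmp
  simp only [Over.comp_left, ← hχ] at h
  change Spec.map (CommRingCat.ofHom τ.toRingHom) ≫ Spec.map χ ≫ hV.fromSpec =
    Spec.map (CommRingCat.ofHom s.toRingHom) ≫ Spec.map χ ≫ hV.fromSpec at h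
  rw [← Spec.map_comp_assoc, ← Spec.map_comp_assoc, cancel_mono, Spec.map_inj] at h
  exact (congrArg (fun f : Γ(A.left, V) ⟶ CommRingCat.of (DualNumber Q) => (f.hom b).snd) h).trans rfl

variable [IsSeparated A.hom] [Smooth A.hom] [IrreducibleSpace A.left] [IsCommMonObj A]

/-- A closed truncated neighbourhood of the origin killed by `p`. -/
theorem exists_trunc_point {g : ℕ} (hg : topologicalKrullDim A.left = (g : ℕ)) (p : ℕ) [Fact p.Prime] [CharP K p] :
    ∃ (V : A.left.Opens) (hV : IsAffineOpen V) (φ : algSpec K (TA (Fin g) K p) ⟶ A) (ψ : Γ(A.left, V) →+* TA (Fin g) K p),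
      Spec.map (CommRingCat.ofHom ψ) ≫ hV.fromSpec = φ.left ∧ Function.Surjective ψ ∧ φ ^ (p : ℤ) = 1 ∧
      Set.range φ.left.base ⊆ {η[A].left (IsLocalRing.closedPoint K)} := by
  have hp := (Fact.out : p.Prime)
  let e := η[A].left (IsLocalRing.closedPoint K)
  obtain ⟨V, hV, heV, -⟩ := exists_isAffineOpen_mem_and_subset (U := ⊤) (x := e) trivial
  haveI : IsLocallyNoetherian A.left := LocallyOfFiniteType.isLocallyNoetherian A.hom
  let O := A.left.presheaf.stalk e
  obtain ⟨σ, hσ⟩ := Spec.map_surjective (hV.fromSpec ≫ A.hom)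
  have hsm : σ.hom.Smooth := (HasRingHomProperty.Spec_iff (P := @Smooth)).mp
    (hσ ▸ (inferInstance : Smooth (hV.fromSpec ≫ A.hom)))
  letI algB : Algebra K Γ(A.left, V) := σ.hom.toAlgebra
  haveI : Algebra.Smooth K Γ(A.left, V) := hsm
  letI : Algebra Γ(A.left, V) O := (A.left.presheaf.germ V e heV).hom.toAlgebra
  letI algO : Algebra K O := ((A.left.presheaf.germ V e heV).hom.comp σ.hom).toAlgebra
  haveI : IsScalarTower K Γ(A.left, V) O := IsScalarTower.of_algebraMap_eq fun _ => rfl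
  haveI : IsLocalization.AtPrime O (hV.primeIdealOf ⟨e, heV⟩).asIdeal := hV.isLocalization_stalk ⟨e, heV⟩
  haveI : Algebra.FormallySmooth Γ(A.left, V) O :=
    Algebra.FormallySmooth.of_isLocalization (hV.primeIdealOf ⟨e, heV⟩).asIdeal.primeCompl
  haveI : Algebra.FormallySmooth K O := Algebra.FormallySmooth.comp K Γ(A.left, V) O
  have hfs : A.left.fromSpecStalk e = Spec.map (A.left.presheaf.germ V e heV) ≫ hV.fromSpec :=
    (hV.fromSpecStalk_eq_fromSpecStalk heV).symm
  let cT : O ⟶ CommRingCat.of K := Scheme.stalkClosedPointTo η[A].left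
  have hcT : Spec.map cT ≫ A.left.fromSpecStalk e = η[A].left :=
    Scheme.Spec_stalkClosedPointTo_fromSpecStalk η[A].left
  have hsec : σ ≫ A.left.presheaf.germ V e heV ≫ cT = 𝟙 _ := by
    apply Spec.map_injective
    rw [Spec.map_comp, Spec.map_comp, Spec.map_id, hσ]
    have h1 : (Spec.map cT ≫ Spec.map (A.left.presheaf.germ V e heV)) ≫ hV.fromSpec = η[A].left := by
      rw [Category.assoc, ← hfs, hcT]
    rw [← Category.assoc, h1]
    exact Over.w η[A]
  let c : O →ₐ[K] K :=
    { cT.hom with commutes' := fun r => congrArg (fun f : CommRingCat.of K ⟶ _ => f.hom r) hsec }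
  have hcl : IsClosed ({e} : Set A.left) := by
    haveI : IsClosedImmersion η[A].left := by
      haveI : IsClosedImmersion (η[A].left ≫ A.hom) := by
        rw [Over.w η[A]]
        exact inferInstanceAs (IsClosedImmersion (𝟙 (Spec (CommRingCat.of K))))
      exact IsClosedImmersion.of_comp η[A].left A.hom
    have := η[A].left.isClosedEmbedding.isClosed_range
    rwa [show Set.range η[A].left.base = {e} from Set.eq_singleton_iff_unique_mem.2 ⟨⟨_, rfl⟩, by
      rintro _ ⟨z, rfl⟩
      exact congrArg η[A].left (Subsingleton.elim (α := PrimeSpectrum K) _ _)⟩] at this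
  have hdim : ((g : ℕ) : WithBot ℕ∞) ≤ ringKrullDim O := by
    rw [← hg, ← FibDimLib.localDim_of_irreducible A.hom e, FibDimLib.localDim_eq_stalk_of_isClosed A.hom hcl]
  obtain ⟨ψ₀, hψ₀, haug⟩ := exists_surjective c hdim hp.two_le
  let Q := TA (Fin g) K p
  let ψ : Γ(A.left, V) →+* Q := ψ₀.toRingHom.comp (A.left.presheaf.germ V e heV).hom
  let φ : algSpec K Q ⟶ A := Over.homMk (Spec.map (CommRingCat.ofHom ψ) ≫ hV.fromSpec) (by
    show (Spec.map _ ≫ hV.fromSpec) ≫ A.hom = Spec.map _
    rw [Category.assoc, ← hσ, ← Spec.map_comp]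
    congr 1
    ext r
    exact ψ₀.commutes r)
  let o := algSpecMap (aug (Fin g) K p hp.ne_zero)
  have hoφ : o ≫ φ = 1 := by
    ext1
    rw [Hom.one_def]
    show Spec.map (CommRingCat.ofHom _) ≫ Spec.map _ ≫ hV.fromSpec = Spec.map (CommRingCat.ofHom (algebraMap K K)) ≫ η[A].left
    rw [← hcT, hfs, show CommRingCat.ofHom (algebraMap K K) = 𝟙 (CommRingCat.of K) from rfl, Spec.map_id,
      Category.id_comp, ← Spec.map_comp_assoc, ← Spec.map_comp_assoc]
    congr 2
    ext a
    exact haug _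
  have hosurj : Function.Surjective o.left.base := by
    refine AbSchLib.comap_surj _ (fun r => ⟨algebraMap K Q r, (aug (Fin g) K p hp.ne_zero).commutes r⟩) ?_
    intro z hz
    have hzJ : z ∈ J (Fin g) K p := by
      have := sub_aug_mem hp.ne_zero z
      rwa [show aug (Fin g) K p hp.ne_zero z = 0 from hz, map_zero, sub_zero] at this
    obtain ⟨N, hN⟩ := isNilpotent_J (σ := Fin g) (k := K) (p := p)
    refine ⟨N, ?_⟩
    have := Ideal.pow_mem_pow hzJ N
    rwa [hN] at this
  have hrange : ∀ (f : algSpec K Q ⟶ A), o ≫ f = 1 → Set.range f.left.base ⊆ {e} := by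
    rintro f hf _ ⟨z, rfl⟩
    obtain ⟨w, rfl⟩ := hosurj z
    exact range_one_subset A ⟨w, (congrArg (fun q : algSpec K K ⟶ A => q.left w) hf).symm⟩
  refine ⟨V, hV, φ, ψ, rfl, ?_, ?_, hrange φ hoφ⟩
  · refine Trunc.surjective_of_mod_sq hp.ne_zero (ψ₀.comp (IsScalarTower.toAlgHom K Γ(A.left, V) O)) fun i => ?_
    obtain ⟨a, ha⟩ := hψ₀ (x (Fin g) K p i)
    obtain ⟨b, s, rfl⟩ := IsLocalization.exists_mk'_eq (hV.primeIdealOf ⟨e, heV⟩).asIdeal.primeCompl a
    let s' : O := algebraMap Γ(A.left, V) O s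
    let κ : K := c s'
    have hκ : κ ≠ 0 := ((IsLocalization.map_units O s).map c).ne_zero
    have hj : ψ₀ s' - algebraMap K Q κ ∈ J (Fin g) K p := by
      have := sub_aug_mem hp.ne_zero (ψ₀ s')
      rwa [haug] at this
    have hb : ψ₀ (algebraMap Γ(A.left, V) O b) = x (Fin g) K p i * ψ₀ s' := by
      rw [← ha, ← map_mul, IsLocalization.mk'_spec]
    refine ⟨algebraMap K _ κ⁻¹ * b, ?_⟩
    have he : x (Fin g) K p i - ψ₀.comp (IsScalarTower.toAlgHom K Γ(A.left, V) O) (algebraMap K _ κ⁻¹ * b) =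
        -(algebraMap K Q κ⁻¹) * (x (Fin g) K p i * (ψ₀ s' - algebraMap K Q κ)) := by
      have h1 : algebraMap K Q κ⁻¹ * algebraMap K Q κ = 1 := by rw [← map_mul, inv_mul_cancel₀ hκ, map_one]
      rw [map_mul, AlgHom.commutes, AlgHom.comp_apply, IsScalarTower.toAlgHom_apply, hb]
      linear_combination (-(x (Fin g) K p i)) * h1
    rw [he, pow_two]
    exact Ideal.mul_mem_left _ _ (Ideal.mul_mem_mul (Ideal.subset_span ⟨i, rfl⟩) hj)
  · have hoy : o ≫ (φ ^ (p : ℤ)) = 1 := by rw [GrpObj.comp_zpow, hoφ, one_zpow]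
    have hyV : Set.range (φ ^ (p : ℤ)).left.base ⊆ Set.range hV.fromSpec.base := by
      rw [hV.range_fromSpec]
      exact (hrange _ hoy).trans (Set.singleton_subset_iff.2 heV)
    obtain ⟨χ, hχ⟩ := Spec.map_surjective (IsOpenImmersion.lift hV.fromSpec _ hyV)
    have hyeq : Spec.map χ ≫ hV.fromSpec = (φ ^ (p : ℤ)).left := by rw [hχ, IsOpenImmersion.lift_fac]
    have hconst : ∀ b, χ.hom b = algebraMap K Q (aug (Fin g) K p hp.ne_zero (χ.hom b)) := fun b =>
      eq_const_of_taylor _ fun i => snd_eq_zero_of_zpow A hV heV φ (p : ℤ)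
        (by rw [Int.cast_natCast, CharP.cast_eq_zero]) χ hyeq (taylor i) (fst_taylor i) b
    let π : algSpec K Q ⟶ algSpec K K := algSpecMap (Algebra.ofId K Q)
    have hself : π ≫ o ≫ φ ^ (p : ℤ) = φ ^ (p : ℤ) := by
      ext1
      rw [Over.comp_left, Over.comp_left, ← hyeq]
      show Spec.map _ ≫ Spec.map _ ≫ Spec.map χ ≫ hV.fromSpec = _
      rw [← Spec.map_comp_assoc, ← Spec.map_comp_assoc]
      congr 2
      ext b
      exact (hconst b).symm
    rw [← hself, hoy, MonObj.comp_one]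

end AVAmpleLib

end
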