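import Groth.Agent.AVAmpleLib.BcDeg
import Groth.Agent.AVAmpleLib.FrobPull
import Groth.Agent.AVAmpleLib.PosForm
import Groth.Agent.AVAmpleLib.Exist

/-!
The Frobenius endomorphism of an abelian variety over a finite field: absolute values of the roots and semisimplicity.
-/

set_option autoImplicit false
set_option linter.style.haveILetI false
set_option linter.unusedSectionVars false
set_option backward.isDefEq.respectTransparency false
set_option maxHeartbeats 1000000

noncomputable section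

universe u

open CategoryTheory CategoryTheory.Limits MonoidalCategory CartesianMonoidalCategory MonObj AlgebraicGeometry TopologicalSpace
open Polynomial CubeConsLib

namespace AVAmpleLib

section Form

variable {k : Type u} [Field k] [IsAlgClosed k] {A B : Over (Spec (CommRingCat.of k))}
  [GrpObj A] [IsCommMonObj A] [IsProper A.hom] [GeometricallyIntegral A.hom]
  [GrpObj B] [IsCommMonObj B] [IsProper B.hom] [GeometricallyIntegral B.hom]

/-- The curve forms of one ample module are jointly positive definite on a finitely generated subgroup. -/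
theorem exists_forms {N : ℕ} (β : Fin N → EndAV.Hom A B) {L : B.left.Modules} (hA : CohB1.IsAmple L) :
    ∃ (n : ℕ) (c : Fin n → Crv A), ∀ x0 ∈ sat β, x0 ≠ 0 → 0 < ∑ i, form (c i) hA.1 x0 x0 := by
  classical
  let M : Crv A → (Fin N × Fin N → ℤ) := fun c p => form c hA.1 (β p.1) (β p.2)
  obtain ⟨t, hts, ht⟩ :=
    (Submodule.fg_span_iff_fg_span_finset_subset (R := ℤ) (Set.range M)).1 (IsNoetherian.noetherian _)
  choose c hc using fun x : t => hts x.2
  let e := t.equivFin
  refine ⟨t.card, fun i => c (e.symm i), fun x0 ⟨m, hm, hx0⟩ hne => ?_⟩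
  refine lt_of_le_of_ne (Finset.sum_nonneg fun x _ => form_self_nonneg _ _ hA x0) fun h0 => ?_
  obtain ⟨a, ha⟩ := (Submodule.mem_span_range_iff_exists_fun ℤ).1 hx0
  have hz : ∀ x : t, form (c x) hA.1 x0 x0 = 0 := fun x => by
    have := (Finset.sum_eq_zero_iff_of_nonneg fun y _ => form_self_nonneg (c (e.symm y)) _ hA x0).1 h0.symm (e x)
      (Finset.mem_univ _)
    rwa [Equiv.symm_apply_apply] at this
  let ev : (Fin N × Fin N → ℤ) →ₗ[ℤ] ℤ :=
    ∑ p : Fin N × Fin N, (a p.1 * a p.2) • LinearMap.proj (R := ℤ) (φ := fun _ : Fin N × Fin N => ℤ) p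
  have hev : ∀ d : Crv A, ev (M d) = form d hA.1 (m • x0) (m • x0) := fun d => by
    rw [← ha]
    simp only [ev, LinearMap.sum_apply, LinearMap.smul_apply, LinearMap.proj_apply, smul_eq_mul, M, map_sum,
      AddMonoidHom.finsetSum_apply, map_zsmul, AddMonoidHom.smul_apply, Fintype.sum_prod_type, Finset.mul_sum]
    rw [Finset.sum_comm]
    exact Finset.sum_congr rfl fun i _ => Finset.sum_congr rfl fun j _ => by ring
  have hker : Submodule.span ℤ (Set.range M) ≤ LinearMap.ker ev := by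
    rw [ht, Submodule.span_le]
    intro x hx
    rw [SetLike.mem_coe, LinearMap.mem_ker]
    show ev (⟨x, hx⟩ : t).1 = 0
    rw [← hc ⟨x, hx⟩, hev]
    simp only [map_zsmul, AddMonoidHom.smul_apply, hz, smul_zero]
  have hmx0 : m • x0 ≠ 0 := fun h => hne (smul_eq_zero_hom hm h)
  obtain ⟨d, hd⟩ := exists_crv (m • x0).toHom fun h => hmx0 (EndAV.Hom.ext (h.trans EndAV.Hom.toHom_zero.symm))
  have h1 := hker (Submodule.subset_span ⟨d, rfl⟩)
  rw [LinearMap.mem_ker, hev] at h1
  exact (form_self_pos d hA.1 hA _ hd).ne' h1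

theorem D_nsmul (V : Over (Spec (CommRingCat.of k))) [IsProper V.hom] [IsIntegral V.left]
    (hdim : topologicalKrullDim V.left = 1) {x : PicA V.left} (hx : x ∈ clRange V) (n : ℕ) :
    D V (n • x) = n * D V x := by
  induction n with
  | zero => rw [zero_smul, D_zero V hdim, Nat.cast_zero, zero_mul]
  | succ n ih => rw [succ_nsmul, D_add V hdim (nsmul_mem hx n) hx, ih]; push_cast; ring

end Form

section Frob

variable {k : Type u} [Field k] {A : Over (Spec (CommRingCat.of k))}
  [GrpObj A] [IsCommMonObj A] [IsProper A.hom] [GeometricallyIntegral A.hom]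
  (πA : A ⟶ A) [IsMonHom πA] (hπb : πA.left.base = 𝟙 _) (hπle : ∀ U : A.left.Opens, U ≤ πA.left ⁻¹ᵁ U) {q : ℕ}
  (hπapp : ∀ (U : A.left.Opens) (s : Γ(A.left, U)), (πA.left.appLE U U (hπle U)).hom s = s ^ q)

attribute [local instance] grpBc commBc proper_bc gi_bc

theorem map_minpoly_ne_zero (φ : EndAV.End A) {Q : ℤ[X]} (hQm : Q.Monic)
    (hQ : Q.map (Int.castRingHom ℚ) = minpoly ℚ (EndAV.toEnd0 φ)) {f : ℤ[X]} (hf : f ≠ 0) (hd : f.degree < Q.degree) :
    aeval φ f ≠ 0 := by
  intro h0
  have h1 : aeval (EndAV.toEnd0 φ) (f.map (Int.castRingHom ℚ)) = 0 := by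
    rw [← algebraMap_int_eq, aeval_map_algebraMap, aeval_algHom_apply, h0, map_zero]
  have h2 := minpoly.degree_le_of_ne_zero ℚ _
    ((Polynomial.map_ne_zero_iff (RingHom.injective_int (Int.castRingHom ℚ))).2 hf) h1
  rw [← hQ, degree_map_eq_of_injective (RingHom.injective_int _), degree_map_eq_of_injective
    (RingHom.injective_int _)] at h2
  exact not_lt.2 h2 hd

include hπb hπapp in
/-- The minimal polynomial of the Frobenius: complex roots of absolute value `√q`, all simple. -/
theorem exists_weil_poly (hq : 0 < q) :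
    ∃ Q : ℤ[X], Q.Monic ∧ Q.map (Int.castRingHom ℚ) = minpoly ℚ (EndAV.toEnd0 (EndAV.End.of πA)) ∧
      aeval (EndAV.End.of πA) Q = 0 ∧ (∀ ω ∈ (Q.map (Int.castRingHom ℂ)).roots, ‖ω‖ = Real.sqrt q) ∧
      (Q.map (Int.castRingHom ℂ)).roots.Nodup := by
  obtain ⟨Q, hQm, hQ, hQ0⟩ := exists_int_minpoly (EndAV.End.of πA)
  have hQ0' : aeval (EndAV.End.of πA) Q = 0 := by
    rw [aeval_def]
    exact (congrArg (fun r => eval₂ r (EndAV.End.of πA) Q) (Subsingleton.elim _ _)).trans hQ0
  refine ⟨Q, hQm, hQ, hQ0', ?_⟩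
  let Ω := AlgebraicClosure k
  let AB := (bcF Ω).obj A
  obtain ⟨L, hL⟩ := exists_ample A
  let pr := pullback.fst A.hom (Spec.map (CommRingCat.ofHom (algebraMap k Ω)))
  haveI : IsAffineHom pr := MorphismProperty.pullback_fst _ _ inferInstance
  have hL' : CohB1.IsAmple (KFlatLib.pb pr L) := AmpleDevLib.isAmple_pb pr hL.1 hL
  let π := endBc Ω A (EndAV.End.of πA)
  obtain ⟨n, c, hc⟩ := exists_forms (fun i : Fin Q.natDegree => ((π ^ (i : ℕ) : EndAV.End AB) : EndAV.Hom AB AB)) hL'
  have hLi : PicF.IsInvertible L := hL.1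
  have hLi' : PicF.IsInvertible (KFlatLib.pb pr L) := hL'.1
  -- scaling of the pulled back classes
  have hP : ∀ φ : A ⟶ A, P hLi' ((bcF Ω).map φ) = pullA pr (P hLi φ) := fun φ => by
    show pullA ((bcF Ω).map φ).left (clA hLi') = pullA pr (pullA φ.left (clA hLi))
    rw [show clA hLi' = pullA pr (clA hLi) from (pullA_clA pr hLi).symm]
    exact (pullA_comp _ _ _).trans ((congrArg (fun r => pullA r (clA hLi)) (isPullback_bc Ω φ).w.symm).trans
      (pullA_comp _ _ _).symm)
  have hcl : ∀ φ : A ⟶ A, P hLi' ((bcF Ω).map (φ ≫ πA)) = q • P hLi' ((bcF Ω).map φ) := fun φ => by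
    refine (hP _).trans (Eq.trans (congrArg (pullA pr) ?_) ((map_nsmul _ _ _).trans (congrArg (q • ·) (hP φ).symm)))
    show pullA (φ ≫ πA).left (clA hLi) = q • pullA φ.left (clA hLi)
    rw [Over.comp_left, ← pullA_comp, pullA_frob πA.left hπb hπle hπapp, map_nsmul]
  have hcq : ∀ (i : Fin n) (φ : A ⟶ A),
      cq (c i) hLi' ((bcF Ω).map (φ ≫ πA)) = q * cq (c i) hLi' ((bcF Ω).map φ) := fun i φ => by
    haveI := (c i).proper
    haveI := (c i).integral
    show D _ (P hLi' _) = q * D _ (P hLi' _)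
    rw [← pullA_P, hcl, map_nsmul, D_nsmul _ (c i).dim (by rw [pullA_P]; exact P_mem _ _), pullA_P]
  have hform : ∀ (i : Fin n) (a b : EndAV.End A),
      form (c i) hLi' (endBc Ω A (EndAV.End.of πA * a)) (endBc Ω A (EndAV.End.of πA * b)) =
        q * form (c i) hLi' (endBc Ω A a) (endBc Ω A b) := fun i a b => by
    have hm : ∀ a : EndAV.End A, EndAV.Hom.toHom (endBc Ω A (EndAV.End.of πA * a)) =
        (bcF Ω).map (EndAV.End.toHom a ≫ πA) := fun a => rfl
    have hadd : ∀ a b : EndAV.End A, EndAV.Hom.toHom (endBc Ω A a) * EndAV.Hom.toHom (endBc Ω A b) =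
        (bcF Ω).map (EndAV.End.toHom (a + b)) := fun a b =>
      (congrArg EndAV.Hom.toHom (map_add (endBc Ω A) a b)).symm
    rw [form_apply, form_apply, hm, hm, hadd, show (bcF Ω).map (EndAV.End.toHom a ≫ πA) *
        (bcF Ω).map (EndAV.End.toHom b ≫ πA) = (bcF Ω).map (EndAV.End.toHom (a + b) ≫ πA) by
      rw [← Functor.map_mul, ← MonObj.mul_comp]; rfl]
    rw [hcq, hcq, hcq]
    show _ = _ * (_ - cq (c i) hLi' ((bcF Ω).map (EndAV.End.toHom a)) - cq (c i) hLi' ((bcF Ω).map (EndAV.End.toHom b)))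
    ring
  let ev : ℤ[X] →+* EndAV.End AB := (endBc Ω A).comp (aeval (EndAV.End.of πA)).toRingHom
  let evh : ℤ[X] →+ EndAV.Hom AB AB := ev.toAddMonoidHom
  let Φ : ℤ[X] →+ ℤ[X] →+ ℤ := AddMonoidHom.mk'
    (fun f => AddMonoidHom.mk' (fun g => ∑ i, form (c i) hLi' (evh f) (evh g)) fun g g' => by
      simp only [map_add, Finset.sum_add_distrib])
    fun f f' => by
      refine AddMonoidHom.ext fun g => ?_
      simp only [map_add, AddMonoidHom.add_apply, AddMonoidHom.mk'_apply, Finset.sum_add_distrib]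
  have hΦ : ∀ f g, Φ f g = ∑ i, form (c i) hLi' (ev f) (ev g) := fun f g => rfl
  refine roots_of_similitude Φ (fun f g => ?_) (fun f g => ?_) (fun f g => ?_) (fun f hf hd => ?_) hq hQm
  · rw [hΦ, hΦ]
    exact Finset.sum_congr rfl fun i _ => form_symm (c i) hLi' (ev f) (ev g)
  · simp only [hΦ, Finset.mul_sum]
    refine Finset.sum_congr rfl fun i _ => ?_
    have hX : ∀ f : ℤ[X], ev (X * f) = endBc Ω A (EndAV.End.of πA * aeval (EndAV.End.of πA) f) := fun f =>
      congrArg (endBc Ω A) ((map_mul (aeval (EndAV.End.of πA)) X f).trans (by rw [aeval_X]))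
    rw [hX, hX]
    exact hform i (aeval (EndAV.End.of πA) f) (aeval (EndAV.End.of πA) g)
  · rw [hΦ]
    refine Finset.sum_eq_zero fun i _ => ?_
    have h0 : ev (Q * f) = 0 := by
      show (endBc Ω A) (aeval (EndAV.End.of πA) (Q * f)) = 0
      exact (congrArg _ ((map_mul _ Q f).trans (by rw [hQ0', zero_mul]))).trans (map_zero (endBc Ω A))
    rw [h0]
    exact congrArg (fun z => z (ev g)) (map_zero (form (c i) hLi'))
  · rw [hΦ]
    refine hc (ev f) ⟨1, one_ne_zero, ?_⟩ fun h => map_minpoly_ne_zero _ hQm hQ hf hd (homBc_injective Ω A A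
      (h.trans (map_zero _).symm))
    rw [one_smul]
    have hfe : f = ∑ i : Fin Q.natDegree, monomial (i : ℕ) (f.coeff i) := by
      refine ((sum_fin (fun e a => monomial e a) (fun _ => monomial_zero_right _) ?_).trans (sum_monomial_eq f)).symm
      rwa [← degree_eq_natDegree hQm.ne_zero]
    rw [hfe, map_sum]
    refine Submodule.sum_mem _ fun i _ => ?_
    rw [← smul_X_eq_monomial, map_zsmul, map_pow]
    refine Submodule.smul_mem _ _ (Submodule.subset_span ⟨i, ?_⟩)
    exact congrArg (fun z : EndAV.End AB => z ^ (i : ℕ)) (congrArg (endBc Ω A) (aeval_X (EndAV.End.of πA)).symm)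

end Frob

end AVAmpleLib

end
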