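import Groth.Agent.WeilLib.Zeta
import Mathlib.Analysis.Complex.Polynomial.Basic
import Mathlib.FieldTheory.Galois.Infinite
import Mathlib.RingTheory.Polynomial.RationalRoot
import Mathlib.Data.Multiset.Antidiagonal
import Mathlib.FieldTheory.IsAlgClosed.AlgebraicClosure
import Mathlib.FieldTheory.IsAlgClosed.Basic
import Mathlib.FieldTheory.AbsoluteGaloisGroup

/-!
The combinatorics of the zeta function: exterior powers of a multiset of roots.
-/

set_option autoImplicit false
set_option linter.unusedSectionVars false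
set_option backward.isDefEq.respectTransparency false

noncomputable section

universe u

open Polynomial

namespace AVAmpleLib

variable {K : Type*} [Field K]

/-- `∏ (1 - aX)` over a multiset. -/
def linProd (s : Multiset K) : K[X] := (s.map fun a => (1 : K[X]) - C a * X).prod

/-- The products over the subsets of size `j`. -/
def extPow (s : Multiset K) (j : ℕ) : Multiset K := (s.powersetCard j).map Multiset.prod

theorem linProd_extPow (s : Multiset K) (j : ℕ) :
    linProd (extPow s j) = ((s.powersetCard j).map fun I => (1 : K[X]) - C I.prod * X).prod := by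
  rw [linProd, extPow, Multiset.map_map]
  rfl

theorem map_linProd {L : Type*} [Field L] (φ : K →+* L) (s : Multiset K) :
    (linProd s).map φ = linProd (s.map φ) := by
  rw [linProd, linProd, Polynomial.map_multiset_prod, Multiset.map_map, Multiset.map_map]
  exact congrArg Multiset.prod (Multiset.map_congr rfl fun a _ => by simp)

theorem map_extPow {L : Type*} [Field L] (φ : K →+* L) (s : Multiset K) (j : ℕ) :
    (extPow s j).map φ = extPow (s.map φ) j := by
  rw [extPow, extPow, Multiset.powersetCard_map, Multiset.map_map, Multiset.map_map]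
  exact Multiset.map_congr rfl fun I _ => map_multiset_prod φ I

theorem isIntegral_coeff_linProd [CharZero K] (s : Multiset K) (h : ∀ a ∈ s, IsIntegral ℤ a) (n : ℕ) :
    IsIntegral ℤ ((linProd s).coeff n) := by
  induction s using Multiset.induction_on generalizing n with
  | empty =>
    simp only [linProd, Multiset.map_zero, Multiset.prod_zero, coeff_one]
    split_ifs
    · exact isIntegral_one
    · exact isIntegral_zero
  | cons a s ih =>
    have hs := ih fun b hb => h b (Multiset.mem_cons_of_mem hb)
    rw [linProd, Multiset.map_cons, Multiset.prod_cons, ← linProd, sub_mul, one_mul, mul_assoc, coeff_sub,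
      coeff_C_mul]
    refine (hs n).sub ((h a (Multiset.mem_cons_self a s)).mul ?_)
    cases n with
    | zero => rw [coeff_X_mul_zero]; exact isIntegral_zero
    | succ n => rw [coeff_X_mul]; exact hs n

/-- The exterior powers of the roots of a monic integral polynomial give integral polynomials. -/
theorem exists_int_linProd_extPow (P : ℤ[X]) (hm : P.Monic) (j : ℕ) :
    ∃ Q : ℤ[X], Q.map (Int.castRingHom ℂ) = linProd (extPow (P.map (Int.castRingHom ℂ)).roots j) := by
  set R := (P.map (Int.castRingHom (AlgebraicClosure ℚ))).roots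
  set G := linProd (extPow R j) with hG
  have hfix : ∀ σ : (AlgebraicClosure ℚ) ≃ₐ[ℚ] (AlgebraicClosure ℚ), G.map (σ : (AlgebraicClosure ℚ) →+* (AlgebraicClosure ℚ)) = G := fun σ => by
    rw [hG, map_linProd, map_extPow, ← (IsAlgClosed.splits _).roots_map, Polynomial.map_map,
      Subsingleton.elim ((σ : (AlgebraicClosure ℚ) →+* (AlgebraicClosure ℚ)).comp (Int.castRingHom (AlgebraicClosure ℚ))) (Int.castRingHom (AlgebraicClosure ℚ))]
  have hint : ∀ n, IsIntegral ℤ (G.coeff n) := isIntegral_coeff_linProd _ fun a ha => by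
    obtain ⟨I, hI, rfl⟩ := Multiset.mem_map.1 ha
    refine IsIntegral.multiset_prod fun b hb => ⟨P, hm, ?_⟩
    rw [← eval_map, algebraMap_int_eq]
    exact (mem_roots'.1 (Multiset.mem_of_le (Multiset.mem_powersetCard.1 hI).1 hb)).2
  have hmem : ∀ n, ∃ z : ℤ, (z : (AlgebraicClosure ℚ)) = G.coeff n := fun n => by
    obtain ⟨r, hr⟩ := (InfiniteGalois.mem_range_algebraMap_iff_fixed (k := ℚ) (G.coeff n)).2 fun σ => by
      conv_rhs => rw [← hfix σ]
      rw [coeff_map]
      rfl
    have hi := hint n
    rw [← hr] at hi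
    obtain ⟨z, hz⟩ := IsIntegrallyClosed.isIntegral_iff.1 ((isIntegral_algebraMap_iff (algebraMap ℚ (AlgebraicClosure ℚ)).injective).1 hi)
    exact ⟨z, by rw [← hr, ← hz]; simp⟩
  obtain ⟨Q, hQ⟩ : G ∈ Polynomial.lifts (Int.castRingHom (AlgebraicClosure ℚ)) := (lifts_iff_coeff_lifts G).2 fun n => by
    obtain ⟨z, hz⟩ := hmem n
    exact ⟨z, hz⟩
  refine ⟨Q, ?_⟩
  let φ : (AlgebraicClosure ℚ) →ₐ[ℚ] ℂ := IsAlgClosed.lift
  rw [coe_mapRingHom] at hQ
  rw [Subsingleton.elim (Int.castRingHom ℂ) (φ.toRingHom.comp (Int.castRingHom (AlgebraicClosure ℚ))), ← Polynomial.map_map, hQ,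
    hG, map_linProd, map_extPow, ← (IsAlgClosed.splits _).roots_map, Polynomial.map_map]

theorem prod_one_sub_pow (s : Multiset K) (m : ℕ) :
    ∑ j ∈ Finset.range (Multiset.card s + 1), (-1 : K) ^ j * ((extPow s j).map fun a => a ^ m).sum =
      (s.map fun a => 1 - a ^ m).prod := by
  have h1 : (s.powerset.map fun I => (-1 : K) ^ Multiset.card I * I.prod ^ m).sum =
      (s.map fun a => 1 - a ^ m).prod := by
    induction s using Multiset.induction_on with
    | empty => simp
    | cons a s ih =>
      rw [Multiset.powerset_cons, Multiset.map_add, Multiset.sum_add, Multiset.map_map, ih, Multiset.map_cons,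
        Multiset.prod_cons]
      rw [show ((fun I => (-1 : K) ^ Multiset.card I * I.prod ^ m) ∘ Multiset.cons a) =
        fun I => (-(a ^ m)) * ((-1 : K) ^ Multiset.card I * I.prod ^ m) from funext fun I => by
          simp only [Function.comp_apply, Multiset.card_cons, Multiset.prod_cons, pow_succ, mul_pow]; ring,
        Multiset.sum_map_mul_left, ih]
      ring
  rw [← h1, ← Multiset.bind_powerset_len, Multiset.map_bind, Multiset.sum_bind]
  show _ = ∑ j ∈ Finset.range (Multiset.card s + 1),
    ((s.powersetCard j).map fun I => (-1 : K) ^ Multiset.card I * I.prod ^ m).sum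
  refine Finset.sum_congr rfl fun j _ => ?_
  rw [extPow, Multiset.map_map, ← Multiset.sum_map_mul_left]
  exact congrArg Multiset.sum (Multiset.map_congr rfl fun I hI => by
    rw [(Multiset.mem_powersetCard.1 hI).2]; rfl)

section Series

open PowerSeries

/-- `∑_{n ≥ 1} (∑ a^n) T^n`. -/
def powSumSeries (s : Multiset K) : K⟦X⟧ := PowerSeries.mk fun n => if n = 0 then 0 else (s.map fun a => a ^ n).sum

theorem X_mul_derivative_linProd (s : Multiset K) :
    PowerSeries.X * PowerSeries.derivative K (linProd s : K⟦X⟧) = (linProd s : K⟦X⟧) * -powSumSeries s ∧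
      PowerSeries.constantCoeff (linProd s : K⟦X⟧) = 1 := by
  induction s using Multiset.induction_on with
  | empty => simp [linProd, powSumSeries, PowerSeries.ext_iff]
  | cons a s ih =>
    have hone : PowerSeries.X * PowerSeries.derivative K ((((1 : K[X]) - Polynomial.C a * Polynomial.X) : K[X]) : K⟦X⟧) =
        ((((1 : K[X]) - Polynomial.C a * Polynomial.X) : K[X]) : K⟦X⟧) *
          -PowerSeries.mk fun n => if n = 0 then 0 else a ^ n := by
      have hd : Polynomial.derivative ((1 : K[X]) - Polynomial.C a * Polynomial.X) = -Polynomial.C a := by simp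
      rw [PowerSeries.derivative_coe, hd, Polynomial.coe_neg, Polynomial.coe_C, Polynomial.coe_sub, Polynomial.coe_one,
        Polynomial.coe_mul, Polynomial.coe_C, Polynomial.coe_X, sub_mul, one_mul, mul_assoc]
      ext n
      rw [map_sub, PowerSeries.coeff_C_mul, map_neg]
      rcases n with _ | n
      · simp
      · rw [PowerSeries.coeff_succ_X_mul, PowerSeries.coeff_succ_X_mul, map_neg, map_neg, PowerSeries.coeff_mk,
          PowerSeries.coeff_mk]
        rcases n with _ | n
        · simp
        · simp [PowerSeries.coeff_C, pow_succ']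
    have hsum : powSumSeries (a ::ₘ s) = (PowerSeries.mk fun n => if n = 0 then 0 else a ^ n) + powSumSeries s := by
      ext n
      simp only [powSumSeries, map_add, PowerSeries.coeff_mk, Multiset.map_cons, Multiset.sum_cons]
      split_ifs <;> simp
    rw [linProd, Multiset.map_cons, Multiset.prod_cons, ← linProd, Polynomial.coe_mul]
    refine ⟨?_, ?_⟩
    · rw [hsum, neg_add]
      exact WeilLib.X_mul_derivative_mul hone ih.1
    · rw [map_mul, ih.2, mul_one]
      simp

variable {k : Type u} [Field k] {X : AlgebraicGeometry.Scheme.{u}}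
  (f : X ⟶ AlgebraicGeometry.Spec (CommRingCat.of k))

/-- From point counts to the zeta function. -/
theorem zetaFun_mul_prod (R : Multiset ℂ)
    (h : ∀ m ≠ 0, (Zeta.nPts f m : ℂ) = (R.map fun a => 1 - a ^ m).prod) :
    (Zeta.zetaFun f).map (algebraMap ℚ ℂ) *
        ∏ j ∈ (Finset.range (Multiset.card R + 1)).filter (fun j => Even j), (linProd (extPow R j) : ℂ⟦X⟧) =
      ∏ j ∈ (Finset.range (Multiset.card R + 1)).filter (fun j => Odd j), (linProd (extPow R j) : ℂ⟦X⟧) := by
  set E := (Finset.range (Multiset.card R + 1)).filter (fun j => Even j)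
  set O := (Finset.range (Multiset.card R + 1)).filter (fun j => Odd j)
  set N : ℂ⟦X⟧ := PowerSeries.mk fun m => (Zeta.nPts f m : ℂ)
  have hN : N = ∑ j ∈ E, powSumSeries (extPow R j) - ∑ j ∈ O, powSumSeries (extPow R j) := by
    ext m
    rw [map_sub, map_sum, map_sum]
    simp only [N, powSumSeries, PowerSeries.coeff_mk]
    rcases eq_or_ne m 0 with rfl | hm
    · simp [Zeta.nPts]
    · simp only [if_neg hm]
      rw [h m hm, ← prod_one_sub_pow, ← Finset.sum_filter_add_sum_filter_not _ (fun j => Even j)]
      have ho : (Finset.range (Multiset.card R + 1)).filter (fun j => ¬ Even j) = O := by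
        simp only [O, Nat.not_even_iff_odd]
      rw [ho, sub_eq_add_neg, ← Finset.sum_neg_distrib]
      congr 1
      · exact Finset.sum_congr rfl fun j hj => by rw [(Finset.mem_filter.1 hj).2.neg_one_pow, one_mul]
      · exact Finset.sum_congr rfl fun j hj => by rw [(Finset.mem_filter.1 hj).2.neg_one_pow, neg_one_mul]
  have hZ : PowerSeries.X * PowerSeries.derivative ℂ (PowerSeries.map (algebraMap ℚ ℂ) (Zeta.zetaFun f)) =
      PowerSeries.map (algebraMap ℚ ℂ) (Zeta.zetaFun f) * N := by
    have e := congrArg (PowerSeries.map (algebraMap ℚ ℂ)) (WeilLib.X_mul_derivative_zetaFun f)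
    rw [map_mul, map_mul, PowerSeries.map_X] at e
    convert e using 2
    · ext m; simp [PowerSeries.coeff_derivative]
    · ext m; simp [N]
  have hE := WeilLib.X_mul_derivative_prod E (f := fun j => (linProd (extPow R j) : ℂ⟦X⟧))
    (fun j _ => (X_mul_derivative_linProd (extPow R j)).1)
  have hO := WeilLib.X_mul_derivative_prod O (f := fun j => (linProd (extPow R j) : ℂ⟦X⟧))
    (fun j _ => (X_mul_derivative_linProd (extPow R j)).1)
  refine WeilLib.eq_of_X_mul_derivative ?_ (WeilLib.X_mul_derivative_mul hZ hE) (hO.trans ?_) ?_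
  · simp [hN, powSumSeries]
  · rw [hN]
    simp only [Finset.sum_neg_distrib]
    ring
  · rw [map_mul, map_prod, map_prod, Finset.prod_eq_one fun j _ => (X_mul_derivative_linProd (extPow R j)).2,
      Finset.prod_eq_one fun j _ => (X_mul_derivative_linProd (extPow R j)).2, mul_one,
      ← PowerSeries.coeff_zero_eq_constantCoeff_apply, PowerSeries.coeff_map,
      PowerSeries.coeff_zero_eq_constantCoeff_apply, WeilLib.constantCoeff_zetaFun, map_one]

end Series

section FuncEq

theorem prod_zpow_const (c : K) (hc : c ≠ 0) (s : Multiset K) (hs : 2 ≤ Multiset.card s) (h0 : (0 : K) ∉ s) :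
    (s.powerset.map fun I => (c * I.prod) ^ ((-1 : ℤ) ^ (Multiset.card I + 1))).prod = 1 := by
  have step : ∀ (a : K) (t : Multiset K), a ≠ 0 → (0 : K) ∉ t →
      ((a ::ₘ t).powerset.map fun I => (c * I.prod) ^ ((-1 : ℤ) ^ (Multiset.card I + 1))).prod =
        (t.powerset.map fun I => a ^ ((-1 : ℤ) ^ Multiset.card I)).prod := by
    intro a t ha ht
    rw [Multiset.powerset_cons, Multiset.map_add, Multiset.prod_add, Multiset.map_map, ← Multiset.prod_map_mul]
    refine congrArg Multiset.prod (Multiset.map_congr rfl fun I hI => ?_)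
    have hI0 : I.prod ≠ 0 := Multiset.prod_ne_zero fun h => ht (Multiset.mem_of_le (Multiset.mem_powerset.1 hI) h)
    simp only [Function.comp_apply, Multiset.card_cons, Multiset.prod_cons, pow_succ, mul_neg, mul_one, neg_neg,
      zpow_neg]
    rw [← mul_assoc, mul_comm c a, mul_assoc, mul_zpow a, inv_inv, mul_left_comm,
      inv_mul_cancel₀ (zpow_ne_zero _ (mul_ne_zero hc hI0)), mul_one]
  obtain ⟨a, ha⟩ := Multiset.exists_mem_of_ne_zero (s := s) (by rintro rfl; simp at hs)
  obtain ⟨t, rfl⟩ := Multiset.exists_cons_of_mem ha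
  have ha0 : a ≠ 0 := fun h => h0 (h ▸ ha)
  rw [step a t ha0 fun h => h0 (Multiset.mem_cons_of_mem h)]
  obtain ⟨b, hb⟩ := Multiset.exists_mem_of_ne_zero (s := t) (by rintro rfl; simp at hs)
  obtain ⟨r, rfl⟩ := Multiset.exists_cons_of_mem hb
  rw [Multiset.powerset_cons, Multiset.map_add, Multiset.prod_add, Multiset.map_map, ← Multiset.prod_map_mul]
  refine Multiset.prod_eq_one fun z hz => ?_
  obtain ⟨I, -, rfl⟩ := Multiset.mem_map.1 hz
  simp only [Function.comp_apply, Multiset.card_cons, pow_succ, mul_neg, mul_one, zpow_neg]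
  exact mul_inv_cancel₀ (zpow_ne_zero _ ha0)

theorem prod_range_eval_zpow (R : Multiset K) (x : K) :
    ∏ j ∈ Finset.range (Multiset.card R + 1), (Polynomial.eval x (linProd (extPow R j))) ^ ((-1 : ℤ) ^ (j + 1)) =
      (R.powerset.map fun I => (1 - I.prod * x) ^ ((-1 : ℤ) ^ (Multiset.card I + 1))).prod := by
  rw [← Multiset.bind_powerset_len, Multiset.map_bind, Multiset.prod_bind]
  show _ = ∏ j ∈ Finset.range (Multiset.card R + 1),
    ((R.powersetCard j).map fun I => (1 - I.prod * x) ^ ((-1 : ℤ) ^ (Multiset.card I + 1))).prod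
  refine Finset.prod_congr rfl fun j _ => ?_
  rw [linProd_extPow, Polynomial.eval_multiset_prod, ← Multiset.prod_map_zpow, Multiset.map_map]
  exact congrArg Multiset.prod (Multiset.map_congr rfl fun I hI => by
    rw [(Multiset.mem_powersetCard.1 hI).2]; simp)

/-- The functional equation of the alternating product. -/
theorem functional_equation (R : Multiset K) (g : ℕ) (hg : 1 ≤ g) (hR : Multiset.card R = 2 * g) (h0 : (0 : K) ∉ R)
    (t : K) (ht : t ≠ 0) :
    ∏ j ∈ Finset.range (2 * g + 1), (Polynomial.eval ((R.prod * t)⁻¹) (linProd (extPow R j))) ^ ((-1 : ℤ) ^ (j + 1)) =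
      ∏ j ∈ Finset.range (2 * g + 1), (Polynomial.eval t (linProd (extPow R j))) ^ ((-1 : ℤ) ^ (j + 1)) := by
  classical
  rw [← hR, prod_range_eval_zpow, prod_range_eval_zpow]
  have hcompl : R.powerset.map (fun I => R - I) = R.powerset := by
    conv_rhs => rw [← Multiset.antidiagonal_map_fst R, Multiset.antidiagonal_eq_map_powerset, Multiset.map_map]
    rfl
  have key : ∀ J ∈ R.powerset, (1 - (R - J).prod * (R.prod * t)⁻¹) ^ ((-1 : ℤ) ^ (Multiset.card (R - J) + 1)) =
      (((-t) * J.prod) ^ ((-1 : ℤ) ^ (Multiset.card J + 1)))⁻¹ *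
        (1 - J.prod * t) ^ ((-1 : ℤ) ^ (Multiset.card J + 1)) := by
    intro J hJ
    rw [Multiset.mem_powerset] at hJ
    have hn : ∀ S ≤ R, S.prod ≠ 0 := fun S hS => Multiset.prod_ne_zero fun h => h0 (Multiset.mem_of_le hS h)
    have hp : R.prod = (R - J).prod * J.prod := by rw [← Multiset.prod_add, Multiset.sub_add_cancel hJ]
    have hJ0 := hn J hJ
    have hS0 := hn (R - J) (Multiset.sub_le_self R J)
    have he : (-1 : ℤ) ^ (Multiset.card (R - J) + 1) = (-1 : ℤ) ^ (Multiset.card J + 1) := by
      have h1 : Multiset.card (R - J) + Multiset.card J = 2 * g := by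
        rw [Multiset.card_sub hJ, Nat.sub_add_cancel (Multiset.card_le_card hJ), hR]
      rw [pow_succ, pow_succ, neg_one_pow_eq_pow_mod_two,
        neg_one_pow_eq_pow_mod_two (n := Multiset.card J), show Multiset.card (R - J) % 2 = Multiset.card J % 2 by omega]
    have hbase : 1 - (R - J).prod * (R.prod * t)⁻¹ = ((-t) * J.prod)⁻¹ * (1 - J.prod * t) := by
      rw [hp]
      field_simp
      ring
    rw [he, hbase, mul_zpow, inv_zpow]
  conv_lhs => rw [← hcompl, Multiset.map_map]
  simp only [Function.comp_def]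
  rw [Multiset.map_congr rfl key, Multiset.prod_map_mul]
  rw [show (R.powerset.map fun J => (((-t) * J.prod) ^ ((-1 : ℤ) ^ (Multiset.card J + 1)))⁻¹).prod = 1 by
    rw [Multiset.prod_map_inv, prod_zpow_const (-t) (neg_ne_zero.2 ht) R (by omega) h0, inv_one], one_mul]

end FuncEq

end AVAmpleLib

end
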