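import Groth.Agent.AVAmpleLib.WeilPoints
import Groth.Agent.AVAmpleLib.NPts
import Groth.Agent.AVAmpleLib.WeilZeta

/-!
The constant term of the characteristic polynomial of the Frobenius, and its zeta function.
-/

set_option autoImplicit false
set_option linter.style.haveILetI false
set_option linter.unusedSectionVars false
set_option backward.isDefEq.respectTransparency false
set_option maxHeartbeats 1000000

noncomputable section

universe u

open CategoryTheory CategoryTheory.Limits MonoidalCategory CartesianMonoidalCategory MonObj AlgebraicGeometry TopologicalSpace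
open Polynomial WeilLib

namespace AVAmpleLib

variable {k : Type u} [Field k] [Finite k] {A : Over (Spec (CommRingCat.of k))}
  [GrpObj A] [IsCommMonObj A] [IsProper A.hom] [GeometricallyIntegral A.hom]
  (πA : A ⟶ A) [IsMonHom πA] (hπb : πA.left.base = 𝟙 _) (hπle : ∀ U : A.left.Opens, U ≤ πA.left ⁻¹ᵁ U)
  (hπapp : ∀ (U : A.left.Opens) (s : Γ(A.left, U)), (πA.left.appLE U U (hπle U)).hom s = s ^ Nat.card k)
  (Ω : Type u) [Field Ω] [Algebra k Ω] [IsAlgClosed Ω] {g : ℕ} (hA : topologicalKrullDim A.left = (g : ℕ))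

attribute [local instance] grpBc commBc proper_bc gi_bc

include hA in
theorem coeff_zero_nonneg {φ : EndAV.End A} {P : ℤ[X]}
    (hP : IsCharPoly g (endBc Ω A φ) (P.map (Int.castRingHom ℚ))) : 0 ≤ P.coeff 0 := by
  haveI : IsIntegral A.left := isIntegral_left A
  have h0 := hP.2.2 0
  rw [Int.cast_zero, ← coeff_zero_eq_eval_zero, coeff_map, eq_intCast, Int.cast_zero, sub_zero] at h0
  obtain ⟨h1, h2⟩ := finite_cases_bc Ω A hA φ (f := EndAV.Hom.toHom φ) rfl
  have : (0 : ℚ) ≤ (P.coeff 0 : ℚ) := by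
    rw [h0]
    by_cases hf : IsFinite (EndAV.Hom.toHom φ).left
    · rw [← h1 hf (genericPoint A.left)]; exact Nat.cast_nonneg _
    · rw [h2 hf]
  exact_mod_cast this

include hπb hπapp hA in
theorem prod_roots_frob {P : ℤ[X]} (hm : P.Monic) (hd : P.natDegree = 2 * g)
    (hP : IsCharPoly g (endBc Ω A (EndAV.End.of πA)) (P.map (Int.castRingHom ℚ))) :
    (P.map (Int.castRingHom ℂ)).roots.prod = (Nat.card k : ℂ) ^ g := by
  set R := (P.map (Int.castRingHom ℂ)).roots with hR
  have hs : (P.map (Int.castRingHom ℂ)).Splits := IsAlgClosed.splits _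
  have h0 : (P.coeff 0 : ℂ) = R.prod := by
    have := hs.coeff_zero_eq_prod_roots_of_monic (hm.map _)
    rwa [coeff_map, eq_intCast, hm.natDegree_map, hd, pow_mul, neg_one_sq, one_pow, _root_.one_mul] at this
  have hn := norm_root_frob πA hπb hπle hπapp Nat.card_pos Ω hA hP
  have hcard : R.card = 2 * g := by rw [← hs.natDegree_eq_card_roots, hm.natDegree_map, hd]
  have hnorm : ‖R.prod‖ = (Nat.card k : ℝ) ^ g := by
    rw [show ‖R.prod‖ = (R.map fun α => ‖α‖).prod from map_multiset_prod (normHom (α := ℂ)) R,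
      Multiset.map_congr rfl hn, Multiset.map_const', Multiset.prod_replicate, hcard, pow_mul,
      Real.sq_sqrt (Nat.cast_nonneg _)]
  have hz := coeff_zero_nonneg Ω hA hP
  rw [← h0, Complex.norm_intCast, abs_of_nonneg (by exact_mod_cast hz)] at hnorm
  rw [← h0]
  exact_mod_cast hnorm

include hπb hπapp hA in
theorem nPts_frob {P : ℤ[X]} (hm : P.Monic) (hd : P.natDegree = 2 * g)
    (hP : IsCharPoly g (endBc Ω A (EndAV.End.of πA)) (P.map (Int.castRingHom ℚ))) {m : ℕ} (hm0 : m ≠ 0) :
    (Zeta.nPts A.hom m : ℂ) = ((P.map (Int.castRingHom ℂ)).roots.map fun α => 1 - α ^ m).prod := by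
  obtain ⟨k', _, _, _, hk, hcard⟩ := exists_ext_natCard_eq_nPts A (Φ := fun m => endIter πA.left m)
    (fun m => endIter_apply hπb m) (fun m => stk_endIter hπb hπle hπapp m)
    (fun m L _ hL x => comp_eq_of_pow (endIter_apply hπb m) (stk_endIter hπb hπle hπapp m) hL x) hm0
  rw [← hcard, natCard_points_frob πA hπb hπle hπapp k' Ω hA hm hd hP, hk]

end AVAmpleLib

end
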