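import Groth.Agent.AVAmpleLib.WeilRoots
import Groth.Agent.AVAmpleLib.Simple

/-!
When `ℚ[π]` is a field.
-/

set_option autoImplicit false
set_option linter.style.haveILetI false
set_option linter.unusedSectionVars false
set_option backward.isDefEq.respectTransparency false
set_option maxHeartbeats 1000000

noncomputable section

universe u

open CategoryTheory CategoryTheory.Limits MonoidalCategory CartesianMonoidalCategory MonObj AlgebraicGeometry TopologicalSpace
open Polynomial

namespace AVAmpleLib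

theorem isField_adjoin {S : Type*} [Ring S] [Algebra ℚ S] (x : S) (h : Irreducible (minpoly ℚ x)) :
    IsField (Algebra.adjoin ℚ {x}) := by
  haveI := Fact.mk h
  let f : AdjoinRoot (minpoly ℚ x) →ₐ[ℚ] S :=
    Ideal.Quotient.liftₐ _ (aeval x) fun a ha => by
      obtain ⟨c, rfl⟩ := Ideal.mem_span_singleton.1 ha
      rw [map_mul, minpoly.aeval, zero_mul]
  have hinj : Function.Injective f := by
    refine (injective_iff_map_eq_zero f).2 fun a ha => ?_
    obtain ⟨a, rfl⟩ := Ideal.Quotient.mk_surjective a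
    exact Ideal.Quotient.eq_zero_iff_mem.2 (Ideal.mem_span_singleton.2 (minpoly.dvd ℚ x ha))
  have hr : f.range = Algebra.adjoin ℚ {x} := by
    rw [Algebra.adjoin_singleton_eq_range_aeval]
    refine le_antisymm (fun y ⟨a, ha⟩ => ?_) fun y ⟨a, ha⟩ => ⟨Ideal.Quotient.mk _ a, ha⟩
    obtain ⟨a, rfl⟩ := Ideal.Quotient.mk_surjective a
    exact ⟨a, ha⟩
  exact MulEquiv.isField (Field.toIsField (AdjoinRoot (minpoly ℚ x)))
    ((AlgEquiv.ofInjective f hinj).trans (Subalgebra.equivOfEq _ _ hr)).symm.toMulEquiv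

theorem irreducible_minpoly_of_isField {S : Type*} [Ring S] [Algebra ℚ S] (x : S) (hint : IsIntegral ℚ x)
    (h : IsField (Algebra.adjoin ℚ {x})) : Irreducible (minpoly ℚ x) := by
  haveI : Nontrivial (Algebra.adjoin ℚ {x}) := ⟨h.exists_pair_ne⟩
  haveI : IsDomain (Algebra.adjoin ℚ {x}) := by
    haveI : NoZeroDivisors (Algebra.adjoin ℚ {x}) := ⟨fun {a b} hab => by
      refine or_iff_not_imp_left.2 fun ha => ?_
      obtain ⟨c, hc⟩ := h.mul_inv_cancel ha
      have := congrArg (fun z => c * z) hab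
      rwa [← _root_.mul_assoc, h.mul_comm c a, hc, _root_.one_mul, MulZeroClass.mul_zero] at this⟩
    exact NoZeroDivisors.to_isDomain _
  have hx : x ∈ Algebra.adjoin ℚ {x} := Algebra.self_mem_adjoin_singleton ℚ x
  rw [show x = (Algebra.adjoin ℚ {x}).val ⟨x, hx⟩ from rfl, minpoly.algHom_eq _ Subtype.val_injective]
  exact minpoly.irreducible ((isIntegral_algHom_iff (Algebra.adjoin ℚ {x}).val Subtype.val_injective (x := ⟨x, hx⟩)).1 hint)

variable {k : Type u} [Field k] (Ω : Type u) [Field Ω] [Algebra k Ω] [IsAlgClosed Ω]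
  {A : Over (Spec (CommRingCat.of k))} [GrpObj A] [IsCommMonObj A] [IsProper A.hom] [GeometricallyIntegral A.hom]
  (l : ℕ) [Fact l.Prime]
  [Module.Free ℤ_[l] (AbDual.TateMod A l (SGA7.pt (K := k) Ω))]
  [Module.Finite ℤ_[l] (AbDual.TateMod A l (SGA7.pt (K := k) Ω))]

/-- Without a non-zero endomorphism the characteristic polynomials are `1`. -/
theorem charpoly_eq_one (h : (1 : EndAV.End A) = 0) (φ : EndAV.End A) :
    (EndAV.End.tateRep (A := A) l (SGA7.pt Ω) φ).charpoly = 1 := by
  have h1 : (1 : Module.End ℤ_[l] (AbDual.TateMod A l (SGA7.pt (K := k) Ω))) = 0 := by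
    rw [← map_one (EndAV.End.tateRep (A := A) l (SGA7.pt Ω)), h, map_zero]
  haveI : Subsingleton (AbDual.TateMod A l (SGA7.pt (K := k) Ω)) :=
    ⟨fun x y => (LinearMap.congr_fun h1 x).trans (LinearMap.congr_fun h1 y).symm⟩
  exact (LinearMap.charpoly_monic _).natDegree_eq_zero.1
    (by rw [LinearMap.charpoly_natDegree, Module.finrank_zero_of_subsingleton])

/-- Cayley–Hamilton in the endomorphism ring. -/
theorem aeval_charpoly_eq_zero (hl : (l : Ω) ≠ 0) (φ : EndAV.End A) {P : ℤ[X]}
    (hP : (EndAV.End.tateRep (A := A) l (SGA7.pt Ω) φ).charpoly = P.map (Int.castRingHom ℤ_[l])) :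
    aeval φ P = 0 := by
  apply tateMap_injective_ext (A := A) (B := A) Ω l hl
  rw [map_zero]
  show EndAV.End.tateRep (A := A) l (SGA7.pt Ω) (aeval φ P) = 0
  rw [aeval_def, hom_eval₂, Subsingleton.elim ((EndAV.End.tateRep (A := A) l (SGA7.pt Ω)).comp (algebraMap ℤ _))
    ((algebraMap ℤ_[l] _).comp (Int.castRingHom ℤ_[l])), ← eval₂_map, ← hP, ← aeval_def]
  exact LinearMap.aeval_self_charpoly _

end AVAmpleLib

end
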