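import Mathlib.Analysis.Complex.Polynomial.Basic
import Mathlib.Analysis.Polynomial.Basic
import Mathlib.Analysis.SpecialFunctions.Log.Basic
import Mathlib.RingTheory.Polynomial.Resultant.Basic
import Mathlib.RingTheory.Polynomial.RationalRoot
import Mathlib.Topology.Order.IntermediateValue

/-!
Elementary facts on polynomials whose roots all have absolute value `√q`.
-/

set_option autoImplicit false

noncomputable section

open Polynomial

namespace AVAmpleLib

theorem eval_zero_pos_of_no_root {R : ℝ[X]} (hm : R.Monic) (h : ∀ x, R.eval x ≠ 0) : 0 < R.eval 0 := by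
  rcases Nat.eq_zero_or_pos R.natDegree with hd | hd
  · rw [hm.natDegree_eq_zero.1 hd, eval_one]; exact one_pos
  have ht := R.tendsto_atTop_of_leadingCoeff_nonneg (natDegree_pos_iff_degree_pos.1 hd)
    (by rw [hm.leadingCoeff]; exact zero_le_one)
  obtain ⟨x, hx0, hx⟩ := ((Filter.eventually_ge_atTop 0).and (ht.eventually (Filter.eventually_gt_atTop 0))).exists
  by_contra hle
  obtain ⟨y, -, hy⟩ := intermediate_value_Icc hx0 R.continuous.continuousOn ⟨not_lt.1 hle, hx.le⟩
  exact h y hy

theorem even_natDegree_of_no_root {R : ℝ[X]} (hm : R.Monic) (h : ∀ x, R.eval x ≠ 0) : Even R.natDegree := by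
  have hd : (R.comp (-X)).natDegree = R.natDegree := by rw [natDegree_comp, natDegree_neg, natDegree_X, mul_one]
  set S := C ((-1 : ℝ) ^ R.natDegree) * R.comp (-X) with hS
  have hSm : S.Monic := by
    apply monic_C_mul_of_mul_leadingCoeff_eq_one
    rw [leadingCoeff_comp (by rw [natDegree_neg, natDegree_X]; exact one_ne_zero), hm.leadingCoeff, one_mul,
      leadingCoeff_neg, leadingCoeff_X, ← mul_pow, neg_one_mul, neg_neg, one_pow]
  have h1 := eval_zero_pos_of_no_root hm h
  have h2 := eval_zero_pos_of_no_root hSm fun x => by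
    rw [hS, eval_mul, eval_C, eval_comp]
    exact mul_ne_zero (pow_ne_zero _ (by norm_num)) (h _)
  rw [hS, eval_mul, eval_C, eval_comp, eval_neg, eval_X, neg_zero] at h2
  by_contra ho
  rw [(Nat.not_even_iff_odd.1 ho).neg_one_pow] at h2
  linarith

/-- The real roots `±√q` have even multiplicity. -/
theorem even_rootMultiplicity {P : ℝ[X]} {c : ℝ} (hc : 0 < c) (hm : P.Monic) (he : Even P.natDegree)
    (hr : ∀ x, P.eval x = 0 → x = c ∨ x = -c) (h0 : 0 ≤ P.eval 0) :
    Even (P.rootMultiplicity c) ∧ Even (P.rootMultiplicity (-c)) := by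
  obtain ⟨R₁, hR₁, h₁⟩ := exists_eq_pow_rootMultiplicity_mul_and_not_dvd P hm.ne_zero c
  set a := P.rootMultiplicity c
  have hm₁ : R₁.Monic := ((monic_X_sub_C c).pow a).of_mul_monic_left (hR₁ ▸ hm)
  obtain ⟨R, hR, h₂⟩ := exists_eq_pow_rootMultiplicity_mul_and_not_dvd R₁ hm₁.ne_zero (-c)
  have hb : P.rootMultiplicity (-c) = R₁.rootMultiplicity (-c) := by
    rw [hR₁, rootMultiplicity_mul (hR₁ ▸ hm.ne_zero), rootMultiplicity_eq_zero, zero_add]
    simp only [IsRoot, eval_pow, eval_sub, eval_X, eval_C]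
    exact pow_ne_zero _ (by linarith)
  set b := R₁.rootMultiplicity (-c)
  have hmR : R.Monic := ((monic_X_sub_C (-c)).pow b).of_mul_monic_left (hR ▸ hm₁)
  have hno : ∀ x, R.eval x ≠ 0 := fun x hx => by
    have hx₁ : R₁.eval x = 0 := by rw [hR, eval_mul, hx, mul_zero]
    rcases hr x (by rw [hR₁, eval_mul, hx₁, mul_zero]) with rfl | rfl
    · exact h₁ (dvd_iff_isRoot.2 hx₁)
    · exact h₂ (dvd_iff_isRoot.2 hx)
  have hdeg : P.natDegree = a + (b + R.natDegree) := by
    rw [hR₁, ((monic_X_sub_C c).pow a).natDegree_mul hm₁, natDegree_pow, natDegree_X_sub_C, hR,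
      ((monic_X_sub_C (-c)).pow b).natDegree_mul hmR, natDegree_pow, natDegree_X_sub_C, mul_one, mul_one]
  have hev : P.eval 0 = (-1) ^ a * (c ^ a * c ^ b * R.eval 0) := by
    rw [hR₁, eval_mul, hR, eval_mul, eval_pow, eval_pow, eval_sub, eval_sub, eval_X, eval_C, eval_C, zero_sub,
      zero_sub, neg_neg, neg_pow]
    ring
  have hpos : 0 < c ^ a * c ^ b * R.eval 0 := by
    have := eval_zero_pos_of_no_root hmR hno
    positivity
  have ha : Even a := by
    by_contra ho
    rw [hev, (Nat.not_even_iff_odd.1 ho).neg_one_pow] at h0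
    linarith
  refine ⟨ha, ?_⟩
  rw [hb]
  have hR2 := even_natDegree_of_no_root hmR hno
  rw [hdeg] at he
  simp only [Nat.even_add, ha, hR2, true_iff, iff_true] at he
  exact he

/-- The refined trace bound, with its equality case. -/
theorem nextCoeff_extremal {P : ℤ[X]} {g q : ℕ} (hq : 0 < q) (hm : P.Monic) (hd : P.natDegree = 2 * g)
    (hn : ∀ α ∈ (P.map (Int.castRingHom ℂ)).roots, ‖α‖ = Real.sqrt q) (σ : ℤ) (hσ : σ = 1 ∨ σ = -1) :
    (σ : ℝ) * P.nextCoeff ≤ g * (⌊2 * Real.sqrt q⌋ : ℝ) ∧
      ((σ : ℝ) * P.nextCoeff = g * (⌊2 * Real.sqrt q⌋ : ℝ) → ∀ α ∈ (P.map (Int.castRingHom ℂ)).roots,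
        (σ : ℝ) * (α.re + α.re) = -(⌊2 * Real.sqrt q⌋ : ℝ)) := by
  classical
  set m : ℤ := ⌊2 * Real.sqrt q⌋
  set PC := P.map (Int.castRingHom ℂ)
  have hPC : PC.Monic := hm.map _
  have hdC : PC.natDegree = 2 * g := by rw [hm.natDegree_map]; exact hd
  have hs : PC.Splits := IsAlgClosed.splits _
  have hcard : PC.roots.card = 2 * g := by rw [← hdC, ← hs.natDegree_eq_card_roots]
  have hsum : PC.roots.sum = -(P.nextCoeff : ℂ) := by
    rw [← neg_neg PC.roots.sum, ← hs.nextCoeff_eq_neg_sum_roots_of_monic hPC, nextCoeff_map (RingHom.injective_int _),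
      eq_intCast]
  have hint : ∀ α ∈ PC.roots, IsIntegral ℤ α := fun α hα => ⟨P, hm, by
    rw [← eval_map, algebraMap_int_eq]
    exact (mem_roots'.1 hα).2⟩
  have hnz : ∀ α ∈ PC.roots, α ≠ 0 := fun α hα h0 => by
    have := hn α hα
    rw [h0, norm_zero] at this
    exact (Real.sqrt_pos.2 (Nat.cast_pos.2 hq)).ne this
  have hmul : ∀ α ∈ PC.roots, (α.re + α.re : ℝ) * α = α * α + (q : ℂ) := fun α hα => by
    have h1 : starRingEnd ℂ α * α = (q : ℂ) := by
      rw [← Complex.normSq_eq_conj_mul_self, Complex.normSq_eq_norm_sq, hn α hα, Real.sq_sqrt (Nat.cast_nonneg q)]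
      simp
    rw [← h1, ← add_mul, Complex.add_conj]
    push_cast
    ring
  let y : ℂ → ℝ := fun α => (m + 1 : ℝ) + σ * (α.re + α.re)
  have hy : ∀ α ∈ PC.roots, 0 < y α := fun α hα => by
    have h1 := Int.lt_floor_add_one (2 * Real.sqrt (q:ℝ))
    have h2 := Complex.abs_re_le_norm α
    rw [hn α hα, abs_le] at h2
    have h3 : (σ : ℝ) * (α.re + α.re) ≥ -(2 * Real.sqrt q) := by
      rcases hσ with rfl | rfl <;> push_cast <;> linarith
    simp only [y, m]
    linarith
  have hyint : ∀ α ∈ PC.roots, IsIntegral ℤ ((y α : ℝ) : ℂ) := fun α hα => by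
    have : ((y α : ℝ) : ℂ) = algebraMap ℤ ℂ (m + 1) + algebraMap ℤ ℂ σ * (α + starRingEnd ℂ α) := by
      rw [Complex.add_conj]
      simp only [y, algebraMap_int_eq, eq_intCast]
      push_cast
      ring
    rw [this]
    exact (isIntegral_algebraMap).add (isIntegral_algebraMap.mul
      ((hint α hα).add ((hint α hα).map (starRingEnd ℂ).toIntAlgHom)))
  -- the product of the `y α` is a positive integer
  set G : ℤ[X] := C σ * X ^ 2 + C (m + 1) * X + C (σ * q)
  have hG : G.natDegree ≤ 2 := by simp only [G]; compute_degree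
  have hprod : ((PC.roots.map fun α => ((y α : ℝ) : ℂ)).prod) * (P.coeff 0 : ℂ) = (P.resultant G P.natDegree 2 : ℤ) := by
    have h0 : (P.coeff 0 : ℂ) = PC.roots.prod := by
      have := hs.coeff_zero_eq_prod_roots_of_monic hPC
      rw [coeff_map, eq_intCast, hdC, pow_mul, neg_one_sq, one_pow, one_mul] at this
      exact this
    rw [← eq_intCast (Int.castRingHom ℂ) (P.resultant G P.natDegree 2), ← resultant_map_map, h0,
      ← hm.natDegree_map (Int.castRingHom ℂ), resultant_eq_prod_eval _ _ _ (natDegree_map_le.trans hG) hs,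
      hPC.leadingCoeff, one_pow, one_mul]
    nth_rw 2 [← Multiset.map_id' PC.roots]
    rw [← Multiset.prod_map_mul]
    refine congrArg Multiset.prod (Multiset.map_congr rfl fun α hα => ?_)
    have h := hmul α hα
    simp only [G, y, Polynomial.map_add, Polynomial.map_mul, Polynomial.map_pow, map_X, map_C, eval_add, eval_mul,
      eval_pow, eval_X, eval_C, eq_intCast, Int.cast_add, Int.cast_mul, Int.cast_natCast, Int.cast_one,
      Polynomial.map_intCast, Polynomial.map_natCast, Polynomial.map_one, eval_intCast, eval_natCast, eval_one]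
    push_cast at h ⊢
    linear_combination (σ : ℂ) * h
  have hP0 : (P.coeff 0 : ℂ) ≠ 0 := by
    have := hs.coeff_zero_eq_prod_roots_of_monic hPC
    rw [coeff_map, eq_intCast] at this
    rw [this]
    exact mul_ne_zero (pow_ne_zero _ (by norm_num)) (Multiset.prod_ne_zero fun h => hnz 0 h rfl)
  obtain ⟨N, hN⟩ : ∃ N : ℤ, ((PC.roots.map fun α => ((y α : ℝ) : ℂ)).prod) = N := by
    have hi : IsIntegral ℤ ((PC.roots.map fun α => ((y α : ℝ) : ℂ)).prod) :=
      IsIntegral.multiset_prod fun z hz => by
        obtain ⟨α, hα, rfl⟩ := Multiset.mem_map.1 hz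
        exact hyint α hα
    have hrat : ((PC.roots.map fun α => ((y α : ℝ) : ℂ)).prod) =
        algebraMap ℚ ℂ ((P.resultant G P.natDegree 2 : ℚ) / (P.coeff 0 : ℚ)) := by
      rw [map_div₀, map_intCast, map_intCast, eq_div_iff hP0]
      exact hprod
    rw [hrat] at hi ⊢
    obtain ⟨N, hN⟩ := IsIntegrallyClosed.isIntegral_iff.1
      ((isIntegral_algebraMap_iff (algebraMap ℚ ℂ).injective).1 hi)
    exact ⟨N, by rw [← hN]; simp⟩
  have hyprod : (PC.roots.map y).prod = (N : ℝ) := by
    have : ((((PC.roots.map y).prod : ℝ)) : ℂ) = ((N : ℝ) : ℂ) := by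
      rw [← Complex.ofRealHom_eq_coe, map_multiset_prod, Multiset.map_map]
      push_cast
      exact hN
    exact_mod_cast this
  have hpos : 0 < (PC.roots.map y).prod := Multiset.prod_pos fun z hz => by
    obtain ⟨α, hα, rfl⟩ := Multiset.mem_map.1 hz
    exact hy α hα
  have h1 : (1 : ℝ) ≤ (PC.roots.map y).prod := by
    rw [hyprod] at hpos ⊢
    exact_mod_cast (show (1 : ℤ) ≤ N by exact_mod_cast hpos)
  have hlog : 0 ≤ (PC.roots.map fun α => Real.log (y α)).sum := by
    have hl := Real.log_multiset_prod (s := PC.roots.map y) fun z hz => by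
      obtain ⟨α, hα, rfl⟩ := Multiset.mem_map.1 hz
      exact (hy α hα).ne'
    rw [Multiset.map_map] at hl
    rw [show (fun α => Real.log (y α)) = Real.log ∘ y from rfl, ← hl]
    exact Real.log_nonneg h1
  have hle : (PC.roots.map fun α => Real.log (y α)).sum ≤ (PC.roots.map fun α => y α - 1).sum :=
    Multiset.sum_map_le_sum_map _ _ fun α hα => Real.log_le_sub_one_of_pos (hy α hα)
  have hre : (PC.roots.map fun α => α.re).sum = -(P.nextCoeff : ℝ) := by
    have := congrArg Complex.re hsum
    refine ((map_multiset_sum Complex.reAddGroupHom PC.roots).symm.trans this).trans ?_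
    simp
  have hval : (PC.roots.map fun α => y α - 1).sum = (2 * g : ℕ) * (m : ℝ) - 2 * σ * P.nextCoeff := by
    have : (fun α => y α - 1) = fun α : ℂ => (m : ℝ) + 2 * σ * α.re := by
      funext α; simp only [y]; ring
    rw [this, Multiset.sum_map_add, Multiset.map_const', Multiset.sum_replicate, hcard, Multiset.sum_map_mul_left,
      hre, nsmul_eq_mul]
    ring
  push_cast at hval
  refine ⟨by nlinarith [hlog, hle, hval], fun heq α hα => ?_⟩
  by_contra hne
  have hy1 : y α ≠ 1 := fun h => hne (by simp only [y] at h; linarith)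
  have hlt : (PC.roots.map fun α => Real.log (y α)).sum < (PC.roots.map fun α => y α - 1).sum :=
    Multiset.sum_lt_sum (fun β hβ => Real.log_le_sub_one_of_pos (hy β hβ))
      ⟨α, hα, Real.log_lt_sub_one_of_pos (hy α hα) hy1⟩
  nlinarith [hlog, hlt, hval, heq]

/-- The refined trace bound. -/
theorem abs_nextCoeff_le {P : ℤ[X]} {g q : ℕ} (hq : 0 < q) (hm : P.Monic) (hd : P.natDegree = 2 * g)
    (hn : ∀ α ∈ (P.map (Int.castRingHom ℂ)).roots, ‖α‖ = Real.sqrt q) :
    |(P.nextCoeff : ℝ)| ≤ (g : ℝ) * (⌊2 * Real.sqrt q⌋ : ℝ) := by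
  have h1 := (nextCoeff_extremal hq hm hd hn 1 (Or.inl rfl)).1
  have h2 := (nextCoeff_extremal hq hm hd hn (-1) (Or.inr rfl)).1
  push_cast at h1 h2
  rw [abs_le]
  constructor <;> linarith

/-- A polynomial whose roots satisfy a quadratic equation and sum to `g` times its root sum is a power of it. -/
theorem eq_quadratic_pow {P : ℤ[X]} {g : ℕ} (hm : P.Monic) (hd : P.natDegree = 2 * g) (b c : ℤ)
    (hroot : ∀ α ∈ (P.map (Int.castRingHom ℂ)).roots, α ^ 2 + (b : ℂ) * α + c = 0)
    (hb : P.nextCoeff = g * b) : P = (X ^ 2 + C b * X + C c) ^ g := by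
  classical
  set PC := P.map (Int.castRingHom ℂ)
  set R := X ^ 2 + C (b : ℂ) * X + C (c : ℂ) with hR
  have hPC : PC.Monic := hm.map _
  have hs : PC.Splits := IsAlgClosed.splits _
  have hcard : PC.roots.card = 2 * g := by
    rw [← hs.natDegree_eq_card_roots, hm.natDegree_map, hd]
  have hRd : R.natDegree = 2 := by rw [hR]; compute_degree!
  have hRm : R.Monic := by rw [hR]; monicity!
  have hRs : R.Splits := IsAlgClosed.splits _
  obtain ⟨β, β', hβ⟩ := Multiset.card_eq_two.1 (show R.roots.card = 2 by rw [← hRs.natDegree_eq_card_roots, hRd])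
  have hββ : β + β' = -(b : ℂ) := by
    have h := hRs.nextCoeff_eq_neg_sum_roots_of_monic hRm
    rw [hβ, nextCoeff, hRd, if_neg two_ne_zero] at h
    simp [hR, coeff_C, -map_intCast] at h
    linear_combination h
  have hmem : ∀ α ∈ PC.roots, α = β ∨ α = β' := fun α hα => by
    have : α ∈ R.roots := (mem_roots hRm.ne_zero).2 (by simp [IsRoot, hR, hroot α hα])
    rw [hβ] at this
    simpa using this
  have hsum : PC.roots.sum = g * (β + β') := by
    have h := hs.nextCoeff_eq_neg_sum_roots_of_monic hPC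
    rw [nextCoeff_map (RingHom.injective_int _), hb] at h
    simp at h
    rw [hββ]
    linear_combination h
  have key : PC.roots = g • ({β, β'} : Multiset ℂ) := by
    set s := PC.roots.filter (fun α => α = β)
    have hsplit : PC.roots = Multiset.replicate (PC.roots.count β) β +
        Multiset.replicate (2 * g - PC.roots.count β) β' := by
      conv_lhs => rw [← Multiset.filter_add_not (fun α => α = β) PC.roots]
      rw [Multiset.filter_eq']
      congr 1
      rw [Multiset.eq_replicate]
      refine ⟨?_, fun α hα => ?_⟩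
      · have h := congrArg Multiset.card (Multiset.filter_add_not (fun α => α = β) PC.roots)
        rw [Multiset.card_add, Multiset.filter_eq', Multiset.card_replicate, hcard] at h
        omega
      · rw [Multiset.mem_filter] at hα
        exact (hmem α hα.1).resolve_left hα.2
    have hle : PC.roots.count β ≤ 2 * g := hcard ▸ Multiset.count_le_card _ _
    by_cases hne : β = β'
    · subst hne
      rw [hsplit, ← Multiset.replicate_add, Nat.add_sub_cancel' hle]
      simp [Multiset.insert_eq_cons, Multiset.nsmul_cons, Multiset.nsmul_singleton, ← Multiset.replicate_add, two_mul]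
    · have h2 : ((PC.roots.count β : ℂ) - g) * (β - β') = 0 := by
        have h3 := congrArg Multiset.sum hsplit
        rw [hsum, Multiset.sum_add, Multiset.sum_replicate, Multiset.sum_replicate, nsmul_eq_mul, nsmul_eq_mul,
          Nat.cast_sub hle] at h3
        push_cast at h3
        linear_combination -h3
      have hc : PC.roots.count β = g := by
        have := (mul_eq_zero.1 h2).resolve_right (sub_ne_zero.2 hne)
        exact_mod_cast sub_eq_zero.1 this
      rw [hsplit, hc, show 2 * g - g = g by omega, Multiset.insert_eq_cons, Multiset.nsmul_cons,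
        Multiset.nsmul_singleton, Multiset.nsmul_singleton]
  refine Polynomial.map_injective (Int.castRingHom ℂ) (RingHom.injective_int _) ?_
  show PC = _
  rw [Polynomial.map_pow]
  rw [Polynomial.map_add, Polynomial.map_add, Polynomial.map_mul, Polynomial.map_pow, map_X, map_C, map_C,
    eq_intCast (Int.castRingHom ℂ) b, eq_intCast (Int.castRingHom ℂ) c, ← hR, hs.eq_prod_roots_of_monic hPC, key, Multiset.map_nsmul, Multiset.prod_nsmul, ← hβ,
    ← hRs.eq_prod_roots_of_monic hRm]

end AVAmpleLib

end
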