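import Groth.Agent.AVAmpleLib.Weil
import Groth.Agent.AVAmpleLib.TateLattice
import Mathlib.RingTheory.SimpleModule.Basic
import Mathlib.RingTheory.Artinian.Module
import Mathlib.RingTheory.AdjoinRoot

/-!
The roots of the characteristic polynomial of the Frobenius and the semisimplicity of `ℚ[π]`.
-/

set_option autoImplicit false
set_option linter.style.haveILetI false
set_option linter.unusedSectionVars false
set_option backward.isDefEq.respectTransparency false
set_option maxHeartbeats 1000000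

noncomputable section

universe u

open CategoryTheory CategoryTheory.Limits MonoidalCategory CartesianMonoidalCategory MonObj AlgebraicGeometry TopologicalSpace
open Polynomial

namespace AVAmpleLib

theorem isSemisimpleRing_adjoin {S : Type*} [Ring S] [Algebra ℚ S] (x : S) (h : IsIntegral ℚ x)
    (hsq : Squarefree (minpoly ℚ x)) : IsSemisimpleRing (Algebra.adjoin ℚ {x}) := by
  haveI : Module.Finite ℚ (AdjoinRoot (minpoly ℚ x)) := (minpoly.monic h).finite_adjoinRoot
  haveI : IsArtinianRing (AdjoinRoot (minpoly ℚ x)) := IsArtinianRing.of_finite ℚ _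
  haveI : IsReduced (AdjoinRoot (minpoly ℚ x)) :=
    (Ideal.isRadical_iff_quotient_reduced _).1 ((isRadical_iff_span_singleton).1 hsq.isRadical)
  haveI : IsSemisimpleRing (AdjoinRoot (minpoly ℚ x)) := IsArtinianRing.isSemisimpleRing_of_isReduced _
  let f : AdjoinRoot (minpoly ℚ x) →ₐ[ℚ] S :=
    Ideal.Quotient.liftₐ _ (aeval x) fun a ha => by
      obtain ⟨c, rfl⟩ := Ideal.mem_span_singleton.1 ha
      rw [map_mul, minpoly.aeval, zero_mul]
  have hinj : Function.Injective f := by
    refine (injective_iff_map_eq_zero f).2 fun a ha => ?_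
    obtain ⟨a, rfl⟩ := Ideal.Quotient.mk_surjective a
    exact Ideal.Quotient.eq_zero_iff_mem.2 (Ideal.mem_span_singleton.2 (minpoly.dvd ℚ x ha))
  have hr : f.range = Algebra.adjoin ℚ {x} := by
    rw [Algebra.adjoin_singleton_eq_range_aeval]
    refine le_antisymm (fun y ⟨a, ha⟩ => ?_) fun y ⟨a, ha⟩ => ⟨Ideal.Quotient.mk _ a, ha⟩
    obtain ⟨a, rfl⟩ := Ideal.Quotient.mk_surjective a
    exact ⟨a, ha⟩
  exact ((AlgEquiv.ofInjective f hinj).trans (Subalgebra.equivOfEq _ _ hr)).toRingEquiv.isSemisimpleRing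

variable {k : Type u} [Field k] {A : Over (Spec (CommRingCat.of k))}
  [GrpObj A] [IsCommMonObj A] [IsProper A.hom] [GeometricallyIntegral A.hom]
  (πA : A ⟶ A) [IsMonHom πA] (hπb : πA.left.base = 𝟙 _) (hπle : ∀ U : A.left.Opens, U ≤ πA.left ⁻¹ᵁ U) {q : ℕ}
  (hπapp : ∀ (U : A.left.Opens) (s : Γ(A.left, U)), (πA.left.appLE U U (hπle U)).hom s = s ^ q) (hq : 0 < q)

include hπb hπapp hq in
theorem squarefree_minpoly_frob :
    Squarefree (minpoly ℚ (EndAV.toEnd0 (EndAV.End.of πA))) ∧ IsIntegral ℚ (EndAV.toEnd0 (EndAV.End.of πA)) := by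
  obtain ⟨Q, hQm, hQ, hQ0, -, hnd⟩ := exists_weil_poly πA hπb hπle hπapp hq
  refine ⟨?_, ⟨Q.map (Int.castRingHom ℚ), hQm.map _, ?_⟩⟩
  · apply Separable.squarefree
    rw [← hQ, ← separable_map (algebraMap ℚ ℂ), ← nodup_roots_iff_of_splits
      ((hQm.map _).map _).ne_zero (IsAlgClosed.splits _), Polynomial.map_map,
      Subsingleton.elim ((algebraMap ℚ ℂ).comp (Int.castRingHom ℚ)) (Int.castRingHom ℂ)]
    exact hnd
  · rw [← aeval_def, hQ, minpoly.aeval]

attribute [local instance] grpBc commBc proper_bc gi_bc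

include hπb hπapp hq in
/-- The Frobenius is killed by a separable integral polynomial. -/
theorem exists_separable_annihilator :
    ∃ Q : ℤ[X], Q.Monic ∧ aeval (EndAV.End.of πA) Q = 0 ∧ (Q.map (Int.castRingHom ℚ)).Separable := by
  obtain ⟨Q, hQm, -, hQ0, -, hnd⟩ := exists_weil_poly πA hπb hπle hπapp hq
  refine ⟨Q, hQm, hQ0, ?_⟩
  rw [← separable_map (algebraMap ℚ ℂ), ← nodup_roots_iff_of_splits
    ((hQm.map _).map _).ne_zero (IsAlgClosed.splits _), Polynomial.map_map,
    Subsingleton.elim ((algebraMap ℚ ℂ).comp (Int.castRingHom ℚ)) (Int.castRingHom ℂ)]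
  exact hnd

variable (Ω : Type u) [Field Ω] [Algebra k Ω] [IsAlgClosed Ω] {g : ℕ} (hA : topologicalKrullDim A.left = (g : ℕ))

include hπb hπapp hq hA in
/-- The roots of the characteristic polynomial of the Frobenius have absolute value `√q`. -/
theorem norm_root_frob {P : ℤ[X]}
    (hP : IsCharPoly g (endBc Ω A (EndAV.End.of πA)) (P.map (Int.castRingHom ℚ))) :
    ∀ α ∈ (P.map (Int.castRingHom ℂ)).roots, ‖α‖ = Real.sqrt q := by
  obtain ⟨Q, hQm, hQ, hQ0, hn, -⟩ := exists_weil_poly πA hπb hπle hπapp hq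
  intro α hα
  refine hn α (mem_roots'.2 ⟨((hQm.map _)).ne_zero, ?_⟩)
  refine eval_root_eq_zero (dim_bc Ω A hA) hP (mu := Q) ?_ (K := ℂ) ?_
  · rw [aeval_def, Subsingleton.elim (algebraMap ℤ _) ((endBc Ω A).comp (algebraMap ℤ (EndAV.End A))),
      ← hom_eval₂, ← aeval_def, hQ0, map_zero]
  · rwa [Polynomial.map_map, Subsingleton.elim ((algebraMap ℚ ℂ).comp (Int.castRingHom ℚ)) (Int.castRingHom ℂ)]

end AVAmpleLib

end
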